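import Cfsg.Agent.H992.E8X.Sig
import Cfsg.Agent.H238.E8.Frame
import Cfsg.Agent.ChevalleyStructure.SparseEng
import Mathlib.LinearAlgebra.Matrix.ToLin
import Mathlib.Tactic
import Mathlib.Data.Nat.Notation
import Cfsg.Agent.ChevFast.ActE8
import Cfsg.Agent.H791.E8L.Rel2_m3
import Cfsg.Agent.Lib.FinFast
import Mathlib
import Cfsg.Agent.FastGrp
import Cfsg.Agent.Prune
set_option linter.all false

section
prune_inst 0x7fffbdfcbfb8addfdfff7e7faedfdffcfbb13fffe6dff943ffe063ff0b9f7b0089c16b8d0fe010fc0ef6e01410f87b53ff7eefffe86bd87ffffd1ff41ffbffcfedf73508519c88b40fbc2ff703f07f8e7f3fffffffffffffffffffffffffffaeffbfffffffff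

-- part: H64/E83/Act
section
set_option linter.all false
open scoped Cfsg.Agent.FastGrp

/-!
# Sparse vectors: the action of root elements of `E₈(3)` on the Lie algebra (helper64)

`vec l` : the vector of a sparse list of (root, integer coefficient); `xa r t l` : the list of `x_r(t) (vec l)`
(no entry `±r`); `eqv l l'` : equality modulo 3.
-/

set_option autoImplicit false

namespace Cfsg.Agent.H64.E83

open Matrix Cfsg Cfsg.Lie Cfsg.Agent.ChevalleyStructure Cfsg.Agent.ChevalleyStructure.Elts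
open Cfsg.Agent.H992.E8X

/-- the matrix of an element -/
abbrev mx (g : ↥(chevE8.group (ZMod 3))) : Matrix chevE8.Idx chevE8.Idx (ZMod 3) :=
  ((g : GL chevE8.Idx (ZMod 3)) : Matrix chevE8.Idx chevE8.Idx (ZMod 3))

/-- the Lie algebra -/
abbrev L3 : Type := chevE8.Idx → ZMod 3

/-- the root vector of index `k` -/
def er (k : ℕ) : L3 := fun i => match i with
  | Sum.inl _ => 0
  | Sum.inr u => if u.val = k then 1 else 0

theorem er_eq {k : ℕ} (hk : k < chevE8.nroots) : er k = Pi.single (Sum.inr ⟨k, hk⟩) 1 := by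
  funext i
  rcases i with i | u
  · show (0 : ZMod 3) = _
    rw [Pi.single_eq_of_ne (by simp)]
  · show (if u.val = k then (1 : ZMod 3) else 0) = _
    by_cases h : u = ⟨k, hk⟩
    · subst h
      rw [Pi.single_eq_same, if_pos rfl]
    · rw [Pi.single_eq_of_ne (fun h1 => h (Sum.inr.inj h1)), if_neg (fun h1 => h (Fin.ext h1))]

/-- the vector of a sparse list -/
def vec (l : List (ℕ × ℤ)) : L3 := (l.map fun p => (p.2 : ZMod 3) • er p.1).sum

theorem vec_nil : vec [] = 0 := rfl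

theorem vec_cons (p : ℕ × ℤ) (l : List (ℕ × ℤ)) : vec (p :: l) = (p.2 : ZMod 3) • er p.1 + vec l := by
  unfold vec; rw [List.map_cons, List.sum_cons]

theorem vec_append (l l' : List (ℕ × ℤ)) : vec (l ++ l') = vec l + vec l' := by
  unfold vec; rw [List.map_append, List.sum_append]

/-- entries of the chain table -/
def ch (r s : ℕ) : List (ℕ × Array (ℕ × ℤ)) := (chevE8.chain.getD r #[]).toList.filter (fun e => e.1 = s)

/-- the check of a column -/
def okc (r s : ℕ) : Bool :=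
  Nat.blt r 240 && Nat.blt s 240 && !(Nat.beq s r) && !(Nat.beq s (chevE8.negIdx.getD r 0)) &&
    (match ch r s with
      | [] => true
      | [e] => (match e.2.toList with
        | [q] => Nat.blt q.1 240
        | _ => false)
      | _ => false)

/-- the image of a root vector minus itself -/
def dx (r : ℕ) (t : ℤ) (s : ℕ) : List (ℕ × ℤ) :=
  match ch r s with
    | [e] => (match e.2.toList with
      | [q] => [(q.1, q.2 * t)]
      | _ => [])
    | _ => []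

theorem X_er {r s : ℕ} (h : okc r s = true) (t : ℤ) :
    mx (X r (t : ZMod 3)) *ᵥ er s = er s + vec (dx r t s) := by
  unfold okc at h
  simp only [Bool.and_eq_true, Bool.not_eq_true'] at h
  obtain ⟨⟨⟨⟨h1, h2⟩, h3⟩, h4⟩, h5⟩ := h
  have hr : r < chevE8.nroots := Nat.le_of_ble_eq_true h1
  have hs : s < chevE8.nroots := Nat.le_of_ble_eq_true h2
  have hsr : s ≠ r := Nat.ne_of_beq_eq_false h3
  have hsn : s ≠ chevE8.negIdx.getD r 0 := Nat.ne_of_beq_eq_false h4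
  rw [er_eq hs]
  have e1 : mx (X r (t : ZMod 3)) = chevE8.xMat (ZMod 3) ⟨r, hr⟩ (t : ZMod 3) := by
    show chevE8.x (ZMod 3) r (t : ZMod 3) = _
    exact x_of_lt hr _
  rw [e1, Matrix.mulVec_single_one]
  have hcol : ∀ u : Fin chevE8.nroots, (chevE8.xMat (ZMod 3) ⟨r, hr⟩ (t : ZMod 3)).col (Sum.inr ⟨s, hs⟩) (Sum.inr u) =
      (if u = (⟨s, hs⟩ : Fin chevE8.nroots) then 1 else 0) +
        ((chevE8.chainCoeff r s u.val).map fun km => ((km.2 : ℤ) : ZMod 3) * (t : ZMod 3) ^ km.1).sum := by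
    intro u
    show (if (⟨s, hs⟩ : Fin chevE8.nroots) = ⟨r, hr⟩ then (if u = (⟨r, hr⟩ : Fin chevE8.nroots) then (1 : ZMod 3) else 0) else
      if s = chevE8.negIdx.getD r 0 then _ else _) = _
    rw [if_neg (fun h => hsr (Fin.mk.inj h)), if_neg hsn]
  have hcol0 : ∀ i : Fin chevE8.rank, (chevE8.xMat (ZMod 3) ⟨r, hr⟩ (t : ZMod 3)).col (Sum.inr ⟨s, hs⟩) (Sum.inl i) = 0 := by
    intro i
    show (if (⟨s, hs⟩ : Fin chevE8.nroots) = ⟨r, hr⟩ then (0 : ZMod 3) else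
      if s = chevE8.negIdx.getD r 0 then _ else (0 : ZMod 3)) = 0
    rw [if_neg (fun h => hsr (Fin.mk.inj h)), if_neg hsn]
  have hcc : ∀ u : ℕ, chevE8.chainCoeff r s u = (ch r s).flatMap fun e =>
      ((e.2.toList.zipIdx).filter (fun q => q.1.1 = u)).map fun q => (q.2 + 1, q.1.2) := fun u => rfl
  unfold dx
  rcases hch : ch r s with _ | ⟨e, _ | ⟨e', l⟩⟩
  · show _ = _ + vec []
    rw [vec_nil, add_zero]
    funext i
    rcases i with i | u
    · rw [hcol0, Pi.single_eq_of_ne (by simp)]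
    · rw [hcol, hcc, hch]
      simp only [List.flatMap_nil, List.map_nil, List.sum_nil, add_zero]
      by_cases hu : u = ⟨s, hs⟩
      · subst hu; rw [if_pos rfl, Pi.single_eq_same]
      · rw [if_neg hu, Pi.single_eq_of_ne (fun h => hu (Sum.inr.inj h))]
  · rw [hch] at h5
    dsimp only at h5 ⊢
    rcases he : e.2.toList with _ | ⟨q, _ | ⟨q', l⟩⟩
    · rw [he] at h5; exact absurd h5 (by simp)
    · rw [he] at h5
      dsimp only at h5 ⊢
      have hq : q.1 < chevE8.nroots := Nat.le_of_ble_eq_true h5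
      rw [vec_cons, vec_nil, add_zero, er_eq hq]
      funext i
      rcases i with i | u
      · rw [hcol0, Pi.add_apply, Pi.smul_apply, Pi.single_eq_of_ne (by simp), Pi.single_eq_of_ne (by simp), smul_zero,
          add_zero]
      · rw [hcol, hcc, hch, Pi.add_apply, Pi.smul_apply]
        simp only [List.flatMap_cons, List.flatMap_nil, List.append_nil, he, List.zipIdx_singleton]
        refine congrArg₂ (· + ·) ?_ ?_
        · by_cases hu : u = ⟨s, hs⟩
          · subst hu; rw [if_pos rfl, Pi.single_eq_same]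
          · rw [if_neg hu, Pi.single_eq_of_ne (fun h => hu (Sum.inr.inj h))]
        · by_cases hu : u = ⟨q.1, hq⟩
          · subst hu
            rw [Pi.single_eq_same]
            simp
          · have hu' : ¬ (q.1 = u.val) := fun h => hu (Fin.ext h.symm)
            rw [Pi.single_eq_of_ne (fun h => hu (Sum.inr.inj h))]
            simp [hu']
    · rw [he] at h5; exact absurd h5 (by simp)
  · rw [hch] at h5; exact absurd h5 (by simp)

/-- the action on sparse lists -/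
def xa (r : ℕ) (t : ℤ) : List (ℕ × ℤ) → List (ℕ × ℤ)
  | [] => []
  | p :: l => p :: ((dx r t p.1).map fun q => (q.1, p.2 * q.2)) ++ xa r t l

/-- the check -/
def okl (r : ℕ) (l : List (ℕ × ℤ)) : Bool := l.all fun p => okc r p.1

theorem vec_smul (c : ℤ) (l : List (ℕ × ℤ)) : vec (l.map fun q => (q.1, c * q.2)) = (c : ZMod 3) • vec l := by
  induction l with
  | nil => rw [List.map_nil, vec_nil, smul_zero]
  | cons p l ih => rw [List.map_cons, vec_cons, vec_cons, ih, smul_add, smul_smul, Int.cast_mul]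

theorem X_vec {r : ℕ} {l : List (ℕ × ℤ)} (h : okl r l = true) (t : ℤ) :
    mx (X r (t : ZMod 3)) *ᵥ vec l = vec (xa r t l) := by
  induction l with
  | nil => show _ *ᵥ (0 : L3) = 0; exact Matrix.mulVec_zero _
  | cons p l ih =>
    unfold okl at h
    rw [List.all_cons, Bool.and_eq_true] at h
    show _ = vec (p :: (((dx r t p.1).map fun q => (q.1, p.2 * q.2)) ++ xa r t l))
    rw [vec_cons, vec_cons, vec_append, vec_smul, ← ih h.2, Matrix.mulVec_add, Matrix.mulVec_smul,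
      X_er h.1, smul_add, add_assoc]

/-- the coefficient -/
def cf (l : List (ℕ × ℤ)) (k : ℕ) : ℤ := (l.map fun p => if p.1 = k then p.2 else 0).sum

theorem vec_inl (l : List (ℕ × ℤ)) (i : Fin chevE8.rank) : vec l (Sum.inl i) = 0 := by
  induction l with
  | nil => rfl
  | cons p l ih => rw [vec_cons, Pi.add_apply, ih, add_zero]; exact mul_zero _

theorem vec_inr (l : List (ℕ × ℤ)) (u : Fin chevE8.nroots) : vec l (Sum.inr u) = (cf l u.val : ZMod 3) := by
  induction l with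
  | nil => show (0 : ZMod 3) = _; simp [cf]
  | cons p l ih =>
    rw [vec_cons, Pi.add_apply, ih]
    show (p.2 : ZMod 3) • (if u.val = p.1 then (1 : ZMod 3) else 0) + _ = _
    unfold cf
    rw [List.map_cons, List.sum_cons]
    by_cases h : u.val = p.1
    · rw [if_pos h, if_pos h.symm, smul_eq_mul, mul_one, Int.cast_add]
    · rw [if_neg h, if_neg (fun h1 => h h1.symm), smul_zero, zero_add, zero_add]

theorem cf_zero {l : List (ℕ × ℤ)} {k : ℕ} (h : ∀ p ∈ l, p.1 ≠ k) : cf l k = 0 := by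
  induction l with
  | nil => rfl
  | cons p l ih =>
    unfold cf
    rw [List.map_cons, List.sum_cons, if_neg (h p (List.mem_cons_self ..)), zero_add]
    exact ih fun q hq => h q (List.mem_cons_of_mem _ hq)

/-- equality modulo 3 -/
def eqv (l l' : List (ℕ × ℤ)) : Bool := (l ++ l').all fun p => decide ((cf l p.1 - cf l' p.1) % 3 = 0)

theorem vec_eq {l l' : List (ℕ × ℤ)} (h : eqv l l' = true) : vec l = vec l' := by
  unfold eqv at h
  rw [List.all_eq_true] at h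
  funext i
  rcases i with i | u
  · rw [vec_inl, vec_inl]
  · rw [vec_inr, vec_inr]
    by_cases hu : ∃ p ∈ l ++ l', p.1 = u.val
    · obtain ⟨p, hp, hpu⟩ := hu
      have h1 := of_decide_eq_true (h p hp)
      rw [hpu] at h1
      have h2 : ((3 : ℕ) : ℤ) ∣ cf l u.val - cf l' u.val := Int.dvd_of_emod_eq_zero h1
      exact sub_eq_zero.1 (by rw [← Int.cast_sub]; exact (ZMod.intCast_zmod_eq_zero_iff_dvd _ 3).2 h2)
    · have h1 : ∀ p ∈ l, p.1 ≠ u.val := fun p hp h2 => hu ⟨p, List.mem_append_left _ hp, h2⟩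
      have h2 : ∀ p ∈ l', p.1 ≠ u.val := fun p hp h2 => hu ⟨p, List.mem_append_right _ hp, h2⟩
      rw [cf_zero h1, cf_zero h2]

end Cfsg.Agent.H64.E83

private theorem dce_13bd10de7949 : _root_.True := by
  try have : _root_.True := by simp only [_root_.Cfsg.Agent.H64.E83.okc._sparseCasesOn_2.else_eq]
  try have : _root_.True := by simp only [_root_.Cfsg.Agent.H64.E83.okc._sparseCasesOn_1.else_eq]
  try have : _root_.True := by simp only [_root_.Cfsg.Agent.H64.E83.cf.eq_1]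
  exact _root_.True.intro
end

-- part: H576/E8L/Io
section
set_option linter.all false
open scoped Cfsg.Agent.FastGrp

-- part: H576/E8L/Str
section
/-!
# S5925: `SL₅ × SL₅` acting on the root vectors of `E₈` outside the two `A₄` (helper576)

For the homomorphisms `ph1 K`, `ph2 K : SL₅(K) →* E₈(K)` of helper238 the `200` root vectors outside the two `A₄` form
strings of type `V`, `V*` (length 5) and `Λ² V`, `Λ² V*` (length 10); tables with signs (`st1V`, ... for `ph1`,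
`st2V`, ... for `ph2`).  Main results: `ph1_V`, `ph1_Vd`, `ph1_L`, `ph1_Ld`, `ph2_V`, `ph2_Vd`, `ph2_L`, `ph2_Ld`.
-/

set_option autoImplicit false
set_option linter.unusedSectionVars false
set_option linter.unusedVariables false
set_option linter.style.longLine false
set_option linter.unusedSimpArgs false

namespace Cfsg.Agent.H576.E8L

open Matrix Cfsg Cfsg.Lie Cfsg.Agent.ChevalleyStructure Cfsg.Agent.ChevalleyStructure.Elts
open Cfsg.Agent.H992.E8X Cfsg.Agent.H238.E8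
open Cfsg.Agent.ChevalleyStructure.SparseEng (bvec act evalAct xMat_mulVec)


section gen
variable (K : Type*) [Field K]

/-- root vector with index `r` -/
def rv (r : ℕ) : chevE8.Idx → K := bvec chevE8 K (8 + r)

variable {K}

/-- action of a group element on a vector -/
def mv (g : ↥(chevE8.group K)) (w : chevE8.Idx → K) : chevE8.Idx → K :=
  ((g : GL chevE8.Idx K) : Matrix chevE8.Idx chevE8.Idx K) *ᵥ w

/-- entry of a table -/
def g1 (v : List (ℤ × ℕ)) (k : Fin 5) : ℤ × ℕ := v.getD k.val (0, 0)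

/-- entry of a table -/
def g2 (v : List (List (ℤ × ℕ))) (p q : Fin 5) : ℤ × ℕ := (v.getD p.val []).getD q.val (0, 0)

section use
variable {rt : Fin 5 → Fin 5 → ℕ} {sg : Fin 5 → Fin 5 → ℤ} {φ : SpecialLinearGroup (Fin 5) K →* ↥(chevE8.group K)}
  (hφ : ∀ (i j : Fin 5) (hij : i ≠ j) (c : K),
    φ (SpecialLinearGroup.transvection hij c) = X (rt i j) ((sg i j : K) * c))
include hφ

end use

end gen

end Cfsg.Agent.H576.E8L
end

-- part: H576/E8L/Io
section
/-!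
# S5925: coordinates of `C_L(h) = sl(W0) + sl(W1)` (helper576)

`w0, s0, w1, s1`: root indices and signs of the two `A₄` of the roots `r` with `r(h) = 1` (tools/plans/S5925_code/frame.txt);
`io (A0, A1) = Σ_{i ≠ j} A_t i j • (s_t i j e_(w_t i j)) + Σ_{a < 4} (A_t 0 0 + ... + A_t a a) • h_(w_t a (a+1))`.
-/

set_option autoImplicit false
set_option linter.unusedSectionVars false
set_option linter.unusedVariables false
set_option linter.style.longLine false
set_option linter.unusedSimpArgs false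

namespace Cfsg.Agent.H576.E8L

open Matrix Cfsg Cfsg.Lie Cfsg.Agent.ChevalleyStructure Cfsg.Agent.ChevalleyStructure.Elts
open Cfsg.Agent.H992.E8X Cfsg.Agent.H238.E8
open Cfsg.Agent.ChevalleyStructure.SparseEng (bvec act evalAct xMat_mulVec)

/-- root indices of `W0` -/
def w0 : Fin 5 → Fin 5 → ℕ := ![![0, 31, 6, 64, 24], ![208, 0, 60, 151, 108], ![233, 179, 0, 212, 172], ![175, 88, 27, 0, 81], ![215, 131, 67, 158, 0]]
/-- signs of `W0` -/
def s0 : Fin 5 → Fin 5 → ℤ := ![![1, 1, 1, -1, 1], ![1, 1, 1, -1, -1], ![1, 1, 1, 1, 1], ![-1, -1, 1, 1, 1], ![1, -1, 1, 1, 1]]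
/-- root indices of `W1` -/
def w1 : Fin 5 → Fin 5 → ℕ := ![![0, 7, 20, 51, 55], ![232, 0, 168, 199, 203], ![219, 71, 0, 154, 159], ![188, 40, 85, 0, 127], ![184, 36, 80, 112, 0]]
/-- signs of `W1` -/
def s1 : Fin 5 → Fin 5 → ℤ := ![![1, 1, -1, -1, 1], ![1, 1, 1, -1, 1], ![-1, 1, 1, 1, -1], ![-1, -1, 1, 1, 1], ![1, 1, -1, 1, 1]]

section
variable (K : Type*) [Field K]

/-- the coroot vector `h_r` -/
def hv (r : ℕ) : chevE8.Idx → K :=
  Sum.elim (fun i => (((chevE8Coroot.getD r #[]).getD i.val 0 : ℤ) : K)) (fun _ => 0)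

variable {K}

/-- partial sums of the diagonal -/
def ps (A : Matrix (Fin 5) (Fin 5) K) (b : Fin 4) : K := ∑ c : Fin 5, if c ≤ b.castSucc then A c c else 0

variable (K)

/-- one `gl₅` block -/
def WM (w : Fin 5 → Fin 5 → ℕ) (s : Fin 5 → Fin 5 → ℤ) : Matrix (Fin 5) (Fin 5) K →ₗ[K] (chevE8.Idx → K) where
  toFun A := (∑ i, ∑ j, if i = j then 0 else ((s i j : K) * A i j) • rv K (w i j)) +
    ∑ b : Fin 4, ps A b • hv K (w b.castSucc b.succ)
  map_add' A B := by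
    have e1 : ∀ i j : Fin 5, (if i = j then (0 : chevE8.Idx → K) else ((s i j : K) * (A + B) i j) • rv K (w i j)) =
        (if i = j then 0 else ((s i j : K) * A i j) • rv K (w i j)) +
          (if i = j then 0 else ((s i j : K) * B i j) • rv K (w i j)) := by
      intro i j
      split_ifs
      · simp
      · rw [Matrix.add_apply, mul_add, add_smul]
    have e2 : ∀ b : Fin 4, ps (A + B) b = ps A b + ps B b := by
      intro b
      unfold ps
      rw [← Finset.sum_add_distrib]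
      refine Finset.sum_congr rfl fun c _ => ?_
      split_ifs
      · rfl
      · simp
    simp only [e1, e2, Finset.sum_add_distrib, add_smul]
    abel
  map_smul' c A := by
    have e1 : ∀ i j : Fin 5, (if i = j then (0 : chevE8.Idx → K) else ((s i j : K) * (c • A) i j) • rv K (w i j)) =
        c • (if i = j then 0 else ((s i j : K) * A i j) • rv K (w i j)) := by
      intro i j
      split_ifs
      · simp
      · rw [Matrix.smul_apply, smul_eq_mul, smul_smul, mul_left_comm]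
    have e2 : ∀ b : Fin 4, ps (c • A) b = c * ps A b := by
      intro b
      unfold ps
      rw [Finset.mul_sum]
      refine Finset.sum_congr rfl fun d _ => ?_
      split_ifs
      · rfl
      · simp
    simp only [e1, e2, RingHom.id_apply, smul_add, Finset.smul_sum, smul_smul]

/-- coordinates of `C_L(h)` -/
def io : (Matrix (Fin 5) (Fin 5) K × Matrix (Fin 5) (Fin 5) K) →ₗ[K] (chevE8.Idx → K) :=
  (WM K w0 s0).coprod (WM K w1 s1)

variable {K}

theorem WM_apply (w : Fin 5 → Fin 5 → ℕ) (s : Fin 5 → Fin 5 → ℤ) (A : Matrix (Fin 5) (Fin 5) K) :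
    WM K w s A = (∑ i, ∑ j, if i = j then 0 else ((s i j : K) * A i j) • rv K (w i j)) +
      ∑ b : Fin 4, ps A b • hv K (w b.castSucc b.succ) := rfl

theorem io_apply (A : Matrix (Fin 5) (Fin 5) K × Matrix (Fin 5) (Fin 5) K) :
    io K A = WM K w0 s0 A.1 + WM K w1 s1 A.2 := rfl

theorem rv_inl (r : ℕ) (i : Fin chevE8.rank) : rv K r (Sum.inl i) = 0 := by
  unfold rv bvec
  have : i.val < 8 := i.isLt
  simp only
  rw [if_neg (by omega)]

theorem rv_inr (r : ℕ) (u : Fin chevE8.nroots) : rv K r (Sum.inr u) = if u.val = r then 1 else 0 := by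
  unfold rv bvec
  simp only
  have : chevE8.rank = 8 := rfl
  by_cases h : u.val = r
  · rw [if_pos h, if_pos (by omega)]
  · rw [if_neg h, if_neg (by omega)]

theorem hv_inr (r : ℕ) (u : Fin chevE8.nroots) : hv K r (Sum.inr u) = 0 := rfl

theorem hv_inl (r : ℕ) (i : Fin chevE8.rank) :
    hv K r (Sum.inl i) = (((chevE8Coroot.getD r #[]).getD i.val 0 : ℤ) : K) := rfl

theorem WM_inr (w : Fin 5 → Fin 5 → ℕ) (s : Fin 5 → Fin 5 → ℤ) (A : Matrix (Fin 5) (Fin 5) K)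
    (u : Fin chevE8.nroots) :
    WM K w s A (Sum.inr u) = ∑ i, ∑ j, if i ≠ j ∧ u.val = w i j then (s i j : K) * A i j else 0 := by
  rw [WM_apply, Pi.add_apply, Finset.sum_apply, Finset.sum_apply]
  have e2 : ∑ b : Fin 4, (ps A b • hv K (w b.castSucc b.succ)) (Sum.inr u) = 0 := by
    apply Finset.sum_eq_zero
    intro b _
    rw [Pi.smul_apply, hv_inr, smul_zero]
  rw [e2, add_zero]
  refine Finset.sum_congr rfl fun i _ => ?_
  rw [Finset.sum_apply]
  refine Finset.sum_congr rfl fun j _ => ?_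
  by_cases h : i = j
  · rw [if_pos h, if_neg (fun h' => h'.1 h)]; rfl
  · rw [if_neg h, Pi.smul_apply, rv_inr, smul_eq_mul]
    by_cases h2 : u.val = w i j
    · rw [if_pos h2, if_pos ⟨h, h2⟩, mul_one]
    · rw [if_neg h2, if_neg (fun h' => h2 h'.2), mul_zero]

theorem WM_inl (w : Fin 5 → Fin 5 → ℕ) (s : Fin 5 → Fin 5 → ℤ) (A : Matrix (Fin 5) (Fin 5) K)
    (i : Fin chevE8.rank) :
    WM K w s A (Sum.inl i) =
      ∑ b : Fin 4, ps A b * (((chevE8Coroot.getD (w b.castSucc b.succ) #[]).getD i.val 0 : ℤ) : K) := by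
  rw [WM_apply, Pi.add_apply, Finset.sum_apply, Finset.sum_apply]
  have e2 : ∑ a : Fin 5, (∑ j, if a = j then (0 : chevE8.Idx → K) else ((s a j : K) * A a j) • rv K (w a j)) (Sum.inl i)
      = 0 := by
    apply Finset.sum_eq_zero
    intro b _
    rw [Finset.sum_apply]
    apply Finset.sum_eq_zero
    intro j _
    split_ifs
    · rfl
    · rw [Pi.smul_apply, rv_inl, smul_zero]
  rw [e2, zero_add]
  refine Finset.sum_congr rfl fun b _ => ?_
  rw [Pi.smul_apply, hv_inl, smul_eq_mul]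

theorem w0_lt (i j : Fin 5) : w0 i j < 240 := by revert i j; decide
theorem w1_lt (i j : Fin 5) : w1 i j < 240 := by revert i j; decide
theorem w0_inj : ∀ i j i' j' : Fin 5, i ≠ j → i' ≠ j' → w0 i j = w0 i' j' → i = i' ∧ j = j' := by decide +kernel
theorem w1_inj : ∀ i j i' j' : Fin 5, i ≠ j → i' ≠ j' → w1 i j = w1 i' j' → i = i' ∧ j = j' := by decide +kernel
theorem w01_ne : ∀ i j i' j' : Fin 5, i ≠ j → i' ≠ j' → w0 i j ≠ w1 i' j' := by decide +kernel
theorem s0_sq : ∀ i j : Fin 5, s0 i j * s0 i j = 1 := by decide +kernel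
theorem s1_sq : ∀ i j : Fin 5, s1 i j * s1 i j = 1 := by decide +kernel

theorem s0_sqK (i j : Fin 5) : (s0 i j : K) * (s0 i j : K) = 1 := by
  exact_mod_cast congrArg (Int.cast (R := K)) (s0_sq i j)
theorem s1_sqK (i j : Fin 5) : (s1 i j : K) * (s1 i j : K) = 1 := by
  exact_mod_cast congrArg (Int.cast (R := K)) (s1_sq i j)

theorem WM_inr_self {w : Fin 5 → Fin 5 → ℕ} {s : Fin 5 → Fin 5 → ℤ}
    (hw : ∀ i j i' j' : Fin 5, i ≠ j → i' ≠ j' → w i j = w i' j' → i = i' ∧ j = j')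
    (A : Matrix (Fin 5) (Fin 5) K) {i j : Fin 5} (hij : i ≠ j) {u : Fin chevE8.nroots} (hu : u.val = w i j) :
    WM K w s A (Sum.inr u) = (s i j : K) * A i j := by
  rw [WM_inr, Finset.sum_eq_single i, Finset.sum_eq_single j]
  · rw [if_pos ⟨hij, hu⟩]
  · intro b _ hb
    rw [if_neg]
    rintro ⟨h1, h2⟩
    exact hb ((hw i b i j h1 hij (h2.symm.trans hu)).2)
  · intro h; exact absurd (Finset.mem_univ _) h
  · intro b _ hb
    apply Finset.sum_eq_zero
    intro c _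
    rw [if_neg]
    rintro ⟨h1, h2⟩
    exact hb ((hw b c i j h1 hij (h2.symm.trans hu)).1)
  · intro h; exact absurd (Finset.mem_univ _) h

theorem WM_inr_out {w : Fin 5 → Fin 5 → ℕ} {s : Fin 5 → Fin 5 → ℤ} (A : Matrix (Fin 5) (Fin 5) K)
    {u : Fin chevE8.nroots} (hu : ∀ i j, i ≠ j → u.val ≠ w i j) : WM K w s A (Sum.inr u) = 0 := by
  rw [WM_inr]
  apply Finset.sum_eq_zero
  intro i _
  apply Finset.sum_eq_zero
  intro j _
  rw [if_neg]
  rintro ⟨h1, h2⟩
  exact hu i j h1 h2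

theorem io_root0 (A0 A1 : Matrix (Fin 5) (Fin 5) K) {i j : Fin 5} (hij : i ≠ j) {u : Fin chevE8.nroots}
    (hu : u.val = w0 i j) : io K (A0, A1) (Sum.inr u) = (s0 i j : K) * A0 i j := by
  rw [io_apply, Pi.add_apply, WM_inr_self w0_inj A0 hij hu, WM_inr_out, add_zero]
  intro i' j' h' h
  exact w01_ne i j i' j' hij h' (hu.symm.trans h)

theorem io_root1 (A0 A1 : Matrix (Fin 5) (Fin 5) K) {i j : Fin 5} (hij : i ≠ j) {u : Fin chevE8.nroots}
    (hu : u.val = w1 i j) : io K (A0, A1) (Sum.inr u) = (s1 i j : K) * A1 i j := by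
  rw [io_apply, Pi.add_apply, WM_inr_self w1_inj A1 hij hu, WM_inr_out, zero_add]
  intro i' j' h' h
  exact w01_ne i' j' i j h' hij (h.symm.trans hu)

theorem io_root_out (A : Matrix (Fin 5) (Fin 5) K × Matrix (Fin 5) (Fin 5) K) {u : Fin chevE8.nroots}
    (h0 : ∀ i j, i ≠ j → u.val ≠ w0 i j) (h1 : ∀ i j, i ≠ j → u.val ≠ w1 i j) : io K A (Sum.inr u) = 0 := by
  rw [io_apply, Pi.add_apply, WM_inr_out A.1 h0, WM_inr_out A.2 h1, add_zero]

/-- coroot coordinates of the eight simple roots of `W0`, `W1` -/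
def hc : Fin 8 → Fin 8 → ℤ := fun b i =>
  if h : b.val < 4 then (chevE8Coroot.getD (w0 ⟨b.val, by omega⟩ ⟨b.val + 1, by omega⟩) #[]).getD i.val 0
  else (chevE8Coroot.getD (w1 ⟨b.val - 4, by omega⟩ ⟨b.val - 3, by omega⟩) #[]).getD i.val 0

/-- inverse of `hc` modulo 3 -/
def hd : Fin 8 → Fin 8 → ℤ := ![![-1, 1, 1, 1, -1, 1, -1, 1], ![-1, -1, -1, 1, -1, 0, -1, 1], ![0, 0, -1, 1, 1, 0, -1, 1], ![-1, 1, 0, 0, -1, 1, 0, 1], ![1, 1, -1, -1, 1, -1, 0, -1], ![-1, -1, 1, 1, -1, 1, 0, -1], ![0, -1, -1, 1, -1, 1, 0, 1], ![-1, -1, 1, 0, -1, 1, -1, 1]]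

theorem hc_hd : ∀ b b' : Fin 8, ((∑ i, hc b i * hd i b') - if b = b' then 1 else 0) % 3 = 0 := by decide +kernel
theorem hd_hc : ∀ i i' : Fin 8, ((∑ b, hd i b * hc b i') - if i = i' then 1 else 0) % 3 = 0 := by decide +kernel

theorem cast_mod3 [CharP K 3] {z : ℤ} (h : z % 3 = 0) : (z : K) = 0 := by
  obtain ⟨m, rfl⟩ := Int.dvd_of_emod_eq_zero h
  push_cast
  have : (3 : K) = 0 := by exact_mod_cast CharP.cast_eq_zero K 3
  rw [this, zero_mul]

theorem hc_hdK [CharP K 3] (b b' : Fin 8) : ∑ i, (hc b i : K) * (hd i b' : K) = if b = b' then 1 else 0 := by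
  have h := cast_mod3 (K := K) (hc_hd b b')
  push_cast at h
  rw [sub_eq_zero] at h
  exact h

theorem hd_hcK [CharP K 3] (i i' : Fin 8) : ∑ b, (hd i b : K) * (hc b i' : K) = if i = i' then 1 else 0 := by
  have h := cast_mod3 (K := K) (hd_hc i i')
  push_cast at h
  rw [sub_eq_zero] at h
  exact h

/-- the eight partial sums -/
def ps8 (A : Matrix (Fin 5) (Fin 5) K × Matrix (Fin 5) (Fin 5) K) (b : Fin 8) : K :=
  if h : b.val < 4 then ps A.1 ⟨b.val, h⟩ else ps A.2 ⟨b.val - 4, by omega⟩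

theorem io_inl (A : Matrix (Fin 5) (Fin 5) K × Matrix (Fin 5) (Fin 5) K) (i : Fin chevE8.rank) :
    io K A (Sum.inl i) = ∑ b : Fin 8, ps8 A b * (hc b i : K) := by
  rw [io_apply, Pi.add_apply, WM_inl, WM_inl]
  refine Eq.trans ?_ (Fin.sum_univ_add (a := 4) (b := 4) (fun b : Fin 8 => ps8 A b * (hc b i : K))).symm
  refine congrArg₂ (fun y z : K => y + z) ?_ ?_
  · refine Finset.sum_congr rfl fun b _ => ?_
    have hb : (Fin.castAdd 4 b).val < 4 := b.isLt
    unfold ps8 hc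
    rw [dif_pos hb, dif_pos hb]
    rfl
  · refine Finset.sum_congr rfl fun b _ => ?_
    have hb : ¬ (Fin.natAdd 4 b).val < 4 := by simp
    unfold ps8 hc
    rw [dif_neg hb, dif_neg hb]
    have e1 : (⟨(Fin.natAdd 4 b).val - 4, by omega⟩ : Fin 4) = b := Fin.ext (by simp)
    have e2 : (⟨(Fin.natAdd 4 b).val - 4, by omega⟩ : Fin 5) = b.castSucc := Fin.ext (by simp)
    have e3 : (⟨(Fin.natAdd 4 b).val - 3, by omega⟩ : Fin 5) = b.succ := Fin.ext (by simp)
    rw [e1, e2, e3]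

theorem ps8_eq [CharP K 3] (A : Matrix (Fin 5) (Fin 5) K × Matrix (Fin 5) (Fin 5) K) (b : Fin 8) :
    ps8 A b = ∑ i : Fin 8, io K A (Sum.inl (i : Fin chevE8.rank)) * (hd i b : K) := by
  have e : ∀ i : Fin 8, io K A (Sum.inl (i : Fin chevE8.rank)) * (hd i b : K) =
      ∑ b', ps8 A b' * ((hc b' i : K) * (hd i b : K)) := by
    intro i
    refine (congrArg (fun z : K => z * (hd i b : K)) (io_inl A (i : Fin chevE8.rank))).trans ?_
    rw [Finset.sum_mul]
    exact Finset.sum_congr rfl fun b' _ => by ring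
  rw [Finset.sum_congr rfl fun i _ => e i, Finset.sum_comm]
  simp only [← Finset.mul_sum, hc_hdK]
  rw [Finset.sum_eq_single b]
  · simp
  · intro b' _ hb; rw [if_neg hb, mul_zero]
  · intro h; exact absurd (Finset.mem_univ _) h

theorem diag_zero {A : Matrix (Fin 5) (Fin 5) K} (ht : A.trace = 0) (h : ∀ b, ps A b = 0) (c : Fin 5) : A c c = 0 := by
  have e0 := h 0
  have e1 := h 1
  have e2 := h 2
  have e3 := h 3
  unfold ps at e0 e1 e2 e3
  rw [Fin.sum_univ_five] at e0 e1 e2 e3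
  rw [Matrix.trace, Fin.sum_univ_five] at ht
  simp only [Matrix.diag_apply] at ht
  have d0 : A 0 0 = 0 := by simpa [Fin.le_def] using e0
  have d1 : A 0 0 + A 1 1 = 0 := by simpa [Fin.le_def] using e1
  have d2 : A 0 0 + A 1 1 + A 2 2 = 0 := by simpa [Fin.le_def] using e2
  have d3 : A 0 0 + A 1 1 + A 2 2 + A 3 3 = 0 := by simpa [Fin.le_def] using e3
  have f1 : A 1 1 = 0 := by rw [d0, zero_add] at d1; exact d1
  have f2 : A 2 2 = 0 := by rw [d1, zero_add] at d2; exact d2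
  have f3 : A 3 3 = 0 := by rw [d2, zero_add] at d3; exact d3
  have f4 : A 4 4 = 0 := by rw [d3, zero_add] at ht; exact ht
  fin_cases c
  · exact d0
  · exact f1
  · exact f2
  · exact f3
  · exact f4

theorem io_ker [CharP K 3] {A0 A1 : Matrix (Fin 5) (Fin 5) K} (h0 : A0.trace = 0) (h1 : A1.trace = 0)
    (h : io K (A0, A1) = 0) : A0 = 0 ∧ A1 = 0 := by
  have hp : ∀ b, ps8 (A0, A1) b = 0 := by
    intro b
    rw [ps8_eq, h]
    simp
  have hp0 : ∀ b : Fin 4, ps A0 b = 0 := by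
    intro b
    have := hp ⟨b.val, by omega⟩
    unfold ps8 at this
    rw [dif_pos b.isLt] at this
    exact this
  have hp1 : ∀ b : Fin 4, ps A1 b = 0 := by
    intro b
    have := hp ⟨b.val + 4, by omega⟩
    unfold ps8 at this
    rw [dif_neg (by simp)] at this
    simpa using this
  constructor
  · ext i j
    by_cases hij : i = j
    · subst hij; exact diag_zero h0 hp0 i
    · have := io_root0 A0 A1 hij (u := ⟨w0 i j, w0_lt i j⟩) rfl
      rw [h, Pi.zero_apply] at this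
      have e := congrArg (fun z => (s0 i j : K) * z) this
      simp only [mul_zero] at e
      rw [← mul_assoc, s0_sqK, one_mul] at e
      exact e.symm
  · ext i j
    by_cases hij : i = j
    · subst hij; exact diag_zero h1 hp1 i
    · have := io_root1 A0 A1 hij (u := ⟨w1 i j, w1_lt i j⟩) rfl
      rw [h, Pi.zero_apply] at this
      have e := congrArg (fun z => (s1 i j : K) * z) this
      simp only [mul_zero] at e
      rw [← mul_assoc, s1_sqK, one_mul] at e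
      exact e.symm

theorem io_inj [CharP K 3] {A0 A1 B0 B1 : Matrix (Fin 5) (Fin 5) K} (h0 : A0.trace = 0) (h1 : A1.trace = 0)
    (g0 : B0.trace = 0) (g1 : B1.trace = 0) (h : io K (A0, A1) = io K (B0, B1)) : A0 = B0 ∧ A1 = B1 := by
  have h2 : io K (A0 - B0, A1 - B1) = 0 := by
    have : (A0 - B0, A1 - B1) = (A0, A1) - (B0, B1) := rfl
    rw [this, map_sub, h, sub_self]
  obtain ⟨e0, e1⟩ := io_ker (by rw [Matrix.trace_sub, h0, g0, sub_zero]) (by rw [Matrix.trace_sub, h1, g1, sub_zero]) h2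
  exact ⟨sub_eq_zero.1 e0, sub_eq_zero.1 e1⟩

/-- vectors supported on the roots of `W0`, `W1` and the Cartan coordinates -/
def Supp (v : chevE8.Idx → K) : Prop :=
  ∀ u : Fin chevE8.nroots, (∀ i j, i ≠ j → u.val ≠ w0 i j) → (∀ i j, i ≠ j → u.val ≠ w1 i j) → v (Sum.inr u) = 0

theorem supp_io (A : Matrix (Fin 5) (Fin 5) K × Matrix (Fin 5) (Fin 5) K) : Supp (io K A) :=
  fun _ h0 h1 => io_root_out A h0 h1

/-- the inverse map -/
def oi (w : Fin 5 → Fin 5 → ℕ) (s : Fin 5 → Fin 5 → ℤ) (hw : ∀ i j, w i j < 240) (q : Fin 4 → K)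
    (v : chevE8.Idx → K) : Matrix (Fin 5) (Fin 5) K :=
  Matrix.of fun i j => if i = j then
      (if h : i.val < 4 then q ⟨i.val, h⟩ else 0) - (if h : 0 < i.val then q ⟨i.val - 1, by omega⟩ else 0)
    else (s i j : K) * v (Sum.inr ⟨w i j, hw i j⟩)

theorem oi_trace (w : Fin 5 → Fin 5 → ℕ) (s : Fin 5 → Fin 5 → ℤ) (hw : ∀ i j, w i j < 240) (q : Fin 4 → K)
    (v : chevE8.Idx → K) : (oi w s hw q v).trace = 0 := by
  rw [Matrix.trace, Fin.sum_univ_five]
  simp only [Matrix.diag_apply, oi, Matrix.of_apply, if_true]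
  simp

theorem oi_ps (w : Fin 5 → Fin 5 → ℕ) (s : Fin 5 → Fin 5 → ℤ) (hw : ∀ i j, w i j < 240) (q : Fin 4 → K)
    (v : chevE8.Idx → K) (b : Fin 4) : ps (oi w s hw q v) b = q b := by
  unfold ps
  rw [Fin.sum_univ_five]
  simp only [oi, Matrix.of_apply, if_true]
  fin_cases b
  · simp [Fin.le_def]
  · simp [Fin.le_def]
  · simp [Fin.le_def]
  · simp [Fin.le_def]

theorem io_surj [CharP K 3] {v : chevE8.Idx → K} (hv : Supp v) :
    ∃ A0 A1 : Matrix (Fin 5) (Fin 5) K, A0.trace = 0 ∧ A1.trace = 0 ∧ io K (A0, A1) = v := by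
  let q : Fin 8 → K := fun b => ∑ i : Fin 8, v (Sum.inl i) * (hd i b : K)
  let A0 := oi w0 s0 w0_lt (fun b => q ⟨b.val, by omega⟩) v
  let A1 := oi w1 s1 w1_lt (fun b => q ⟨b.val + 4, by omega⟩) v
  refine ⟨A0, A1, oi_trace _ _ _ _ _, oi_trace _ _ _ _ _, ?_⟩
  funext a
  rcases a with i | u
  · refine (io_inl (K := K) (A0, A1) i).trans ?_
    have e : ∀ b : Fin 8, ps8 (A0, A1) b = q b := by
      intro b
      unfold ps8
      split_ifs with h
      · exact oi_ps w0 s0 w0_lt (fun b => q ⟨b.val, by omega⟩) v ⟨b.val, h⟩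
      · refine (oi_ps w1 s1 w1_lt (fun b => q ⟨b.val + 4, by omega⟩) v ⟨b.val - 4, by omega⟩).trans ?_
        show q _ = q _
        congr 1
        apply Fin.ext
        show b.val - 4 + 4 = b.val
        omega
    simp only [e]
    show ∑ b : Fin 8, (∑ i' : Fin 8, v (Sum.inl i') * (hd i' b : K)) * (hc b i : K) = _
    simp only [Finset.sum_mul]
    rw [Finset.sum_comm]
    obtain ⟨k, hk⟩ : ∃ k : Fin 8, k = i := ⟨i, rfl⟩
    have e2 : ∀ i' : Fin 8, ∑ b : Fin 8, v (Sum.inl i') * (hd i' b : K) * (hc b k : K) =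
        v (Sum.inl i') * if i' = k then 1 else 0 := by
      intro i'
      rw [← hd_hcK (K := K) i' k, Finset.mul_sum]
      exact Finset.sum_congr rfl fun b _ => by ring
    subst hk
    refine (Finset.sum_congr rfl fun i' _ => e2 i').trans ?_
    rw [Finset.sum_eq_single k]
    · rw [if_pos rfl, mul_one]
    · intro b _ hb; rw [if_neg hb, mul_zero]
    · intro h; exact absurd (Finset.mem_univ _) h
  · by_cases h0 : ∃ i j, i ≠ j ∧ u.val = w0 i j
    · obtain ⟨i, j, hij, hu⟩ := h0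
      rw [io_root0 A0 A1 hij hu]
      show (s0 i j : K) * (oi w0 s0 w0_lt _ v) i j = _
      simp only [oi, Matrix.of_apply, if_neg hij]
      rw [← mul_assoc, s0_sqK, one_mul]
      congr 2
      exact Fin.ext hu.symm
    · by_cases h1 : ∃ i j, i ≠ j ∧ u.val = w1 i j
      · obtain ⟨i, j, hij, hu⟩ := h1
        rw [io_root1 A0 A1 hij hu]
        show (s1 i j : K) * (oi w1 s1 w1_lt _ v) i j = _
        simp only [oi, Matrix.of_apply, if_neg hij]
        rw [← mul_assoc, s1_sqK, one_mul]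
        congr 2
        exact Fin.ext hu.symm
      · push Not at h0 h1
        rw [io_root_out _ h0 h1, hv u h0 h1]

/-- compatibility with ring homomorphisms (e.g. Frobenius) -/
theorem io_map {K' : Type*} [Field K'] (f : K →+* K') (A0 A1 : Matrix (Fin 5) (Fin 5) K) (a : chevE8.Idx) :
    io K' (A0.map f, A1.map f) a = f (io K (A0, A1) a) := by
  have hps : ∀ (A : Matrix (Fin 5) (Fin 5) K) (b : Fin 4), ps (A.map f) b = f (ps A b) := by
    intro A b
    unfold ps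
    rw [map_sum]
    refine Finset.sum_congr rfl fun c _ => ?_
    split_ifs
    · rfl
    · simp
  have hW : ∀ (w : Fin 5 → Fin 5 → ℕ) (s : Fin 5 → Fin 5 → ℤ) (A : Matrix (Fin 5) (Fin 5) K),
      WM K' w s (A.map f) a = f (WM K w s A a) := by
    intro w s A
    rcases a with i | u
    · rw [WM_inl, WM_inl, map_sum]
      refine Finset.sum_congr rfl fun b _ => ?_
      rw [hps, map_mul, map_intCast]
    · rw [WM_inr, WM_inr, map_sum]
      refine Finset.sum_congr rfl fun i _ => ?_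
      rw [map_sum]
      refine Finset.sum_congr rfl fun j _ => ?_
      split_ifs
      · rw [map_mul, map_intCast]; rfl
      · simp
  rw [io_apply, io_apply, Pi.add_apply, Pi.add_apply, map_add, hW, hW]

end

end Cfsg.Agent.H576.E8L
end

private theorem dce_75c98740c01c : _root_.True := by
  try have : _root_.True := by simp only [_root_.Cfsg.Agent.H576.E8L.oi.eq_1]
  try have : _root_.True := by simp only [_root_.Cfsg.Agent.H576.E8L.mv.eq_1]
  exact _root_.True.intro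
end

-- part: H65/E8L/Chk
section
prune_inst 0x3404752202000018051202001040a0000000000b8000f9c00706084ff063e9432e01fa703f1081b810e07800000811000129424000000e0034004003012088824000334003042c008f800800000000000000000000000000000000051004000000000
set_option linter.all false
open scoped Cfsg.Agent.FastGrp

/-- decoders of the packed data (elaboration time only) -/
private noncomputable def pk61d (b S i : Nat) : Nat := Nat.mod (Nat.shiftRight S (Nat.mul b i)) (Nat.shiftLeft (nat_lit 1) b)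
private noncomputable def pk61c {α : Type} (t : Nat) (a : α) (f : Nat → α) : α := Nat.rec a (fun k _ => f k) t
private noncomputable def pk61f {α : Type} (t : Nat) (f : Nat → α) : α := Nat.rec (f Nat.zero) (fun k _ => f (Nat.succ k)) t
private noncomputable def pk61l {α : Type} (f : Nat → α) (s e : Nat) (tl : List α) : List α :=
  pk61f e fun e => Nat.rec tl (fun k ih => List.cons (pk61f (Nat.sub e (Nat.succ k)) f) ih) (Nat.sub e s)
private noncomputable def pk61o {α : Type} (O : (n : Nat) → OfNat α n → α) (I : (n : Nat) → OfNat α n) (t : Nat) : α :=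
  pk61c t (O (nat_lit 0) (I (nat_lit 0))) fun k => O (Nat.succ k) (I (Nat.succ k))
private noncomputable def lq26115f3af9 {T : Sort _} (f :
    type_of% (@_root_.List.cons.{0}) →
    type_of% (@_root_.Prod.mk.{0, 0}) →
    type_of% (@_root_.List.nil.{0}) →
    type_of% (@_root_.List.cons.{0} (List (Prod Nat Nat))) →
    type_of% (@_root_.List.cons.{0} (Nat)) → T) : T :=
  f (@_root_.List.cons.{0}) (@_root_.Prod.mk.{0, 0}) (@_root_.List.nil.{0}) (@_root_.List.cons.{0} (List (Prod Nat Nat))) (@_root_.List.cons.{0} (Nat))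

-- part: H65/E8L/Eng
section
/-!
# Sparse vectors over `F₃` in the 248-dimensional module of `E₈` (helper65)

A sparse vector is a sorted list of pairs `(code, coefficient)`; `app r c` applies the root element `x_r(c)`, `comb T`
applies the linear map with the columns `T`.
-/

set_option autoImplicit false
set_option linter.unusedSectionVars false

namespace Cfsg.Agent.H65.E8L.Eng

open Cfsg Cfsg.Lie Cfsg.Agent.ChevalleyStructure.SparseEng Matrix

/-- the module -/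
abbrev V : Type := chevE8.Idx → ZMod 3

/-- the basis vector with code `k` -/
abbrev bv (k : ℕ) : V := bvec chevE8 (ZMod 3) k

/-- value of a sparse vector -/
def spv (l : List (ℕ × ℕ)) : V := (l.map fun a => ((a.2 : ℕ) : ZMod 3) • bv a.1).sum

@[simp] theorem spv_nil : spv [] = 0 := rfl

theorem spv_cons (a : ℕ × ℕ) (l : List (ℕ × ℕ)) : spv (a :: l) = ((a.2 : ℕ) : ZMod 3) • bv a.1 + spv l := by
  simp [spv]

/-- add `c` times the basis vector `k` -/
def ins (k c : ℕ) : List (ℕ × ℕ) → List (ℕ × ℕ)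
  | [] => if c % 3 = 0 then [] else [(k, c % 3)]
  | a :: l =>
    if a.1 = k then (if (a.2 + c) % 3 = 0 then l else (k, (a.2 + c) % 3) :: l)
    else if k < a.1 then (if c % 3 = 0 then a :: l else (k, c % 3) :: a :: l)
    else a :: ins k c l

theorem cast_mod (c : ℕ) : ((c % 3 : ℕ) : ZMod 3) = c := ZMod.natCast_mod c 3

theorem cast_zero {c : ℕ} (h : c % 3 = 0) : (c : ZMod 3) = 0 := by rw [← cast_mod, h, Nat.cast_zero]

theorem spv_ins (k c : ℕ) (l : List (ℕ × ℕ)) : spv (ins k c l) = (c : ZMod 3) • bv k + spv l := by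
  induction l with
  | nil =>
    unfold ins
    split_ifs with h
    · rw [cast_zero h, zero_smul, zero_add]
    · rw [spv_cons, cast_mod]
  | cons a l ih =>
    unfold ins
    split_ifs with h1 h2 h3 h4
    · rw [spv_cons, ← h1, ← add_assoc, ← add_smul]
      have h5 : ((c : ℕ) : ZMod 3) + ((a.2 : ℕ) : ZMod 3) = 0 := by
        rw [add_comm, ← Nat.cast_add, cast_zero h2]
      rw [h5, zero_smul, zero_add]
    · rw [spv_cons, spv_cons, ← h1, ← add_assoc, ← add_smul, cast_mod, Nat.cast_add, add_comm (c : ZMod 3)]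
    · rw [cast_zero h4, zero_smul, zero_add]
    · rw [spv_cons, cast_mod]
    · rw [spv_cons, ih, spv_cons]
      abel

/-- residue of an integer -/
def z3 (z : ℤ) : ℕ := (z % 3).toNat

theorem cast_z3 (z : ℤ) : ((z3 z : ℕ) : ZMod 3) = (z : ZMod 3) := by
  have h1 : 0 ≤ z % 3 := Int.emod_nonneg _ (by norm_num)
  have h2 : ((z3 z : ℕ) : ℤ) = z % 3 := Int.toNat_of_nonneg h1
  have h3 : (((z3 z : ℕ) : ℤ) : ZMod 3) = ((z % 3 : ℤ) : ZMod 3) := by rw [h2]
  rw [Int.cast_natCast] at h3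
  rw [h3]
  exact ZMod.intCast_mod z 3

/-- `a.2` times the image of the basis vector `a.1` under `x_r(c)`, added to `acc` -/
def img (r c : ℕ) (a : ℕ × ℕ) (acc : List (ℕ × ℕ)) : List (ℕ × ℕ) :=
  (act chevE8 r a.1).foldr (fun b acc => ins b.1 (a.2 * z3 b.2.1 * c ^ b.2.2) acc) acc

theorem spv_img (r c : ℕ) (a : ℕ × ℕ) (acc : List (ℕ × ℕ)) :
    spv (img r c a acc) = ((a.2 : ℕ) : ZMod 3) • (chevE8.x (ZMod 3) r (c : ZMod 3)).mulVec (bv a.1) + spv acc := by
  rw [xMat_mulVec]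
  unfold img evalAct
  generalize act chevE8 r a.1 = l
  induction l with
  | nil => simp
  | cons b l ih =>
    rw [List.foldr_cons, spv_ins, ih, List.map_cons, List.sum_cons, smul_add, smul_smul, ← add_assoc]
    congr 2
    push_cast
    rw [cast_z3, mul_assoc]

/-- apply a root element -/
def app (r c : ℕ) (l : List (ℕ × ℕ)) : List (ℕ × ℕ) := l.foldr (img r c) []

theorem spv_app (r c : ℕ) (l : List (ℕ × ℕ)) :
    spv (app r c l) = (chevE8.x (ZMod 3) r (c : ZMod 3)).mulVec (spv l) := by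
  induction l with
  | nil => simp [app]
  | cons a l ih =>
    have h : app r c (a :: l) = img r c a (app r c l) := rfl
    rw [h, spv_img, ih, spv_cons, Matrix.mulVec_add, Matrix.mulVec_smul]

/-- apply a word -/
def appW (w : List (ℕ × ℕ)) (l : List (ℕ × ℕ)) : List (ℕ × ℕ) := w.foldr (fun p l => app p.1 p.2 l) l

theorem spv_appW (w l : List (ℕ × ℕ)) :
    spv (appW w l) = (chevE8.wordMat (ZMod 3) (w.map fun p => (p.1, (p.2 : ZMod 3)))).mulVec (spv l) := by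
  induction w with
  | nil => simp [appW, ChevalleyDatum.wordMat]
  | cons p w ih =>
    have h : appW (p :: w) l = app p.1 p.2 (appW w l) := rfl
    rw [h, spv_app, ih]
    simp [ChevalleyDatum.wordMat, Matrix.mulVec_mulVec]

/-! ### linear maps given by columns -/

/-- the code of an index -/
def cd : chevE8.Idx → ℕ
  | Sum.inl i => i.val
  | Sum.inr s => 8 + s.val

theorem cd_lt (i : chevE8.Idx) : cd i < 248 := by
  rcases i with i | s
  · have h : i.val < 8 := i.2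
    show i.val < 248
    omega
  · have h : s.val < 240 := s.2
    show 8 + s.val < 248
    omega

theorem bv_cd (i : chevE8.Idx) : bv (cd i) = Pi.single i 1 := by
  ext j
  rcases i with i | s <;> rcases j with j | u
  · show (if j.val = i.val then (1 : ZMod 3) else 0) = _
    by_cases h : j = i
    · subst h; simp
    · have h' : j.val ≠ i.val := fun e => h (Fin.ext e)
      rw [if_neg h', Pi.single_eq_of_ne (fun e => h (Sum.inl_injective e))]
  · have hi : i.val < 8 := i.2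
    show (if 8 + u.val = i.val then (1 : ZMod 3) else 0) = _
    rw [if_neg (by omega), Pi.single_eq_of_ne (by simp)]
  · have hj : j.val < 8 := j.2
    show (if j.val = 8 + s.val then (1 : ZMod 3) else 0) = _
    rw [if_neg (by omega), Pi.single_eq_of_ne (by simp)]
  · show (if 8 + u.val = 8 + s.val then (1 : ZMod 3) else 0) = _
    by_cases h : u = s
    · subst h; simp
    · have h' : u.val ≠ s.val := fun e => h (Fin.ext e)
      rw [if_neg (by omega), Pi.single_eq_of_ne (fun e => h (Sum.inr_injective e))]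

theorem exists_cd {k : ℕ} (hk : k < 248) : ∃ i : chevE8.Idx, cd i = k := by
  by_cases h : k < 8
  · exact ⟨Sum.inl ⟨k, h⟩, rfl⟩
  · exact ⟨Sum.inr ⟨k - 8, by show k - 8 < 240; omega⟩, by show 8 + (k - 8) = k; omega⟩

theorem eq_sum (v : V) : v = ∑ i, v i • bv (cd i) := by
  ext j
  rw [Finset.sum_apply, Finset.sum_eq_single j]
  · rw [Pi.smul_apply, bv_cd, Pi.single_eq_same, smul_eq_mul, mul_one]
  · intro b _ hb
    rw [Pi.smul_apply, bv_cd, Pi.single_eq_of_ne hb.symm, smul_zero]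
  · intro h
    exact absurd (Finset.mem_univ j) h

/-- the linear map with the columns `T` -/
noncomputable def R (T : ℕ → List (ℕ × ℕ)) : V →ₗ[ZMod 3] V :=
  ∑ i : chevE8.Idx, (LinearMap.proj i).smulRight (spv (T (cd i)))

theorem R_apply (T : ℕ → List (ℕ × ℕ)) (v : V) : R T v = ∑ i, v i • spv (T (cd i)) := by
  unfold R
  rw [LinearMap.sum_apply]
  rfl

theorem R_bv (T : ℕ → List (ℕ × ℕ)) {k : ℕ} (hk : k < 248) : R T (bv k) = spv (T k) := by
  obtain ⟨i, rfl⟩ := exists_cd hk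
  rw [R_apply, Finset.sum_eq_single i]
  · rw [bv_cd, Pi.single_eq_same, one_smul]
  · intro b _ hb
    rw [bv_cd, Pi.single_eq_of_ne hb, zero_smul]
  · intro h
    exact absurd (Finset.mem_univ i) h

/-- add the image of the sparse vector `l` -/
def comb (T : ℕ → List (ℕ × ℕ)) (l acc : List (ℕ × ℕ)) : List (ℕ × ℕ) :=
  l.foldr (fun a acc => (T a.1).foldr (fun b acc => ins b.1 (a.2 * b.2) acc) acc) acc

theorem spv_fold (c : ℕ) (m acc : List (ℕ × ℕ)) :
    spv (m.foldr (fun b acc => ins b.1 (c * b.2) acc) acc) = (c : ZMod 3) • spv m + spv acc := by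
  induction m with
  | nil => simp
  | cons b m ih =>
    rw [List.foldr_cons, spv_ins, ih, spv_cons, smul_add, smul_smul, ← add_assoc]
    congr 2
    push_cast
    rfl

theorem spv_comb (T : ℕ → List (ℕ × ℕ)) (l acc : List (ℕ × ℕ)) (h : ∀ a ∈ l, a.1 < 248) :
    spv (comb T l acc) = R T (spv l) + spv acc := by
  induction l with
  | nil => simp [comb]
  | cons a l ih =>
    have e : comb T (a :: l) acc = (T a.1).foldr (fun b acc => ins b.1 (a.2 * b.2) acc) (comb T l acc) := rfl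
    rw [e, spv_fold, ih fun b hb => h b (List.mem_cons_of_mem _ hb), spv_cons, map_add, map_smul,
      R_bv T (h a List.mem_cons_self), add_assoc]

open Cfsg.Agent.ChevFast (frc frc_eq beq_eq blt_eq)

/-- `ins`, for the kernel -/
noncomputable def insF (k c : ℕ) (l : List (ℕ × ℕ)) : List (ℕ × ℕ) :=
  frc k fun k => frc (Nat.mod c 3) fun c =>
    List.rec (motive := fun _ => List (ℕ × ℕ)) (Bool.rec [(k, c)] [] (Nat.beq c 0))
      (fun a l ih => Bool.rec (motive := fun _ => List (ℕ × ℕ))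
        (Bool.rec (motive := fun _ => List (ℕ × ℕ)) (Bool.rec ((k, c) :: a :: l) (a :: l) (Nat.beq c 0))
          (frc (Nat.mod (Nat.add a.2 c) 3) fun d => Bool.rec ((k, d) :: l) l (Nat.beq d 0)) (Nat.beq a.1 k))
        (a :: ih) (Nat.ble (Nat.succ a.1) k)) l

theorem rec_ite {α : Type} (p : Prop) [Decidable p] (x y : α) :
    Bool.rec (motive := fun _ => α) y x (decide p) = if p then x else y := by
  by_cases h : p
  · rw [decide_eq_true h, if_pos h]
  · rw [decide_eq_false h, if_neg h]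

theorem ins_fast : ins = insF := by
  funext k c l
  delta insF
  rw [frc_eq, frc_eq]
  induction l with
  | nil =>
    show (if c % 3 = 0 then [] else [(k, c % 3)]) = Bool.rec [(k, c % 3)] [] (Nat.beq (c % 3) 0)
    rw [beq_eq, rec_ite]
  | cons a l ih =>
    refine Eq.trans (b := if a.1 = k then (if (a.2 + c) % 3 = 0 then l else (k, (a.2 + c) % 3) :: l)
      else if k < a.1 then (if c % 3 = 0 then a :: l else (k, c % 3) :: a :: l) else a :: ins k c l) rfl ?_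
    refine Eq.trans ?_ (congrArg (fun t => Bool.rec (motive := fun _ => List (ℕ × ℕ))
      (Bool.rec (motive := fun _ => List (ℕ × ℕ)) (Bool.rec ((k, c % 3) :: a :: l) (a :: l) (Nat.beq (c % 3) 0))
        (frc ((a.2 + c % 3) % 3) fun d => Bool.rec ((k, d) :: l) l (Nat.beq d 0)) (Nat.beq a.1 k))
      (a :: t) (Nat.blt a.1 k)) ih)
    beta_reduce
    rw [frc_eq, Nat.add_mod_mod, blt_eq, beq_eq, beq_eq, beq_eq, rec_ite, rec_ite, rec_ite, rec_ite]
    by_cases h1 : a.1 < k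
    · rw [if_neg (Nat.ne_of_lt h1), if_pos h1, if_neg (Nat.lt_asymm h1)]
    · rw [if_neg h1]
      by_cases h2 : a.1 = k
      · rw [if_pos h2, if_pos h2]
      · rw [if_neg h2, if_neg h2, if_pos (by omega)]

/-- `comb`, for the kernel -/
noncomputable def combF (T : ℕ → List (ℕ × ℕ)) (l acc : List (ℕ × ℕ)) : List (ℕ × ℕ) :=
  List.rec (motive := fun _ => List (ℕ × ℕ)) acc (fun a _ ih => frc a.1 fun k => frc a.2 fun c =>
    List.rec (motive := fun _ => List (ℕ × ℕ)) ih (fun b _ ih' => insF b.1 (Nat.mul c b.2) ih') (T k)) l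

theorem comb_fast : comb = combF := by
  funext T l acc
  induction l with
  | nil => rfl
  | cons a l ih =>
    refine Eq.trans (b := (T a.1).foldr (fun b acc => ins b.1 (a.2 * b.2) acc) (comb T l acc)) rfl ?_
    refine Eq.trans ?_ (b := frc a.1 fun k => frc a.2 fun c =>
      List.rec (motive := fun _ => List (ℕ × ℕ)) (combF T l acc) (fun b _ ih' => insF b.1 (Nat.mul c b.2) ih') (T k)) rfl
    rw [frc_eq, frc_eq, ih, ins_fast]
    induction T a.1 with
    | nil => rfl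
    | cons b m ih' => exact congrArg (insF b.1 (a.2 * b.2)) ih'

end Cfsg.Agent.H65.E8L.Eng
end

-- part: H65/E8L/Dat
section
/-!
# Tables for the vectors fixed by `x₀, y₀` (helper65, S5925)

Generated. Codes: `k < 8` is `h_k`, `8 + s` is `e_s`.
* `tX`, `tY`: columns of `x₀` and (on `sl₅ + sl₅`) of `y₀`;
* `tR`: inverse of `x₀ - 1` outside `sl₅ + sl₅`;
* `t1`, `t2`, `t3`: `t1 (x₀ - 1) + t2 (y₀ - 1) = t3` on `sl₅ + sl₅`.
-/

set_option autoImplicit false

namespace Cfsg.Agent.H65.E8L.Dat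

/-- the word of `x₀` -/
def wX : List (ℕ × ℕ) := (beta% delta% lq26115f3af9 fun a b c _ _ =>
 (a (b 121 2)<|a (b 236 1)<|a (b 123 1)<|a (b 114 2)<|a (b 120 1)<|a (b 2 1)<|a (b 238 1)<|a (b 1 1)<|a (b 3 2)<|c))

/-- the word of `y₀` -/
def wY : List (ℕ × ℕ) := (beta% delta% lq26115f3af9 fun a b c _ _ =>
 (a (b 124 1)<|a (b 120 2)<|a (b 122 2)<|a (b 117 1)<|a (b 2 2)<|a (b 121 1)<|a (b 125 1)<|a (b 116 2)<|a (b 142 1)<|a (b 135 2)<|a (b 136 1)<|a (b 103 2)<|a (b 164 2)<|a (b 130 1)<|a (b 147 1)<|a (b 98 2)<|c))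

/-- the codes of `sl₅ + sl₅` -/
def l0 : List ℕ := (beta% delta% lq26115f3af9 fun a _ c _ f =>
 (let e:=(let e:=(let e:=(f 172<|f 177<|f 244<|f 245<|f 246<|f 247<|c);
 (f 144<|f 149<|f 150<|f 155<|f 170<|f 171<|e));
 (let e:=(f 130<|f 131<|f 132<|f 133<|f 138<|f 143<|e);
 (f 124<|f 125<|f 126<|f 127<|f 128<|f 129<|e)));
 (let e:=(let e:=(f 106<|f 111<|f 112<|f 117<|f 122<|f 123<|e);
 (f 78<|f 83<|f 84<|f 85<|f 100<|f 105<|e));
 (let e:=(f 6<|f 7<|f 8<|f 9<|f 10<|f 11<|e);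
 (a 0<|a 1<|a 2<|a 3<|a 4<|a 5<|e)))))

/-- columns of `x₀` -/
noncomputable def tX : List (List (ℕ × ℕ)) :=
  let y0 : List (List (ℕ × ℕ)) := (by
  refine (?fq9001 : (fun (On : (n : Nat) → OfNat Nat n → Nat) (In : (n : Nat) → OfNat Nat n) => (pk61l (fun i0 => ((fun g0 : Nat → Nat => pk61l (fun i1 => (_root_.Prod.mk (pk61o On In (pk61d (nat_lit 8) 
    (nat_lit 0xf7f6f5f4807f7e7d7b7a07f7f6f5f4807f7e7d7b7a090805040200f6f5f47f7e7d7b7a09080705040200f7f5f4807e7d7b7a09080705040200f37776f27271f16c6bf06665ef6160ee5d5cedeb5a5956edecebea5a595857edeceb5a59585756ecebea5857e9504fe84b4a) i1)) (pk61o On In (pk61d (nat_lit 2) 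
    (nat_lit 0x296599695969666a99959965a5999a69a699a9a6aa9a5a999a6a66) i1)))) (g0 i0) (g0 (Nat.succ i0)) List.nil) fun j => (pk61d (nat_lit 7) 
    (nat_lit 0x6bc1420b25eb14a64680d931618180) j))) (nat_lit 0) (nat_lit 16) List.nil : List (List (ℕ × ℕ))))
    = ?xq9001 → (List (List (ℕ × ℕ)))) ?hq9001; (case hq9001 => (set_option maxRecDepth 1000000 in conv => lhs; reduce)); intro _; exact ?xq9001 (@OfNat.ofNat Nat) instOfNatNat : List (List (ℕ × ℕ)))
  let y1 : List (List (ℕ × ℕ)) := (by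
  refine (?fq9002 : (fun (On : (n : Nat) → OfNat Nat n → Nat) (In : (n : Nat) → OfNat Nat n) (tl : List (List (ℕ × ℕ))) => (pk61l (fun i0 => ((fun g0 : Nat → Nat => pk61l (fun i1 => (_root_.Prod.mk (pk61o On In (pk61d (nat_lit 8) 
    (nat_lit 0xe74746e6e4444340e6e5e4e344434241e6e5e44443424140e5e4e34241e23d3ce1df3a3936e1e0dfde3a393837e1e0df3a39383736e0dfde3837dddb343330dddcdbda34333231dddcdb3433323130dcdbda3231d9d7d6d42f2e2d2cd9d8d62f2e2d2cd9d8d7d6d42f2e2cd9d8d7d5d42f2e2d2cd9d8d7d6d52f2ed9d8d7d6d5d42f2e2cd3d12a2926d3d2d1d02a292827d3d2d12a29282726d2d1d02827cfcdccca25242322cfcecc25242322cfcecdccca252422cfcecdcbca25242322cfcecdcccb2524cfcecdcccbca252422c9c7c6c421201f1ec9c8c621201f1ec9c8c7c6c421201ec9c8c7c5c421201f1ec9c8c7c6c52120c9c8c7c6c5c421201ec3c2c1c0c3c2c1c01dc2c1c01dc3c1c01dbfbdbcba1c1b1a19bfbebc1c1b1a19bfbebdbcba1c1b19bfbebdbbba1c1b1a19bfbebdbcbb1c1bbfbebdbcbbba1c1b19b9b8b7b6b9b8b7b618b8b7b618b9b7b618b5b4b3b2)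 i1)) (pk61o On In (Nat.add (nat_lit 1) (pk61d (nat_lit 1) 
    (nat_lit 0xdbf6756de7cb53b7eceadd68cfa49651be7cb53b664bd1198c735a33e925946ce739b325e88cc638728d3) i1))))) (g0 i0) (g0 (Nat.succ i0)) List.nil) fun j => (pk61d (nat_lit 9) 
    (nat_lit 0xaa54699449e4de692f93c7e351586c1600f878ba5c0d96832d86bb5b2b94e9f4b23d0c7e3b9bccc5f2b1489a49228f46c2e128782a11060200800) j))) (nat_lit 0) (nat_lit 51) tl : List (List (ℕ × ℕ))))
    = ?xq9002 → (List (List (ℕ × ℕ)))) ?hq9002; (case hq9002 => (set_option maxRecDepth 1000000 in conv => lhs; reduce)); intro _; exact ?xq9002 (@OfNat.ofNat Nat) instOfNatNat y0 : List (List (ℕ × ℕ)))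
  let y2 : List (List (ℕ × ℕ)) := (by
  refine (?fq9003 : (fun (On : (n : Nat) → OfNat Nat n → Nat) (In : (n : Nat) → OfNat Nat n) (tl : List (List (ℕ × ℕ))) => (pk61l (fun i0 => ((fun g0 : Nat → Nat => pk61l (fun i1 => (_root_.Prod.mk (pk61o On In (pk61d (nat_lit 8) 
    (nat_lit 0xb5b4b3b217b4b3b217b5b3b217b1b0afaeadb0afaead16afaead16b0aead16acabaaa9a7a6a415141312a9a8a615141312a9a8a7a6a4151412a9a8a7a5a415141312a9a8a7a6a51514a9a8a7a6a5a4151412a3a2a1a0a3a2a1a011a2a1a011a3a1a0119f9e9d9c9f9e9d9c109e9d9c109f9d9c109b9a9998979a9998970f9998970f9a98970f969594939291949392910e9392910e9492910e908f8e8d8c8b8e8d8c8b0d8d8c8b0d8e8c8b0d8a89888786898887860c8887860c8987860cf7f6f5f48584837f7d7a070605f7f6f5f48584837f7d7a0b080605040200f6f5f484837f7d7a0b080706040200f7f6f5f485848382817c05f7f6f5f485848382817c0b0a0706050402008584838281807e7c7b06058281807f7e7d7c7b7a0a090807068483817e7c7b0b0a090605817f7e7d7c7b7a0a090806f7f5f48583827c0b0a070605040200858382807e7c7b0b0a0905)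 i1)) (pk61o On In (Nat.add (nat_lit 1) (pk61d (nat_lit 1) 
    (nat_lit 0x139c1ca346cc97a23318e1ca34e73839468728d0e51a3946e161a11ae834f1cbb45b5523a4b4db312e8e2) i1))))) (g0 i0) (g0 (Nat.succ i0)) List.nil) fun j => (pk61d (nat_lit 9) 
    (nat_lit 0x5469948a250e7f3a9b4ca633097c9e411887c21fefb7b3c9dcea72b85badc6c34d9ecb653258ac05e2e16eb6592b552a552281369749a18ea662d9247c30128681600) j))) (nat_lit 0) (nat_lit 58) tl : List (List (ℕ × ℕ))))
    = ?xq9003 → (List (List (ℕ × ℕ)))) ?hq9003; (case hq9003 => (set_option maxRecDepth 1000000 in conv => lhs; reduce)); intro _; exact ?xq9003 (@OfNat.ofNat Nat) instOfNatNat y1 : List (List (ℕ × ℕ)))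
  let y3 : List (List (ℕ × ℕ)) := (by
  refine (?fq9004 : (fun (On : (n : Nat) → OfNat Nat n → Nat) (In : (n : Nat) → OfNat Nat n) (tl : List (List (ℕ × ℕ))) => (pk61l (fun i0 => ((fun g0 : Nat → Nat => pk61l (fun i1 => (_root_.Prod.mk (pk61o On In (pk61d (nat_lit 8) 
    (nat_lit 0x82807e7d7c7b7a0a09080706f37976f3797879787778777675f27471f27473747372737271706ff16e6bf16e6d6e6d6c6d6c6b6a69f06865f0686768676667666564ef6360ef6362636261626160ee5f5cee5f5e5f5e5d5e5d5cecea5b5957edeceb5b5a595756ecebea5b5a595756edeceb5b5a58ecebea5b5a5958575b5a59585756555453e9524fe9525152515051504f4ee84d4ae84d4c4d4c4b4c4b4ae74946e74948494847484746e5e3454341e6e5e44544434140e5e4e34544434140e6e5e4454442e5e4e34544434241454443424140e23f3ce23f3e3f3e3d3e3d3ce0de3b3937e1e0df3b3a393736e0dfde3b3a393736e1e0df3b3a38e0dfde3b3a3938373b3a39383736dcda353331dddcdb3534333130dcdbda3534333130dddcdb353432dcdbda3534333231353433323130d9d7d6d5d42f2e2d2cd6d5d42f2e2d2cd9d8d7d6d5d42f2d2c)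 i1)) (pk61o On In (Nat.add (nat_lit 1) (pk61d (nat_lit 1) 
    (nat_lit 0xe3c5b22d88b622d836d16c171989998e116c1b68b60b8cc4ccc70db6645e1e86382e3313331c369ae7) i1))))) (g0 i0) (g0 (Nat.succ i0)) List.nil) fun j => (pk61d (nat_lit 9) 
    (nat_lit 0x52e7f3c9ccda673297cb2532692c92431e8dc622f1689c421b0a84c1a07007ebe9eef478bb1c8dc6b33990c76331584bf5e2e570b5592bd58a95328d409b49a2d0a7d3b9d0e26e35998bc5628120843d1a8b44e1f0c8401200) j))) (nat_lit 0) (nat_lit 78) tl : List (List (ℕ × ℕ))))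
    = ?xq9004 → (List (List (ℕ × ℕ)))) ?hq9004; (case hq9004 => (set_option maxRecDepth 1000000 in conv => lhs; reduce)); intro _; exact ?xq9004 (@OfNat.ofNat Nat) instOfNatNat y2 : List (List (ℕ × ℕ)))
  (by
  refine (?fq9005 : (fun (On : (n : Nat) → OfNat Nat n → Nat) (In : (n : Nat) → OfNat Nat n) (tl : List (List (ℕ × ℕ))) => (pk61l (fun i0 => ((fun g0 : Nat → Nat => pk61l (fun i1 => (_root_.Prod.mk (pk61o On In (pk61d (nat_lit 8) 
    (nat_lit 0xd9d8d7d6d5d42e2d2cd2d02b2927d3d2d12b2a292726d2d1d02b2a292726d3d2d12b2a28d2d1d02b2a2928272b2a29282726cfcdcccbca25242322cccbca25242322cfcecdcccbca252322cfcecdcccbca242322c9c7c6c5c421201f1ec6c5c421201f1ec9c8c7c6c5c4211f1ec9c8c7c6c5c4201f1ec3c2c11dbfbdbcbbba1c1b1a19bcbbba1c1b1a19bfbebdbcbbba1c1a19bfbebdbcbbba1b1a19b9b8b718b5b4b317b0afae16a9a7a6a5a415141312a6a5a415141312a9a8a7a6a5a4151312a9a8a7a6a5a4141312a3a2a1119f9e9d109a99980f9493920e8e8d8c0d8988870cf7f6f58584837f7d0b080705040200f7f6f585848382810b0a0706050402008584838281807e0b0a09068281807f7e7d0a09080706858483827f7d7b7a0b0a09070605f6f5f4858482807e7b0a090705040200f7f6f48584817d7c7a0a08070605f7f5f485837d7a0b08070504020003020100)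 i1)) (pk61o On In (Nat.add (nat_lit 1) (pk61d (nat_lit 1) 
    (nat_lit 0x11ecc8bc3d0c7719ec7dcc369ae78f4719ec7dccd0dc67b1f73343333479571aa93b6e61ca628de484f6e0) i1))))) (g0 i0) (g0 (Nat.succ i0)) List.nil) fun j => (pk61d (nat_lit 9) 
    (nat_lit 0x2ab4ca3cfe6f3194c8e351385405f0f17437db6d265b0972b558ab5489d4a22d0e833f9ecee7332150923e180802404018080200) j))) (nat_lit 0) (nat_lit 45) tl : List (List (ℕ × ℕ))))
    = ?xq9005 → (List (List (ℕ × ℕ)))) ?hq9005; (case hq9005 => (set_option maxRecDepth 1000000 in conv => lhs; reduce)); intro _; exact ?xq9005 (@OfNat.ofNat Nat) instOfNatNat y3 : List (List (ℕ × ℕ)))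

/-- columns of `y₀` -/
noncomputable def tY : List (List (ℕ × ℕ)) :=
  (by
  refine (?fq9006 : (fun (On : (n : Nat) → OfNat Nat n → Nat) (In : (n : Nat) → OfNat Nat n) => ((pk61l (fun i1 => ((fun g1 : Nat → Nat => pk61l (fun i2 => (_root_.Prod.mk (pk61o On In (pk61d (nat_lit 8) 
    (nat_lit 0xf5837e7df7f68584807f07f7f485807b7a0b09080605040200f6f5f484837f7e7d7b7a0605b1abaab1abaab1abaab1acabaa95756f9b968f7002b1abaa9b8f696403020195756f95756f9b968f7002837e7d8584807f0785807b7a0b0908070605837e7d8584807f07837e7d85848281807f0785807b7a0b09080706058582807c7b7a0b0a090807060584837f7e7d7b7a060584837f7e7d7b7a06058483817f7e7d7c7b7a0605b1abaa9b8f69640302019b96908f8a7002b1acabaa9b908f6a6964030201969575706f69640301969575706f6964030196958a75706f6a6964030195756f539b968f70555402b1abaa9b8f6964554e03020100969575706f696454534e03010b09080b09080b09080b0a0908858483807f7e7d07068584807f7b7a0b09080605858483807f7e7d7b7a0b090807b1abaa9b96958f84837f7e7d7b7a75706f0605040302b1abaa9b968f70696403019b96958f75706f0302b1abaa9b96958f75706f696402b1abaa95756f030200)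 i2)) (pk61o On In (Nat.add (nat_lit 1) (pk61d (nat_lit 1) 
    (nat_lit 0x3a4a4683feaeb2b67ae5d583b92aab40fe0fe2b002d449aa39bcb608518a407223b40b12de2394fff6697ab909f70) i2))))) (g1 i1) (g1 (Nat.succ i1)) List.nil) fun j => (pk61d (nat_lit 9) 
    (nat_lit 0x174b85a6b74fa7d3e9f4fa7d3e9f4fa7d3e9f4fa7d3e9f4fa7d3e9f4fa7d3e9f4fa7d3e9f4fa7d3e9f4fa7d3e9f4fa7d3e9f4fa7d3e9f4fa7d3e9f4fa7d3e9f4fa7d3e9f4fa7d3e9f4fa7d3e9f4fa7d3e994ca65329949a350a8542a150a8542a150a8542a150a85429fcfe7f3f9fcea6130984c2612d954aa552a954964b2592c96451d89c42170880bddd4e16c3359acd66b3586c361b0d86bc57abd5eaf57a993a9d4ea753a92492492492492492492492492492492491c873d1e8f47a3d1b8dc6e371b8dc6e371b8dc6e371b8dc6e371b8dc6e371b8dc6e371b8dc6e371b8dc6e371b8dc6e371b8dc6e371b8dc6e371b8dc6e371b8dc6e371b8dc6e371b8dc6e371b8dc6e371b8dc6e359a0ca612c134802a0f8581200) j))) (nat_lit 0) (nat_lit 248) List.nil) : List (List (ℕ × ℕ))))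
    = ?xq9006 → (List (List (ℕ × ℕ)))) ?hq9006; (case hq9006 => (set_option maxRecDepth 1000000 in conv => lhs; reduce)); intro _; exact ?xq9006 (@OfNat.ofNat Nat) instOfNatNat : List (List (ℕ × ℕ)))

/-- inverse of `x₀ - 1` -/
noncomputable def tR : List (List (ℕ × ℕ)) :=
  let y0 : List (List (ℕ × ℕ)) := (by
  refine (?fq9007 : (fun (On : (n : Nat) → OfNat Nat n → Nat) (In : (n : Nat) → OfNat Nat n) => (pk61l (fun i0 => ((fun g0 : Nat → Nat => pk61l (fun i1 => (_root_.Prod.mk (pk61o On In (pk61d (nat_lit 8) 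
    (nat_lit 0xf379787776f274737271f16e6d6c6bf068676665ef63626160ee5f5e5d5cedecebea5b5a595857edecebea5b5856edecebea5a5856edecebea5b5a595756e95251504fe84d4c4b4ae749484746e6e5e4e34544434241e6e5e4e3454240e6e5e4e3444240e6e5e4e34544434140e23f3e3d3ce1e0dfde3b3a393837e1e0dfde3b3836e1e0dfde3a3836e1e0dfde3b3a393736dddcdbda3534333231dddcdbda353230dddcdbda343230) i1)) (pk61o On In (pk61d (nat_lit 2) 
    (nat_lit 0x1a6699a669959699559aa556669a9599a6565a65566a95599a6a5665655665a5aa656a9a65559aa556669) i1)))) (g0 i0) (g0 (Nat.succ i0)) List.nil) fun j => (pk61d (nat_lit 8) 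
    (nat_lit 0xa9a9a9a9a9a49f9a95908b827b746b66615c534c453c372e2720170e0700) j))) (nat_lit 0) (nat_lit 29) List.nil : List (List (ℕ × ℕ))))
    = ?xq9007 → (List (List (ℕ × ℕ)))) ?hq9007; (case hq9007 => (set_option maxRecDepth 1000000 in conv => lhs; reduce)); intro _; exact ?xq9007 (@OfNat.ofNat Nat) instOfNatNat : List (List (ℕ × ℕ)))
  let y1 : List (List (ℕ × ℕ)) := (by
  refine (?fq9008 : (fun (On : (n : Nat) → OfNat Nat n → Nat) (In : (n : Nat) → OfNat Nat n) (tl : List (List (ℕ × ℕ))) => (pk61l (fun i0 => ((fun g0 : Nat → Nat => pk61l (fun i1 => (_root_.Prod.mk (pk61o On In (pk61d (nat_lit 8) 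
    (nat_lit 0xdddcdbda3534333130d8d7d6d5d42f2e2dd9d7d6d42f2cd9d8d5d42e2d2cd9d8d6d5d42f2cd7d6d42f2e2cd7d6d52f2d2cd3d2d1d02b2a292827d3d2d1d02b2826d3d2d1d02a2826d3d2d1d02b2a292726cecdcccbca252423cfcdccca2522cfcecbca242322cfcecccbca2522cdccca252422cdcccb252322c8c7c6c5c421201fc9c7c6c4211ec9c8c5c4201f1ec9c8c6c5c4211ec7c6c421201ec7c6c5211f1ec2c1c01dc3c1c01dc3c2c01dc2c11dbebdbcbbba1c1b1abfbdbcba1c19bfbebbba1b1a19bfbebcbbba1c19bdbcba1c1b19bdbcbb1c1a19b8b7b618b9b7b618b9b8b618b8b718b4b3b217b5b3b217b5b4b217b4b317afaead16b0aead16b0afad16afae16a8a7a6a5a4151413a9a7a6a41512a9a8a5a4141312a9a8a6a5a41512a7a6a4151412a7a6a5151312a2a1a011a3a1a011a3a2a011a2a1119e9d9c109f9d9c109f9e9c109e9d109998970f) i1)) (pk61o On In (Nat.add (nat_lit 1) (pk61d (nat_lit 1) 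
    (nat_lit 0x716f3dea7aba0299e8f6aefee476cbef3dea7aba379dddfdc8ed97e7b2de779ecaefee476cbf3d96f3bc) i1))))) (g0 i0) (g0 (Nat.succ i0)) List.nil) fun j => (pk61d (nat_lit 9) 
    (nat_lit 0x29f469f4e2632a9247a2b0e83bf9ecf074b89b8d66732182ba5a2b954a65127d2e914520cfa77399bcd66832180b8592c954a24d25128944a210f06a2e140883c1a0b04c1e0b038100800) j))) (nat_lit 0) (nat_lit 65) tl : List (List (ℕ × ℕ))))
    = ?xq9008 → (List (List (ℕ × ℕ)))) ?hq9008; (case hq9008 => (set_option maxRecDepth 1000000 in conv => lhs; reduce)); intro _; exact ?xq9008 (@OfNat.ofNat Nat) instOfNatNat y0 : List (List (ℕ × ℕ)))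
  let y2 : List (List (ℕ × ℕ)) := (by
  refine (?fq9009 : (fun (On : (n : Nat) → OfNat Nat n → Nat) (In : (n : Nat) → OfNat Nat n) (tl : List (List (ℕ × ℕ))) => (pk61l (fun i0 => ((fun g0 : Nat → Nat => pk61l (fun i1 => (_root_.Prod.mk (pk61o On In (pk61d (nat_lit 8) 
    (nat_lit 0x9a98970f9a99970f99980f9392910e9492910e9493910e93920e8d8c8b0d8e8c8b0d8e8d8b0d8d8c0d8887860c8987860c8988860c88870cf379787776f379787776f379787776f3787776f274737271f274737271f274737271f2737271f16e6d6c6bf16e6d6c6bf16e6d6c6bf16d6c6bf068676665f068676665f068676665f0676665ef63626160ef63626160ef63626160ef626160ee5f5e5d5cee5f5e5d5cee5f5e5d5cee5e5d5cedeceb5b5a59585756edea5b5a595856edea5b5a5756ecebea5b5a585756edecea59585756edebea59585756e95251504fe95251504fe95251504fe951504fe84d4c4b4ae84d4c4b4ae84d4c4b4ae84c4b4ae749484746e749484746e749484746e7484746e6e5e4454443424140e6e34544434240e6e345444140e5e4e34544424140e6e5e343424140e6e4e343424140e23f3e3d3ce23f3e3d3ce23f3e3d3c)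 i1)) (pk61o On In (Nat.add (nat_lit 1) (pk61d (nat_lit 1) 
    (nat_lit 0x3d967b2cf659ec93452a68a54d14a9a29724d6a68a5724871165794d14b926b53452b924388b2bce49a) i1))))) (g0 i0) (g0 (Nat.succ i0)) List.nil) fun j => (pk61d (nat_lit 9) 
    (nat_lit 0x29546a14fe7f3f9dcde6730984c2592892486431d8cc5625128944a25128944a25128944a250d8440dfeff7d3d5e0ec763b1cee26eb65b2d96a33d94c66330578b759ab952a45025d208a411ece8743a1d0de6a32984c25c2b9489c49220fc7632158943a16078280a00) j))) (nat_lit 0) (nat_lit 93) tl : List (List (ℕ × ℕ))))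
    = ?xq9009 → (List (List (ℕ × ℕ)))) ?hq9009; (case hq9009 => (set_option maxRecDepth 1000000 in conv => lhs; reduce)); intro _; exact ?xq9009 (@OfNat.ofNat Nat) instOfNatNat y1 : List (List (ℕ × ℕ)))
  (by
  refine (?fq9010 : (fun (On : (n : Nat) → OfNat Nat n → Nat) (In : (n : Nat) → OfNat Nat n) (tl : List (List (ℕ × ℕ))) => (pk61l (fun i0 => ((fun g0 : Nat → Nat => pk61l (fun i1 => (_root_.Prod.mk (pk61o On In (pk61d (nat_lit 8) 
    (nat_lit 0xe23e3d3ce1e0df3b3a39383736e1de3b3a393836e1de3b3a3736e0dfde3b3a383736e1e0de39383736e1dfde39383736dddcdb353433323130ddda3534333230ddda35343130dcdbda3534323130dddcda33323130dddbda33323130d9d8d7d6d52f2e2d2cd9d7d42f2d2cd8d7d42f2e2cd9d8d6d5d42f2e2d2cd3d2d12b2a29282726d3d02b2a292826d3d02b2a2726d2d1d02b2a282726d3d2d029282726d3d1d029282726cfcecdcccb25242322cfcdca252322cecdca252422cfcecccbca25242322c9c8c7c6c521201f1ec9c7c4211f1ec8c7c421201ec9c8c6c5c421201f1ec3c2c1c01dbfbebdbcbb1c1b1a19bfbdba1c1a19bebdba1c1b19bfbebcbbba1c1b1a19b9b8b7b618b5b4b3b217b0afaead16a9a8a7a6a515141312a9a7a4151312a8a7a4151412a9a8a6a5a415141312a3a2a1a0119f9e9d9c109a9998970f949392910e8e8d8c8b0d898887860c)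 i1)) (pk61o On In (Nat.add (nat_lit 1) (pk61d (nat_lit 1) 
    (nat_lit 0xd9228b295d097248711657993f65e8248a2ca57425ae1e65093f65e808d70f328689a6b87994344d6b5a) i1))))) (g0 i0) (g0 (Nat.succ i0)) List.nil) fun j => (pk61d (nat_lit 9) 
    (nat_lit 0x2a14ca1cf26d2e93c822f1085409f6f475b95bed666b1980b858aa9429b4aa31067d3b9b8d2602d1509646208f0662d138783214078280a00000000000000000000000000000) j))) (nat_lit 0) (nat_lit 61) tl : List (List (ℕ × ℕ))))
    = ?xq9010 → (List (List (ℕ × ℕ)))) ?hq9010; (case hq9010 => (set_option maxRecDepth 1000000 in conv => lhs; reduce)); intro _; exact ?xq9010 (@OfNat.ofNat Nat) instOfNatNat y2 : List (List (ℕ × ℕ)))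

/-- first part of the certificate -/
noncomputable def t1 : List (List (ℕ × ℕ)) :=
  (by
  refine (?fq9011 : (fun (On : (n : Nat) → OfNat Nat n → Nat) (In : (n : Nat) → OfNat Nat n) => ((pk61l (fun i1 => ((fun g1 : Nat → Nat => pk61l (fun i2 => (_root_.Prod.mk (pk61o On In (pk61d (nat_lit 8) 
    (nat_lit 0xa080706040200838281807f7d7c7a0b0a080504020085848382807f7e7d7b7a0b0a0908068584838281807f7e7d7c7b7a0b0a080706050402008382817f7e7d7c7b7a0b080705040200858483817f7e7d7b7a0b090807068582817f7e7c7a0705040200848381807e7c7b7a0685848382807f7d7b7a0b0a09070605040200838281807f7d7c7a0b0a090805040200858483817f7e7d7b7a0a090605040200848382807e7d7c7b0b0a090705) i2)) (pk61o On In (pk61d (nat_lit 2) 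
    (nat_lit 0x56659a5a6a6aaa595aa996559659999696a99a9a9aa556aa59a6959956a596659a5a6a9aa6666a665a6a99) i2)))) (g1 i1) (g1 (Nat.succ i1)) List.nil) fun j => (pk61d (nat_lit 8) 
    (nat_lit 0xaca59687726254483f2d1d0d00) (pk61d (nat_lit 4) 
    (nat_lit 0xcccbbbbbbbbbbbbbbbbbbbbbbbbbbbbbbbbbbbbbbbbbbbbbbbbbbbbbbbbbbbbbbbbbbbbbbbbbbbbbbbbbbbbbbbbbbbbbbbbbbbbbbbbbbbbbbbbbbbbaa99876555555555555555555555555555555555555555555555555555555555555555555555555555555555555555555555555555555555555555554432100000) j)))) (nat_lit 0) (nat_lit 248) List.nil) : List (List (ℕ × ℕ))))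
    = ?xq9011 → (List (List (ℕ × ℕ)))) ?hq9011; (case hq9011 => (set_option maxRecDepth 1000000 in conv => lhs; reduce)); intro _; exact ?xq9011 (@OfNat.ofNat Nat) instOfNatNat : List (List (ℕ × ℕ)))

/-- second part of the certificate -/
noncomputable def t2 : List (List (ℕ × ℕ)) :=
  (by
  refine (?fq9012 : (fun (On : (n : Nat) → OfNat Nat n → Nat) (In : (n : Nat) → OfNat Nat n) => ((pk61l (fun i1 => ((fun g1 : Nat → Nat => pk61l (fun i2 => (_root_.Prod.mk (pk61o On In (pk61d (nat_lit 8) 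
    (nat_lit 0xf6848281807f7e7d7c7b0a090705f7f6f48483817f7e7d7b7a0b09080706040200f7f68584838281807f7e7d7c0a0906059b95908f8a706902009695908f6f6a0302009b96959075706a69640301009b96908f8a75706a6964030201009b908a708a709603020100968a838281807f7d7c7b7a0a0905817f7e7d7c7b7a08070605040200817e0b0a0908070605040200848281807f7d7c7b0b0a090885848382817f7e7c7a07058584827e7d7b0b0a0807059b968f0302010096908f8a70030201009b908a706a02010096908f8a706a69640301009b96908f8a706a6964010096549b9655544e02010096908a705554848381807e7c7b7a0b0a09080685838281807d7c7b7a0a090706f7f59b96908a84838281807e7d7a7055530a0908040201009b960302010096030201008f6901009b908a70555303020100) i2)) (pk61o On In (Nat.add (nat_lit 1) (pk61d (nat_lit 1) 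
    (nat_lit 0x65a317795e4940986945189c0ca4c77aefe2f5583e2d4a613f8616da1080139b431e0403115a1f5) i2))))) (g1 i1) (g1 (Nat.succ i1)) List.nil) fun j => (pk61d (nat_lit 9) 
    (nat_lit 0x13b96c6a150a8542a150a8542a150a8542a150a8542a150a8542a150a8542a150a8542a150a8542a150a8542a150a8542a150a8542a150a8542a150a8542a150a8542a150a8542a150a8542a150a8542a030180c0602f876379bcde6f379bcde6f379bcde6f379bcde6f379bcde6f379b4da6d369b4d869b4da6d369b45a2d168b45a2d162add56ab4fa7d288944a25128944a2504824120904823c9e4f2793c9c4cc6633198cc5b2d96cb65b2d96cb65b2d96cb65b2d96cb2512592c964b2592c964b2592c964b2592c964b2592c964b2592c964b2592c964b2592c964b2592c964b2592c964b2592c964b2592c964b2592c964b2592c964b2592c964b2592c964b2592c964b2592c964b258f87c3e188c46219098381400) j))) (nat_lit 0) (nat_lit 248) List.nil) : List (List (ℕ × ℕ))))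
    = ?xq9012 → (List (List (ℕ × ℕ)))) ?hq9012; (case hq9012 => (set_option maxRecDepth 1000000 in conv => lhs; reduce)); intro _; exact ?xq9012 (@OfNat.ofNat Nat) instOfNatNat : List (List (ℕ × ℕ)))

/-- value of the certificate -/
noncomputable def t3 : List (List (ℕ × ℕ)) :=
  (by
  refine (?fq9013 : (fun (On : (n : Nat) → OfNat Nat n → Nat) (In : (n : Nat) → OfNat Nat n) => ((pk61l (fun i1 => ((fun g1 : Nat → Nat => pk61l (fun i2 => (_root_.Prod.mk (pk61o On In (pk61d (nat_lit 8) 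
    (nat_lit 0xf7f6f5f40301009695908f6f6a030201009b95908f8a70690302010096908a756f640201009b9695908f8a8584838281807f7e7d7c7b7a75706f6a69645554534e0b0a09080706050403020100) i2)) (pk61o On In (pk61d (nat_lit 2) 
    (nat_lit 0x15655aa99aaa5a5699955555555555555555555) i2)))) (g1 i1) (g1 (Nat.succ i1)) List.nil) fun j => (pk61d (nat_lit 7) 
    (nat_lit 0x4d992e54993264c993264c993264c993264c993264c993264c993264c993264c993264c993264c993264c993264c993264c993264c993264c993264c993263468d1a33c62a142850a142850a142850a14284e9d3a74e992a54a952a4468d1a3468912244890a03e78e9c3668c982e58b162c58a952a54a94264c99326488912244890204081020408102040810204078e1a3468d1a3060c183060c183060c183060c183060c183060c183060c183060c183060c183060c183060c183060c183060c183060c183060c183060c183060c16284880e182840608080) j))) (nat_lit 0) (nat_lit 248) List.nil) : List (List (ℕ × ℕ))))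
    = ?xq9013 → (List (List (ℕ × ℕ)))) ?hq9013; (case hq9013 => (set_option maxRecDepth 1000000 in conv => lhs; reduce)); intro _; exact ?xq9013 (@OfNat.ofNat Nat) instOfNatNat : List (List (ℕ × ℕ)))

/-- the vectors `b_1, ..., b_4` -/
def bl : List (List (ℕ × ℕ)) :=
  (by
  refine (?fq9014 : (fun (On : (n : Nat) → OfNat Nat n → Nat) (In : (n : Nat) → OfNat Nat n) => ((pk61l (fun i1 => ((fun g1 : Nat → Nat => pk61l (fun i2 => (_root_.Prod.mk (pk61o On In (pk61d (nat_lit 8) 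
    (nat_lit 0xb1abaa9b9695908f75706f696403020100b1acabaa9b96908f8a75706a696403020100b1acaa96958f8a756a640200ac9695908f6f6a03020100) i2)) (pk61o On In (pk61d (nat_lit 2) 
    (nat_lit 0x995996996aaa5a9a55a9aaa65aa99) i2)))) (g1 i1) (g1 (Nat.succ i1)) List.nil) fun j => (pk61d (nat_lit 6) 
    (nat_lit 0x3aa572c0) j))) (nat_lit 0) (nat_lit 4) List.nil) : List (List (ℕ × ℕ))))
    = ?xq9014 → (List (List (ℕ × ℕ)))) ?hq9014; (case hq9014 => (set_option maxRecDepth 1000000 in conv => lhs; reduce)); intro _; exact ?xq9014 (@OfNat.ofNat Nat) instOfNatNat : List (List (ℕ × ℕ)))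

end Cfsg.Agent.H65.E8L.Dat
end

-- part: H65/E8L/Chk
section
/-!
# Kernel checks for the vectors fixed by `x₀, y₀` (helper65, S5925)
-/

set_option autoImplicit false

namespace Cfsg.Agent.H65.E8L.Chk

open Cfsg.Agent.H65.E8L.Eng Cfsg.Agent.H65.E8L.Dat

/-- column `k` of the table -/
def g (T : List (List (ℕ × ℕ))) (k : ℕ) : List (ℕ × ℕ) := T.getD k []

/-- `g`, for the kernel: the tails of the table are evaluated once -/
noncomputable def gF (T : List (List (ℕ × ℕ))) (k : ℕ) : List (ℕ × ℕ) :=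
  List.rec [] (fun a _ _ => a) (Nat.rec (motive := fun _ => List (List (ℕ × ℕ))) T (fun _ l => List.rec [] (fun _ t _ => t) l) k)

theorem g_fast : g = gF := by
  funext T k
  have h : Nat.rec (motive := fun _ => List (List (ℕ × ℕ))) T (fun _ l => List.rec [] (fun _ t _ => t) l) k = T.drop k := by
    induction k with
    | zero => rfl
    | succ k ih =>
      refine (congrArg (fun l : List (List (ℕ × ℕ)) => (List.rec [] (fun _ t _ => t) l : List (List (ℕ × ℕ)))) ih).trans ?_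
      rw [← List.tail_drop]
      cases T.drop k <;> rfl
  delta g gF
  rw [h, List.getD_eq_getElem?_getD, ← List.head?_drop]
  cases T.drop k <;> rfl

/-- equality of lists of pairs -/
def eqL : List (ℕ × ℕ) → List (ℕ × ℕ) → Bool
  | [], [] => true
  | a :: l, b :: m => a.1.beq b.1 && (a.2.beq b.2 && eqL l m)
  | _, _ => false

theorem eqL_eq : ∀ {l m : List (ℕ × ℕ)}, eqL l m = true → l = m
  | [], [], _ => rfl
  | a :: l, b :: m, h => by
    unfold eqL at h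
    rw [Bool.and_eq_true, Bool.and_eq_true] at h
    obtain ⟨h1, h2, h3⟩ := h
    rw [eqL_eq h3, Prod.ext (Nat.eq_of_beq_eq_true h1) (Nat.eq_of_beq_eq_true h2)]
  | [], _ :: _, h => by simp [eqL] at h
  | _ :: _, [], h => by simp [eqL] at h

/-- columns of a word -/
def colOK (w : List (ℕ × ℕ)) (T : List (List (ℕ × ℕ))) (k : ℕ) : Bool := eqL (appW w [(k, 1)]) (g T k)

/-- all the codes of a list are less than 248 -/
def ltOK (l : List (ℕ × ℕ)) : Bool := l.all fun a => decide (a.1 < 248)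

/-- membership in `sl₅ + sl₅` -/
def inL (s : ℕ) : Bool := l0.any fun a => a.beq s

/-- the coefficients of the free coordinates -/
def nf (s : ℕ) : List (ℕ × ℕ) :=
  if s = 170 then [(0, 0), (1, 1), (2, 2), (3, 2)] else if s = 171 then [(0, 2), (1, 0), (2, 1), (3, 2)]
  else if s = 172 then [(0, 2), (1, 0), (2, 0), (3, 0)] else if s = 177 then [(0, 2), (1, 2), (2, 2), (3, 2)]
  else [(0, 0), (1, 0), (2, 0), (3, 0)]

/-- the first certificate: `R (x - 1)` is the projection to the codes outside `sl₅ + sl₅` -/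
noncomputable def ok1 (s : ℕ) : Bool :=
  ltOK (ins s 2 (g tX s)) && eqL (comb (g tR) (ins s 2 (g tX s)) []) (if inL s then [] else [(s, 1)])

/-- the second certificate -/
noncomputable def ok2 (s : ℕ) : Bool :=
  ltOK (ins s 2 (g tY s)) &&
    eqL (comb (g t1) (ins s 2 (g tX s)) (comb (g t2) (ins s 2 (g tY s)) [])) (g t3 s)

/-- the free coordinates -/
noncomputable def ok3 (s : ℕ) : Bool := eqL (ins s 1 (comb (fun _ => g t3 s) [(0, 2)] [])) (comb (g bl) (nf s) [])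

theorem x0 : ((List.range' 0 40).all (colOK wX tX)) = true := by (delta Cfsg.Agent.H65.E8L.Chk.colOK Cfsg.Agent.H65.E8L.Eng.app Cfsg.Agent.H65.E8L.Eng.appW Cfsg.Agent.H65.E8L.Eng.img; rewrite [Cfsg.Agent.ChevFast.E8.act, ins_fast, g_fast]; decide +kernel)
theorem x1 : ((List.range' 40 52).all (colOK wX tX)) = true := by (delta Cfsg.Agent.H65.E8L.Chk.colOK Cfsg.Agent.H65.E8L.Eng.app Cfsg.Agent.H65.E8L.Eng.appW Cfsg.Agent.H65.E8L.Eng.img; rewrite [Cfsg.Agent.ChevFast.E8.act, ins_fast, g_fast]; decide +kernel)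
theorem x2 : ((List.range' 92 52).all (colOK wX tX)) = true := by (delta Cfsg.Agent.H65.E8L.Chk.colOK Cfsg.Agent.H65.E8L.Eng.app Cfsg.Agent.H65.E8L.Eng.appW Cfsg.Agent.H65.E8L.Eng.img; rewrite [Cfsg.Agent.ChevFast.E8.act, ins_fast, g_fast]; decide +kernel)
theorem x3 : ((List.range' 144 52).all (colOK wX tX)) = true := by (delta Cfsg.Agent.H65.E8L.Chk.colOK Cfsg.Agent.H65.E8L.Eng.app Cfsg.Agent.H65.E8L.Eng.appW Cfsg.Agent.H65.E8L.Eng.img; rewrite [Cfsg.Agent.ChevFast.E8.act, ins_fast, g_fast]; decide +kernel)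
theorem x4 : ((List.range' 196 52).all (colOK wX tX)) = true := by (delta Cfsg.Agent.H65.E8L.Chk.colOK Cfsg.Agent.H65.E8L.Eng.app Cfsg.Agent.H65.E8L.Eng.appW Cfsg.Agent.H65.E8L.Eng.img; rewrite [Cfsg.Agent.ChevFast.E8.act, ins_fast, g_fast]; decide +kernel)
theorem y0 : ((l0.take 24).all (colOK wY tY)) = true := by (delta Cfsg.Agent.H65.E8L.Chk.colOK Cfsg.Agent.H65.E8L.Eng.app Cfsg.Agent.H65.E8L.Eng.appW Cfsg.Agent.H65.E8L.Eng.img; rewrite [Cfsg.Agent.ChevFast.E8.act, ins_fast, g_fast]; decide +kernel)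
theorem y1 : ((l0.drop 24).all (colOK wY tY)) = true := by (delta Cfsg.Agent.H65.E8L.Chk.colOK Cfsg.Agent.H65.E8L.Eng.app Cfsg.Agent.H65.E8L.Eng.appW Cfsg.Agent.H65.E8L.Eng.img; rewrite [Cfsg.Agent.ChevFast.E8.act, ins_fast, g_fast]; decide +kernel)
theorem c1 : ((List.range 248).all ok1) = true := by delta ok1; rewrite [comb_fast, ins_fast, g_fast]; decide +kernel
theorem c2 : (l0.all ok2) = true := by delta ok2; rewrite [comb_fast, ins_fast, g_fast]; decide +kernel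
theorem c3 : (l0.all ok3) = true := by delta ok3; rewrite [comb_fast, ins_fast, g_fast]; decide +kernel

end Cfsg.Agent.H65.E8L.Chk
end

private theorem dce_c5a60187c027 : _root_.True := by
  try have : _root_.True := by simp only [_root_.Cfsg.Agent.H65.E8L.Eng.appW.eq_1]
  try have : _root_.True := by simp only [_root_.Cfsg.Agent.H65.E8L.Chk.eqL._sparseCasesOn_2.else_eq]
  try have : _root_.True := by simp only [_root_.Cfsg.Agent.H65.E8L.Eng.app.eq_1]
  try have : _root_.True := by simp only [_root_.Cfsg.Agent.H65.E8L.Eng.comb.eq_1]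
  try have : _root_.True := by simp only [_root_.Cfsg.Agent.H65.E8L.Chk.eqL._sparseCasesOn_1.else_eq]
  try have : _root_.True := by simp only [_root_.Cfsg.Agent.H65.E8L.Chk.eqL.eq_def]
  try have : _root_.True := by simp only [_root_.Cfsg.Agent.H65.E8L.Eng.ins.eq_def]
  try have : _root_.True := by simp only [_root_.Cfsg.Agent.H65.E8L.Chk.eqL.eq_3]
  try have : _root_.True := by simp only [_root_.Cfsg.Agent.H65.E8L.Eng.spv.eq_1]
  try have : _root_.True := by simp only [_root_.Cfsg.Agent.H65.E8L.Chk.eqL.eq_2]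
  try have : _root_.True := by simp only [_root_.Cfsg.Agent.H65.E8L.Chk.eqL.eq_1]
  exact _root_.True.intro
end

-- part: H64/E83/Iota
section
prune_inst 0x10000000000000
set_option linter.all false
open scoped Cfsg.Agent.FastGrp

/-!
# The two 5-dimensional submodules of `φ(SL₅(3))` in the Lie algebra of `E₈(3)` (helper64)

`Ph : SL₅(3) →* E₈(3)`, `Ph A = ph2 A * ph1 (A⁻¹)ᵀ`; `i4`, `i1` : the embeddings of `V`, `V*`:
`Ph A · i4 w = i4 (A w)`, `Ph A · i1 w = i1 ((A⁻¹)ᵀ w)`.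
-/

set_option autoImplicit false

namespace Cfsg.Agent.H64.E83

open Matrix Cfsg Cfsg.Lie Cfsg.Agent.ChevalleyStructure Cfsg.Agent.ChevalleyStructure.Elts
open Cfsg.Agent.H992.E8X Cfsg.Agent.H238.E8
open Cfsg.Agent.H788.E83 (SL5 it it_transvection As Ax Ay At Afa Afb)


/-- the diagonal embedding -/
noncomputable def Ph : SL5 →* ↥(chevE8.group (ZMod 3)) where
  toFun A := ph2 (ZMod 3) A * ph1 (ZMod 3) (it (ZMod 3) A)
  map_one' := by rw [map_one, map_one, map_one, one_mul]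
  map_mul' A B := by
    rw [map_mul, map_mul, map_mul]
    have h : ph2 (ZMod 3) B * ph1 (ZMod 3) (it (ZMod 3) A) = ph1 (ZMod 3) (it (ZMod 3) A) * ph2 (ZMod 3) B :=
      (ph_comm (ZMod 3) (it (ZMod 3) A) B).eq.symm
    rw [mul_assoc, mul_assoc, ← mul_assoc (ph2 (ZMod 3) B), h, ← mul_assoc, ← mul_assoc, ← mul_assoc, ← mul_assoc]

theorem Ph_apply (A : SL5) : Ph A = ph2 (ZMod 3) A * ph1 (ZMod 3) (it (ZMod 3) A) := rfl

theorem Ph_tv {i j : Fin 5} (hij : i ≠ j) (c : ZMod 3) :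
    Ph (SpecialLinearGroup.transvection hij c) =
      X (rt2 i j) ((sg2 i j : ZMod 3) * c) * X (rt1 j i) ((sg1 j i : ZMod 3) * (-c)) := by
  rw [Ph_apply, it_transvection, ph2_tv, ph1_tv]

theorem Ph_tv_int {i j : Fin 5} (hij : i ≠ j) (c : ℤ) :
    Ph (SpecialLinearGroup.transvection hij (c : ZMod 3)) =
      X (rt2 i j) ((sg2 i j * c : ℤ) : ZMod 3) * X (rt1 j i) ((sg1 j i * (-c) : ℤ) : ZMod 3) := by
  rw [Ph_tv, Int.cast_mul, Int.cast_mul, Int.cast_neg]

/-- the basis of `V` -/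
def vb : Fin 5 → List (ℕ × ℤ) := ![[(74, 1), (68, 1), (63, 1), (52, 1)], [(102, 2), (90, 2), (85, 2), (218, 1)],
  [(108, 1), (95, 2), (223, 2), (84, 1)], [(113, 2), (224, 1), (94, 1), (88, 1)], [(225, 2), (112, 1), (106, 2), (99, 1)]]

/-- the basis of `V*` -/
def fb : Fin 5 → List (ℕ × ℤ) := ![[(187, 1), (165, 1), (176, 1), (171, 1)], [(21, 1), (137, 2), (154, 2), (149, 2)],
  [(155, 1), (131, 1), (16, 2), (144, 2)], [(151, 1), (126, 2), (145, 1), (15, 1)], [(140, 1), (14, 2), (133, 2), (127, 1)]]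

/-- the check of the action of a transvection on a list -/
def okt (i j : Fin 5) (c : ℤ) (l l' : List (ℕ × ℤ)) : Bool :=
  okl (rt1 j i) l && okl (rt2 i j) (xa (rt1 j i) (sg1 j i * (-c)) l) &&
    eqv (xa (rt2 i j) (sg2 i j * c) (xa (rt1 j i) (sg1 j i * (-c)) l)) l'

theorem mx_mul (g h : ↥(chevE8.group (ZMod 3))) : mx (g * h) = mx g * mx h := rfl

theorem Ph_vec {i j : Fin 5} (hij : i ≠ j) {c : ℤ} {l l' : List (ℕ × ℤ)} (h : okt i j c l l' = true) :
    mx (Ph (SpecialLinearGroup.transvection hij (c : ZMod 3))) *ᵥ vec l = vec l' := by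
  unfold okt at h
  rw [Bool.and_eq_true, Bool.and_eq_true] at h
  obtain ⟨⟨h1, h2⟩, h3⟩ := h
  rw [Ph_tv_int, mx_mul, ← Matrix.mulVec_mulVec, X_vec h1, X_vec h2]
  exact vec_eq h3

private noncomputable def _root_.Cfsg.Agent.LsF.f5678cf_0 : {f // @Cfsg.Agent.H64.E83.ch = f} := ⟨_, by first | (delta Cfsg.Agent.H64.E83.ch; rewrite [Cfsg.Agent.LsF.instDecEq_eq, Cfsg.Agent.LsF.filter_eq, Cfsg.Agent.LsF.agetD_eq, Cfsg.Agent.LsF.decide_eq]; exact rfl) | exact rfl⟩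
private noncomputable def _root_.Cfsg.Agent.LsF.f5678cf_1 : {f // @Cfsg.Agent.H64.E83.okc = f} := ⟨_, by first | (delta Cfsg.Agent.H64.E83.okc; rewrite [Cfsg.Agent.LsF.f5678cf_0.2, Cfsg.Agent.LsF.and_eq, Cfsg.Agent.LsF.not_eq, Cfsg.Agent.LsF.agetD_eq]; (try delta Cfsg.Agent.H64.E83.okc.match_5); (try delta Cfsg.Agent.H64.E83.okc._sparseCasesOn_2); (try delta Cfsg.Agent.H64.E83.okc.match_1); (try delta Cfsg.Agent.H64.E83.okc._sparseCasesOn_1); (try delta List.casesOn); exact rfl) | exact rfl⟩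
private noncomputable def _root_.Cfsg.Agent.LsF.f5678cf_2 : {f // @Cfsg.Agent.H64.E83.okl = f} := ⟨_, by first | (delta Cfsg.Agent.H64.E83.okl; rewrite [Cfsg.Agent.LsF.f5678cf_1.2, Cfsg.Agent.LsF.all_eq]; exact rfl) | exact rfl⟩
private noncomputable def _root_.Cfsg.Agent.LsF.f5678cf_3 : {f // @Cfsg.Agent.H238.E8.rt1 = f} := ⟨_, by first | (delta Cfsg.Agent.H238.E8.rt1; rewrite [Cfsg.Agent.LsF.vecCons_eq]; exact rfl) | exact rfl⟩
private noncomputable def _root_.Cfsg.Agent.LsF.f5678cf_4 : {f // @Cfsg.Agent.H238.E8.rt2 = f} := ⟨_, by first | (delta Cfsg.Agent.H238.E8.rt2; rewrite [Cfsg.Agent.LsF.vecCons_eq]; exact rfl) | exact rfl⟩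
private noncomputable def _root_.Cfsg.Agent.LsF.f5678cf_5 : {f // @Cfsg.Agent.H64.E83.dx = f} := ⟨_, by first | (delta Cfsg.Agent.H64.E83.dx; rewrite [Cfsg.Agent.LsF.f5678cf_0.2, Cfsg.Agent.LsF.imul_pat]; (try delta Cfsg.Agent.H64.E83.dx.match_1); (try delta Cfsg.Agent.H64.E83.okc._sparseCasesOn_1); (try delta Cfsg.Agent.H64.E83.okc._sparseCasesOn_2); (try delta Cfsg.Agent.H64.E83.okc.match_1); exact rfl) | exact rfl⟩
private noncomputable def _root_.Cfsg.Agent.LsF.f5678cf_6 : {f // @Cfsg.Agent.H64.E83.xa = f} := ⟨_, by first | (delta Cfsg.Agent.H64.E83.xa List.brecOn List.brecOn.go Cfsg.Agent.H64.E83.xa._f; rewrite [Cfsg.Agent.LsF.f5678cf_5.2, Cfsg.Agent.LsF.imul_pat, Cfsg.Agent.LsF.lappend_pat, Cfsg.Agent.LsF.map_eq]; (try delta Cfsg.Agent.H64.E83.xa.match_1); (try delta List.casesOn); first | dsimp -zeta only | exact rfl) | exact rfl⟩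
private noncomputable def _root_.Cfsg.Agent.LsF.f5678cf_7 : {f // @Cfsg.Agent.H238.E8.sg1 = f} := ⟨_, by first | (delta Cfsg.Agent.H238.E8.sg1; rewrite [Cfsg.Agent.LsF.ineg_pat, Cfsg.Agent.LsF.vecCons_eq]; exact rfl) | exact rfl⟩
private noncomputable def _root_.Cfsg.Agent.LsF.f5678cf_8 : {f // @Cfsg.Agent.H64.E83.cf = f} := ⟨_, by first | (delta Cfsg.Agent.H64.E83.cf; rewrite [Cfsg.Agent.LsF.instDecEq_eq, Cfsg.Agent.LsF.map_eq, Cfsg.Agent.LsF.sum_eq, Cfsg.Agent.LsF.instIAdd_eq, Cfsg.Agent.LsF.ite_eq]; exact rfl) | exact rfl⟩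
private noncomputable def _root_.Cfsg.Agent.LsF.f5678cf_9 : {f // @Cfsg.Agent.H64.E83.eqv = f} := ⟨_, by first | (delta Cfsg.Agent.H64.E83.eqv; rewrite [Cfsg.Agent.LsF.f5678cf_8.2, Cfsg.Agent.LsF.isub_pat, Cfsg.Agent.LsF.imod_pat, Cfsg.Agent.LsF.lappend_pat, Cfsg.Agent.LsF.all_eq, Cfsg.Agent.LsF.instIDecEq_eq, Cfsg.Agent.LsF.decide_eq]; exact rfl) | exact rfl⟩
private noncomputable def _root_.Cfsg.Agent.LsF.f5678cf_10 : {f // @Cfsg.Agent.H238.E8.sg2 = f} := ⟨_, by first | (delta Cfsg.Agent.H238.E8.sg2; rewrite [Cfsg.Agent.LsF.vecCons_eq]; exact rfl) | exact rfl⟩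
private noncomputable def _root_.Cfsg.Agent.LsF.f5678cf_11 : {f // @Cfsg.Agent.H64.E83.okt = f} := ⟨_, by first | (delta Cfsg.Agent.H64.E83.okt; rewrite [Cfsg.Agent.LsF.f5678cf_2.2, Cfsg.Agent.LsF.f5678cf_3.2, Cfsg.Agent.LsF.f5678cf_4.2, Cfsg.Agent.LsF.f5678cf_6.2, Cfsg.Agent.LsF.f5678cf_7.2, Cfsg.Agent.LsF.f5678cf_9.2, Cfsg.Agent.LsF.f5678cf_10.2, Cfsg.Agent.LsF.imul_pat, Cfsg.Agent.LsF.ineg_pat, Cfsg.Agent.LsF.and_eq]; exact rfl) | exact rfl⟩
private noncomputable def _root_.Cfsg.Agent.LsF.f5678cf_12 : {f // @Cfsg.Agent.H64.E83.vb = f} := ⟨_, by first | (delta Cfsg.Agent.H64.E83.vb; rewrite [Cfsg.Agent.LsF.vecCons_eq]; exact rfl) | exact rfl⟩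
theorem chk4 : ∀ i j m : Fin 5, i ≠ j → ∀ c : Fin 3, okt i j (c.val : ℤ) (vb m)
    (if m = j then vb m ++ (vb i).map (fun q => (q.1, (c.val : ℤ) * q.2)) else vb m) = true := by (refine of_decide_eq_true ?_; (try (rewrite [Cfsg.Agent.LsF.f5678cf_11.2, Cfsg.Agent.LsF.f5678cf_12.2, Cfsg.Agent.LsF.imul_pat, Cfsg.Agent.LsF.icast_pat, Cfsg.Agent.LsF.lappend_pat, Cfsg.Agent.LsF.map_eq, Cfsg.Agent.LsF.dNot_eq, Cfsg.Agent.LsF.dFinEq_eq, Cfsg.Agent.LsF.dBoolEq_eq, Cfsg.Agent.LsF.dForallFin_eq, Cfsg.Agent.LsF.dAllP_eq, Cfsg.Agent.LsF.ite_eq, Cfsg.Agent.LsF.decide_eq])); decide +kernel)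

private noncomputable def _root_.Cfsg.Agent.LsF.f5678cf_13 : {f // @Cfsg.Agent.H64.E83.fb = f} := ⟨_, by first | (delta Cfsg.Agent.H64.E83.fb; rewrite [Cfsg.Agent.LsF.vecCons_eq]; exact rfl) | exact rfl⟩
theorem chk1 : ∀ i j m : Fin 5, i ≠ j → ∀ c : Fin 3, okt i j (c.val : ℤ) (fb m)
    (if m = i then fb m ++ (fb j).map (fun q => (q.1, (-(c.val : ℤ)) * q.2)) else fb m) = true := by (refine of_decide_eq_true ?_; (try (rewrite [Cfsg.Agent.LsF.f5678cf_11.2, Cfsg.Agent.LsF.f5678cf_13.2, Cfsg.Agent.LsF.imul_pat, Cfsg.Agent.LsF.ineg_pat, Cfsg.Agent.LsF.icast_pat, Cfsg.Agent.LsF.lappend_pat, Cfsg.Agent.LsF.map_eq, Cfsg.Agent.LsF.dNot_eq, Cfsg.Agent.LsF.dFinEq_eq, Cfsg.Agent.LsF.dBoolEq_eq, Cfsg.Agent.LsF.dForallFin_eq, Cfsg.Agent.LsF.dAllP_eq, Cfsg.Agent.LsF.ite_eq, Cfsg.Agent.LsF.decide_eq])); decide +kernel)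

/-- the embedding of `V` -/
def i4 (w : Fin 5 → ZMod 3) : L3 := ∑ m, w m • vec (vb m)

/-- the embedding of `V*` -/
def i1 (w : Fin 5 → ZMod 3) : L3 := ∑ m, w m • vec (fb m)

theorem i4_add (w w' : Fin 5 → ZMod 3) : i4 (w + w') = i4 w + i4 w' := by
  unfold i4; rw [← Finset.sum_add_distrib]; exact Finset.sum_congr rfl fun m _ => add_smul _ _ _

theorem i1_add (w w' : Fin 5 → ZMod 3) : i1 (w + w') = i1 w + i1 w' := by
  unfold i1; rw [← Finset.sum_add_distrib]; exact Finset.sum_congr rfl fun m _ => add_smul _ _ _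

theorem i4_smul (c : ZMod 3) (w : Fin 5 → ZMod 3) : i4 (c • w) = c • i4 w := by
  unfold i4; rw [Finset.smul_sum]; exact Finset.sum_congr rfl fun m _ => mul_smul _ _ _

theorem i1_smul (c : ZMod 3) (w : Fin 5 → ZMod 3) : i1 (c • w) = c • i1 w := by
  unfold i1; rw [Finset.smul_sum]; exact Finset.sum_congr rfl fun m _ => mul_smul _ _ _

theorem int_of (c : ZMod 3) : ∃ n : Fin 3, ((n.val : ℤ) : ZMod 3) = c := by revert c; decide

theorem Ph_vb {i j : Fin 5} (hij : i ≠ j) (c : ZMod 3) (m : Fin 5) :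
    mx (Ph (SpecialLinearGroup.transvection hij c)) *ᵥ vec (vb m) = vec (vb m) + (if m = j then c else 0) • vec (vb i) := by
  obtain ⟨n, rfl⟩ := int_of c
  rw [Ph_vec hij (chk4 i j m hij n)]
  by_cases h : m = j
  · rw [if_pos h, if_pos h, vec_append, vec_smul]
  · rw [if_neg h, if_neg h, zero_smul, add_zero]

theorem Ph_fb {i j : Fin 5} (hij : i ≠ j) (c : ZMod 3) (m : Fin 5) :
    mx (Ph (SpecialLinearGroup.transvection hij c)) *ᵥ vec (fb m) = vec (fb m) + (if m = i then -c else 0) • vec (fb j) := by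
  obtain ⟨n, rfl⟩ := int_of c
  rw [Ph_vec hij (chk1 i j m hij n)]
  by_cases h : m = i
  · rw [if_pos h, if_pos h, vec_append, vec_smul, Int.cast_neg]
  · rw [if_neg h, if_neg h, zero_smul, add_zero]

theorem tv_mulVec (i j : Fin 5) (c : ZMod 3) (w : Fin 5 → ZMod 3) :
    Matrix.transvection i j c *ᵥ w = w + (c * w j) • Pi.single i (1 : ZMod 3) := by
  funext a
  rw [Matrix.transvection, Matrix.add_mulVec, Matrix.one_mulVec, Pi.add_apply, Pi.add_apply, Matrix.single_mulVec]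
  congr 1
  rw [Pi.smul_apply, smul_eq_mul, Function.update_apply, Pi.single_apply]
  split_ifs
  · rw [mul_one]
  · rw [mul_zero]; rfl

theorem act4 (A : SL5) (w : Fin 5 → ZMod 3) : mx (Ph A) *ᵥ i4 w = i4 (A.1 *ᵥ w) := by
  revert w
  refine tv_ind (fun A => ∀ w : Fin 5 → ZMod 3, mx (Ph A) *ᵥ i4 w = i4 (A.1 *ᵥ w)) ?_ ?_ A
  · intro i j hij c w
    show _ = i4 (Matrix.transvection i j c *ᵥ w)
    rw [tv_mulVec, i4_add, i4_smul]
    have h1 : i4 (Pi.single i 1) = vec (vb i) := by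
      unfold i4
      rw [Finset.sum_eq_single i (fun m _ hm => by rw [Pi.single_eq_of_ne hm, zero_smul]) (fun h => absurd (Finset.mem_univ _) h),
        Pi.single_eq_same, one_smul]
    rw [h1]
    unfold i4
    rw [Matrix.mulVec_sum]
    have h2 : ∀ m, mx (Ph (SpecialLinearGroup.transvection hij c)) *ᵥ (w m • vec (vb m)) =
        w m • vec (vb m) + (if m = j then c * w m else 0) • vec (vb i) := by
      intro m
      rw [Matrix.mulVec_smul, Ph_vb, smul_add, smul_smul]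
      congr 2
      split_ifs
      · exact mul_comm _ _
      · exact mul_zero _
    rw [Finset.sum_congr rfl fun m _ => h2 m, Finset.sum_add_distrib, ← Finset.sum_smul]
    congr 2
    rw [Finset.sum_ite_eq' Finset.univ j (fun m => c * w m), if_pos (Finset.mem_univ _)]
  · intro A B hA hB w
    rw [map_mul, mx_mul, ← Matrix.mulVec_mulVec, hB, hA]
    show _ = i4 ((A.1 * B.1) *ᵥ w)
    rw [← Matrix.mulVec_mulVec]

theorem act1 (A : SL5) (w : Fin 5 → ZMod 3) : mx (Ph A) *ᵥ i1 w = i1 ((it (ZMod 3) A).1 *ᵥ w) := by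
  revert w
  refine tv_ind (fun A => ∀ w : Fin 5 → ZMod 3, mx (Ph A) *ᵥ i1 w = i1 ((it (ZMod 3) A).1 *ᵥ w)) ?_ ?_ A
  · intro i j hij c w
    rw [it_transvection]
    show _ = i1 (Matrix.transvection j i (-c) *ᵥ w)
    rw [tv_mulVec, i1_add, i1_smul]
    have h1 : i1 (Pi.single j 1) = vec (fb j) := by
      unfold i1
      rw [Finset.sum_eq_single j (fun m _ hm => by rw [Pi.single_eq_of_ne hm, zero_smul]) (fun h => absurd (Finset.mem_univ _) h),
        Pi.single_eq_same, one_smul]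
    rw [h1]
    unfold i1
    rw [Matrix.mulVec_sum]
    have h2 : ∀ m, mx (Ph (SpecialLinearGroup.transvection hij c)) *ᵥ (w m • vec (fb m)) =
        w m • vec (fb m) + (if m = i then -c * w m else 0) • vec (fb j) := by
      intro m
      rw [Matrix.mulVec_smul, Ph_fb, smul_add, smul_smul]
      congr 2
      split_ifs
      · exact mul_comm _ _
      · exact mul_zero _
    rw [Finset.sum_congr rfl fun m _ => h2 m, Finset.sum_add_distrib, ← Finset.sum_smul]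
    congr 2
    rw [Finset.sum_ite_eq' Finset.univ i (fun m => -c * w m), if_pos (Finset.mem_univ _)]
  · intro A B hA hB w
    rw [map_mul, mx_mul, ← Matrix.mulVec_mulVec, hB, hA, map_mul]
    show _ = i1 (((it (ZMod 3) A).1 * (it (ZMod 3) B).1) *ᵥ w)
    rw [← Matrix.mulVec_mulVec]

end Cfsg.Agent.H64.E83
end

-- part: H64/E83/Orb
section
prune_inst 0x400300441000200000005020000104084000092000b8000d8000b44080ef42249022e01c82029100020a0800000000811000060024000000400040000010120888002002140010020008f000000000000000000000000000000000000041000000000000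
set_option linter.all false
open scoped Cfsg.Agent.FastGrp

-- part: H64/E83/Stab
section
/-!
# The stabilisers of the two 5-dimensional submodules in `E₈(3)` (helper64)
-/

set_option autoImplicit false

namespace Cfsg.Agent.H64.E83

open Matrix Cfsg Cfsg.Lie Cfsg.Agent.ChevalleyStructure Cfsg.Agent.ChevalleyStructure.Elts
open Cfsg.Agent.H992.E8X Cfsg.Agent.H238.E8
open Cfsg.Agent.H788.E83 (SL5 it it_transvection As Ax Ay At Afa Afb Ax_eq order_s)

/-- `E₈(3)` -/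
abbrev E : Type := ↥(chevE8.group (ZMod 3))

/-- the action -/
abbrev ac (g : E) (v : L3) : L3 := mx g *ᵥ v

theorem ac_one (v : L3) : ac 1 v = v := Matrix.one_mulVec v

theorem ac_mul (g h : E) (v : L3) : ac (g * h) v = ac g (ac h v) := by
  show (mx g * mx h) *ᵥ v = _
  rw [← Matrix.mulVec_mulVec]

theorem ac_inv_ac (g : E) (v : L3) : ac g⁻¹ (ac g v) = v := by rw [← ac_mul, inv_mul_cancel, ac_one]

theorem ac_ac_inv (g : E) (v : L3) : ac g (ac g⁻¹ v) = v := by rw [← ac_mul, mul_inv_cancel, ac_one]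

theorem ac_add (g : E) (v w : L3) : ac g (v + w) = ac g v + ac g w := Matrix.mulVec_add _ _ _

theorem ac_smul (g : E) (c : ZMod 3) (v : L3) : ac g (c • v) = c • ac g v := Matrix.mulVec_smul _ _ _

theorem ac_sum (g : E) {ι : Type*} (s : Finset ι) (f : ι → L3) : ac g (∑ i ∈ s, f i) = ∑ i ∈ s, ac g (f i) :=
  Matrix.mulVec_sum _ _ _

/-- `U_I` -/
def U4 : Submodule (ZMod 3) L3 where
  carrier := {v | ∃ w, i4 w = v}
  zero_mem' := ⟨0, by rw [← zero_smul (ZMod 3) (0 : Fin 5 → ZMod 3), i4_smul, zero_smul]⟩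
  add_mem' := by
    rintro _ _ ⟨w, rfl⟩ ⟨w', rfl⟩
    exact ⟨w + w', i4_add w w'⟩
  smul_mem' := by
    rintro c _ ⟨w, rfl⟩
    exact ⟨c • w, i4_smul c w⟩

/-- `U_II` -/
def U1 : Submodule (ZMod 3) L3 where
  carrier := {v | ∃ w, i1 w = v}
  zero_mem' := ⟨0, by rw [← zero_smul (ZMod 3) (0 : Fin 5 → ZMod 3), i1_smul, zero_smul]⟩
  add_mem' := by
    rintro _ _ ⟨w, rfl⟩ ⟨w', rfl⟩
    exact ⟨w + w', i1_add w w'⟩
  smul_mem' := by
    rintro c _ ⟨w, rfl⟩
    exact ⟨c • w, i1_smul c w⟩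

theorem mem_U1 {v : L3} : v ∈ U1 ↔ ∃ w, i1 w = v := Iff.rfl

theorem Ph_U4 (A : SL5) {v : L3} (hv : v ∈ U4) : ac (Ph A) v ∈ U4 := by
  obtain ⟨w, rfl⟩ := hv
  exact ⟨_, (act4 A w).symm⟩

theorem Ph_U1 (A : SL5) {v : L3} (hv : v ∈ U1) : ac (Ph A) v ∈ U1 := by
  obtain ⟨w, rfl⟩ := hv
  exact ⟨_, (act1 A w).symm⟩

/-! ### coordinates -/

theorem i4_inr (w : Fin 5 → ZMod 3) (u : Fin chevE8.nroots) : i4 w (Sum.inr u) = ∑ m, w m * (cf (vb m) u.val : ZMod 3) := by
  unfold i4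
  rw [Finset.sum_apply]
  exact Finset.sum_congr rfl fun m _ => by rw [Pi.smul_apply, vec_inr, smul_eq_mul]

theorem i1_inr (w : Fin 5 → ZMod 3) (u : Fin chevE8.nroots) : i1 w (Sum.inr u) = ∑ m, w m * (cf (fb m) u.val : ZMod 3) := by
  unfold i1
  rw [Finset.sum_apply]
  exact Finset.sum_congr rfl fun m _ => by rw [Pi.smul_apply, vec_inr, smul_eq_mul]

/-- coordinates which are one on `vb m` and zero on the other basis vectors -/
def n4 : Fin 5 → ℕ := ![74, 218, 84, 88, 99]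

def n1 : Fin 5 → ℕ := ![187, 21, 155, 15, 140]

theorem n4_lt : ∀ n, n4 n < chevE8.nroots := by decide +kernel

theorem n1_lt : ∀ n, n1 n < chevE8.nroots := by decide +kernel

def p4 (n : Fin 5) : Fin chevE8.nroots := ⟨n4 n, n4_lt n⟩

def p1 (n : Fin 5) : Fin chevE8.nroots := ⟨n1 n, n1_lt n⟩

theorem p4_cf : ∀ m n : Fin 5, cf (vb m) (p4 n).val = if m = n then 1 else 0 := by decide +kernel

theorem p1_cf : ∀ m n : Fin 5, cf (fb m) (p1 n).val = if m = n then 1 else 0 := by decide +kernel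

theorem i4_p4 (w : Fin 5 → ZMod 3) (n : Fin 5) : i4 w (Sum.inr (p4 n)) = w n := by
  rw [i4_inr]
  have h : ∀ m, w m * ((cf (vb m) (p4 n).val : ℤ) : ZMod 3) = if m = n then w n else 0 := by
    intro m
    rw [p4_cf]
    by_cases h : m = n
    · rw [if_pos h, if_pos h, h]; simp
    · rw [if_neg h, if_neg h]; simp
  rw [Finset.sum_congr rfl fun m _ => h m, Finset.sum_ite_eq' Finset.univ n fun _ => w n, if_pos (Finset.mem_univ _)]

theorem i1_p1 (w : Fin 5 → ZMod 3) (n : Fin 5) : i1 w (Sum.inr (p1 n)) = w n := by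
  rw [i1_inr]
  have h : ∀ m, w m * ((cf (fb m) (p1 n).val : ℤ) : ZMod 3) = if m = n then w n else 0 := by
    intro m
    rw [p1_cf]
    by_cases h : m = n
    · rw [if_pos h, if_pos h, h]; simp
    · rw [if_neg h, if_neg h]; simp
  rw [Finset.sum_congr rfl fun m _ => h m, Finset.sum_ite_eq' Finset.univ n fun _ => w n, if_pos (Finset.mem_univ _)]

theorem i4_inj {w w' : Fin 5 → ZMod 3} (h : i4 w = i4 w') : w = w' := by
  funext n
  rw [← i4_p4 w, h, i4_p4]

theorem i1_inj {w w' : Fin 5 → ZMod 3} (h : i1 w = i1 w') : w = w' := by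
  funext n
  rw [← i1_p1 w, h, i1_p1]

/-- **`Ph` is injective.** -/
theorem Ph_inj : Function.Injective Ph := by
  rw [injective_iff_map_eq_one]
  intro A hA
  apply Subtype.ext
  have h : ∀ w : Fin 5 → ZMod 3, A.1 *ᵥ w = w := fun w => by
    apply i4_inj
    rw [← act4, hA]
    exact ac_one _
  show A.1 = 1
  exact Matrix.toLin'.injective (LinearMap.ext fun w => by rw [Matrix.toLin'_apply, h, Matrix.toLin'_one, LinearMap.id_apply])

theorem order_Ph_As : orderOf (Ph As) = 121 := by rw [orderOf_injective Ph Ph_inj, order_s]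

/-! ### the stabiliser of a subspace -/

/-- the stabiliser -/
def stabW (W : Submodule (ZMod 3) L3) : Subgroup E where
  carrier := {g | ∀ v ∈ W, ac g v ∈ W}
  one_mem' := fun v hv => by rw [ac_one]; exact hv
  mul_mem' := fun {a b} ha hb v hv => by rw [ac_mul]; exact ha _ (hb v hv)
  inv_mem' := by
    intro g hg v hv
    have hfin : Finite E := inferInstance
    obtain ⟨n, hn, h1⟩ : ∃ n, 0 < n ∧ g ^ n = 1 := (isOfFinOrder_of_finite g).exists_pow_eq_one
    have h2 : g⁻¹ = g ^ (n - 1) := by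
      rw [inv_eq_iff_mul_eq_one, ← pow_succ', Nat.sub_add_cancel hn, h1]
    rw [h2]
    have h3 : ∀ m : ℕ, ∀ v ∈ W, ac (g ^ m) v ∈ W := by
      intro m
      induction m with
      | zero => intro v hv; rw [pow_zero, ac_one]; exact hv
      | succ m ih => intro v hv; rw [pow_succ, ac_mul]; exact ih _ (hg v hv)
    exact h3 _ v hv

theorem mem_stabW {W : Submodule (ZMod 3) L3} {g : E} : g ∈ stabW W ↔ ∀ v ∈ W, ac g v ∈ W := Iff.rfl

/-- **A coatom stabilising a `Ph`-stable proper subspace has order divisible by 121.** -/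
theorem dvd_of_stab {H : Subgroup E} (hH : IsCoatom H) {W : Submodule (ZMod 3) L3} (hW : ∀ A : SL5, Ph A ∈ stabW W)
    (hne : stabW W ≠ ⊤) (hHW : H ≤ stabW W) : 121 ∣ Nat.card H := by
  have h1 : stabW W = H := by
    rcases hH.le_iff.1 hHW with h | h
    · exact absurd h hne
    · exact h
  have h2 : Ph As ∈ H := h1 ▸ hW As
  have h3 := Subgroup.orderOf_dvd_natCard H h2
  rwa [order_Ph_As] at h3

/-! ### the subspaces are not stable under `E₈(3)` -/

theorem okl17 : okl 17 (vb 0) = true ∧ okl 17 (fb 0) = true := by decide +kernel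

theorem cf7 : (∀ m, cf (vb m) 7 = 0 ∧ cf (fb m) 7 = 0 ∧ cf (vb m) 80 = 0 ∧ cf (fb m) 80 = 0) ∧
    ¬ (3 : ℤ) ∣ cf (xa 17 1 (vb 0)) 7 ∧ ¬ (3 : ℤ) ∣ cf (xa 17 1 (fb 0)) 80 := by decide +kernel

theorem i4_single (m : Fin 5) : i4 (Pi.single m 1) = vec (vb m) := by
  unfold i4
  rw [Finset.sum_eq_single m (fun n _ hn => by rw [Pi.single_eq_of_ne hn, zero_smul]) (fun h => absurd (Finset.mem_univ _) h),
    Pi.single_eq_same, one_smul]

theorem i1_single (m : Fin 5) : i1 (Pi.single m 1) = vec (fb m) := by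
  unfold i1
  rw [Finset.sum_eq_single m (fun n _ hn => by rw [Pi.single_eq_of_ne hn, zero_smul]) (fun h => absurd (Finset.mem_univ _) h),
    Pi.single_eq_same, one_smul]

/-- the coordinates vanishing on `U_I ⊔ U_II` -/
theorem U41_zero {v : L3} (hv : v ∈ U4 ⊔ U1) : v (Sum.inr ⟨7, by decide⟩) = 0 ∧ v (Sum.inr ⟨80, by decide⟩) = 0 := by
  obtain ⟨a, ⟨w, rfl⟩, b, ⟨w', rfl⟩, rfl⟩ := Submodule.mem_sup.1 hv
  constructor
  · rw [Pi.add_apply, i4_inr, i1_inr, Finset.sum_eq_zero, Finset.sum_eq_zero, add_zero]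
    · intro m _
      rw [(cf7.1 m).2.1, Int.cast_zero, mul_zero]
    · intro m _
      rw [(cf7.1 m).1, Int.cast_zero, mul_zero]
  · rw [Pi.add_apply, i4_inr, i1_inr, Finset.sum_eq_zero, Finset.sum_eq_zero, add_zero]
    · intro m _
      rw [(cf7.1 m).2.2.2, Int.cast_zero, mul_zero]
    · intro m _
      rw [(cf7.1 m).2.2.1, Int.cast_zero, mul_zero]

theorem ne_top_of {W : Submodule (ZMod 3) L3} (hW : W ≤ U4 ⊔ U1) (h : vec (vb 0) ∈ W ∨ vec (fb 0) ∈ W) :
    stabW W ≠ ⊤ := by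
  intro htop
  have hg : X 17 ((1 : ℤ) : ZMod 3) ∈ stabW W := htop ▸ Subgroup.mem_top _
  rcases h with h | h
  · have h1 := (U41_zero (hW (hg _ h))).1
    have h2 : ac (X 17 ((1 : ℤ) : ZMod 3)) (vec (vb 0)) = vec (xa 17 1 (vb 0)) := X_vec okl17.1 1
    rw [h2, vec_inr] at h1
    exact cf7.2.1 ((ZMod.intCast_zmod_eq_zero_iff_dvd _ 3).1 h1)
  · have h1 := (U41_zero (hW (hg _ h))).2
    have h2 : ac (X 17 ((1 : ℤ) : ZMod 3)) (vec (fb 0)) = vec (xa 17 1 (fb 0)) := X_vec okl17.2 1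
    rw [h2, vec_inr] at h1
    exact cf7.2.2 ((ZMod.intCast_zmod_eq_zero_iff_dvd _ 3).1 h1)

theorem ne_top4 : stabW U4 ≠ ⊤ := ne_top_of le_sup_left (Or.inl ⟨_, i4_single 0⟩)

theorem ne_top1 : stabW U1 ≠ ⊤ := ne_top_of le_sup_right (Or.inr ⟨_, i1_single 0⟩)

theorem ne_top41 : stabW (U4 ⊔ U1) ≠ ⊤ := ne_top_of le_rfl (Or.inl (le_sup_left (a := U4) ⟨_, i4_single 0⟩))

theorem Ph_stab4 (A : SL5) : Ph A ∈ stabW U4 := fun _ hv => Ph_U4 A hv

theorem Ph_stab1 (A : SL5) : Ph A ∈ stabW U1 := fun _ hv => Ph_U1 A hv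

theorem Ph_stab41 (A : SL5) : Ph A ∈ stabW (U4 ⊔ U1) := by
  intro v hv
  obtain ⟨a, ha, b, hb, rfl⟩ := Submodule.mem_sup.1 hv
  rw [ac_add]
  exact Submodule.add_mem_sup (Ph_U4 A ha) (Ph_U1 A hb)

/-! ### orbits of the special vectors -/

/-- the line of `A_I` -/
def qI : L3 := i4 ![1, 0, 0, 0, 0]

/-- the line of `A_II` -/
def qII : L3 := i1 ![1, 0, 0, 0, 2]

end Cfsg.Agent.H64.E83
end

-- part: H64/E83/Orb
section
/-!
# `S₀`, `PGL₂(11)`, `M₁₁` stabilise the 5-dimensional submodules (helper64)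
-/

set_option autoImplicit false
set_option maxRecDepth 10000
set_option maxHeartbeats 100000

namespace Cfsg.Agent.H64.E83

open Matrix Cfsg Cfsg.Lie Cfsg.Agent.ChevalleyStructure Cfsg.Agent.ChevalleyStructure.Elts
open Cfsg.Agent.H992.E8X Cfsg.Agent.H238.E8
open Cfsg.Agent.H788.E83 (SL5 it it_transvection As Ax Ay At Afa Afb Ax_eq Ay_eq At_eq order_s x_pow y_pow t_sq y_x' t_y')

attribute [local irreducible] i4 i1 Ph

theorem ac_i4 (A : SL5) (w : Fin 5 → ZMod 3) : ac (Ph A) (i4 w) = i4 (A.1 *ᵥ w) := act4 A w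

theorem ac_i1 (A : SL5) (w : Fin 5 → ZMod 3) : ac (Ph A) (i1 w) = i1 ((it (ZMod 3) A).1 *ᵥ w) := act1 A w

theorem decomp {M N : Matrix (Fin 5) (Fin 5) (ZMod 3)} (h : M * N = 1) (w : Fin 5 → ZMod 3) :
    w = ∑ k, (N *ᵥ w) k • (fun i => M i k) := by
  have h1 : M *ᵥ (N *ᵥ w) = w := by rw [Matrix.mulVec_mulVec, h, Matrix.one_mulVec]
  funext i
  rw [Finset.sum_apply]
  conv_lhs => rw [← h1]
  show ∑ k, M i k * (N *ᵥ w) k = _
  exact Finset.sum_congr rfl fun k _ => mul_comm _ _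

theorem i4_sum {ι : Type*} (s : Finset ι) (f : ι → Fin 5 → ZMod 3) : i4 (∑ k ∈ s, f k) = ∑ k ∈ s, i4 (f k) := by
  classical
  induction s using Finset.induction_on with
  | empty => rw [Finset.sum_empty, Finset.sum_empty, ← zero_smul (ZMod 3) (0 : Fin 5 → ZMod 3), i4_smul, zero_smul]
  | insert a s ha ih => rw [Finset.sum_insert ha, Finset.sum_insert ha, i4_add, ih]

theorem i1_sum {ι : Type*} (s : Finset ι) (f : ι → Fin 5 → ZMod 3) : i1 (∑ k ∈ s, f k) = ∑ k ∈ s, i1 (f k) := by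
  classical
  induction s using Finset.induction_on with
  | empty => rw [Finset.sum_empty, Finset.sum_empty, ← zero_smul (ZMod 3) (0 : Fin 5 → ZMod 3), i1_smul, zero_smul]
  | insert a s ha ih => rw [Finset.sum_insert ha, Finset.sum_insert ha, i1_add, ih]

/-! ### the orbit of `x` on the two lines -/

/-- `x ^ k e₀` -/
def o4 : ℕ → Fin 5 → ZMod 3
  | 0 => ![1, 0, 0, 0, 0]
  | 1 => ![1, 1, 2, 2, 0]
  | 2 => ![2, 0, 0, 2, 2]
  | 3 => ![2, 0, 2, 1, 1]
  | 4 => ![1, 2, 2, 0, 0]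
  | 5 => ![0, 1, 0, 2, 2]
  | 6 => ![0, 2, 2, 2, 0]
  | 7 => ![1, 0, 2, 2, 1]
  | 8 => ![1, 1, 2, 2, 1]
  | 9 => ![1, 2, 0, 1, 0]
  | _ => ![2, 0, 0, 1, 2]

/-- `(x ^ k)⁻ᵀ (f₀ - f₄)` -/
def o1 : ℕ → Fin 5 → ZMod 3
  | 0 => ![1, 0, 0, 0, 2]
  | 1 => ![0, 0, 2, 0, 2]
  | 2 => ![1, 2, 2, 1, 0]
  | 3 => ![0, 0, 2, 0, 0]
  | 4 => ![0, 0, 2, 1, 1]
  | 5 => ![0, 1, 2, 2, 1]
  | 6 => ![1, 2, 1, 2, 0]
  | 7 => ![1, 0, 1, 2, 0]
  | 8 => ![1, 1, 0, 1, 0]
  | 9 => ![0, 2, 1, 0, 2]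
  | _ => ![1, 1, 2, 0, 1]

theorem o4_step : ∀ k : Fin 10, Ax.1 *ᵥ o4 k = o4 (k + 1) := by rw [Ax_eq]; decide +kernel

theorem o1_step : ∀ k : Fin 10, Ax.1ᵀ *ᵥ o1 (k + 1) = o1 k := by rw [Ax_eq]; decide +kernel

theorem act1' {A : SL5} {w w' : Fin 5 → ZMod 3} (h : A.1ᵀ *ᵥ w' = w) : ac (Ph A) (i1 w) = i1 w' := by
  have h1 : (it (ZMod 3) A).1 * A.1ᵀ = 1 := by
    show ((A⁻¹ : SL5).1)ᵀ * A.1ᵀ = 1
    rw [← Matrix.transpose_mul]
    have h2 : A.1 * (A⁻¹ : SL5).1 = 1 := by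
      have h3 := Matrix.SpecialLinearGroup.coe_mul A A⁻¹
      rw [mul_inv_cancel] at h3
      exact h3.symm
    rw [h2, Matrix.transpose_one]
  rw [ac_i1, ← h, Matrix.mulVec_mulVec, h1, Matrix.one_mulVec]

theorem act4' {A : SL5} {w w' : Fin 5 → ZMod 3} (h : A.1 *ᵥ w = w') : ac (Ph A) (i4 w) = i4 w' := by
  rw [ac_i4, h]

theorem qI_eq : qI = i4 (o4 0) := congrArg i4 (by decide)

theorem qII_eq : qII = i1 (o1 0) := congrArg i1 (by decide)

theorem x_qI : ∀ k, k ≤ 10 → ac (Ph Ax ^ k) qI = i4 (o4 k) := by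
  intro k
  induction k with
  | zero => intro _; rw [pow_zero, ac_one]; exact qI_eq
  | succ k ih =>
    intro hk
    rw [pow_succ', ac_mul, ih (by omega)]
    exact act4' (o4_step ⟨k, by omega⟩)

theorem x_qII : ∀ k, k ≤ 10 → ac (Ph Ax ^ k) qII = i1 (o1 k) := by
  intro k
  induction k with
  | zero => intro _; rw [pow_zero, ac_one]; exact qII_eq
  | succ k ih =>
    intro hk
    rw [pow_succ', ac_mul, ih (by omega)]
    exact act1' (o1_step ⟨k, by omega⟩)

def M4 : Matrix (Fin 5) (Fin 5) (ZMod 3) := !![1, 1, 2, 2, 1; 0, 1, 0, 0, 2; 0, 2, 0, 2, 2; 0, 2, 2, 1, 0; 0, 0, 2, 1, 0]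
def N4 : Matrix (Fin 5) (Fin 5) (ZMod 3) := !![1, 0, 1, 0, 2; 0, 0, 0, 2, 1; 0, 1, 2, 2, 0; 0, 1, 2, 2, 1; 0, 2, 0, 2, 1]
def M5 : Matrix (Fin 5) (Fin 5) (ZMod 3) := !![1, 2, 1, 0, 1; 1, 0, 2, 1, 2; 2, 2, 0, 0, 2; 2, 1, 1, 2, 0; 0, 1, 0, 2, 0]
def N5 : Matrix (Fin 5) (Fin 5) (ZMod 3) := !![2, 2, 0, 0, 2; 2, 1, 1, 2, 2; 2, 2, 0, 1, 1; 2, 1, 1, 2, 1; 2, 0, 1, 1, 2]
def M1 : Matrix (Fin 5) (Fin 5) (ZMod 3) := !![1, 0, 1, 0, 0; 0, 0, 2, 0, 0; 0, 2, 2, 2, 2; 0, 0, 1, 0, 1; 2, 2, 0, 0, 1]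
def N1 : Matrix (Fin 5) (Fin 5) (ZMod 3) := !![1, 1, 0, 0, 0; 2, 0, 0, 1, 2; 0, 2, 0, 0, 0; 1, 0, 2, 1, 1; 0, 1, 0, 1, 0]

theorem MN4 : M4 * N4 = 1 := by decide +kernel
theorem MN5 : M5 * N5 = 1 := by decide +kernel
theorem MN1 : M1 * N1 = 1 := by decide +kernel

/-- the exponents `3 ^ k` modulo 11 -/
def e3 : Fin 5 → ℕ := ![1, 3, 9, 5, 4]

theorem M4_col : ∀ k : Fin 5, (fun i => M4 i k) = o4 k := by decide +kernel
theorem M5_col : ∀ k : Fin 5, (fun i => M5 i k) = o4 (e3 k) := by decide +kernel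
theorem M1_col : ∀ k : Fin 5, (fun i => M1 i k) = o1 k := by decide +kernel
theorem e3_le : ∀ k : Fin 5, e3 k ≤ 10 := by decide

theorem span4 {v : L3} (hv : v ∈ U4) : ∃ c : Fin 5 → ZMod 3, v = ∑ k : Fin 5, c k • ac (Ph Ax ^ (k : ℕ)) qI := by
  obtain ⟨w, rfl⟩ := hv
  refine ⟨N4 *ᵥ w, ?_⟩
  conv_lhs => rw [decomp MN4 w, i4_sum]
  exact Finset.sum_congr rfl fun k _ => by rw [i4_smul, M4_col, x_qI k (by omega)]

theorem span5 {v : L3} (hv : v ∈ U4) : ∃ c : Fin 5 → ZMod 3, v = ∑ k : Fin 5, c k • ac (Ph Ax ^ e3 k) qI := by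
  obtain ⟨w, rfl⟩ := hv
  refine ⟨N5 *ᵥ w, ?_⟩
  conv_lhs => rw [decomp MN5 w, i4_sum]
  exact Finset.sum_congr rfl fun k _ => by rw [i4_smul, M5_col, x_qI _ (e3_le k)]

theorem span1 {v : L3} (hv : v ∈ U1) : ∃ c : Fin 5 → ZMod 3, v = ∑ k : Fin 5, c k • ac (Ph Ax ^ (k : ℕ)) qII := by
  obtain ⟨w, rfl⟩ := hv
  refine ⟨N1 *ᵥ w, ?_⟩
  conv_lhs => rw [decomp MN1 w, i1_sum]
  exact Finset.sum_congr rfl fun k _ => by rw [i1_smul, M1_col, x_qII k (by omega)]

/-! ### relations of the special vectors -/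

theorem qI_ne : qI ≠ 0 := by
  intro h
  have h1 : i4 ![1, 0, 0, 0, 0] = i4 0 := by
    rw [← zero_smul (ZMod 3) (0 : Fin 5 → ZMod 3), i4_smul, zero_smul]; exact h
  have h2 := congrFun (i4_inj h1) 0
  exact one_ne_zero (α := ZMod 3) h2

theorem qII_ne : qII ≠ 0 := by
  intro h
  have h1 : i1 ![1, 0, 0, 0, 2] = i1 0 := by
    rw [← zero_smul (ZMod 3) (0 : Fin 5 → ZMod 3), i1_smul, zero_smul]; exact h
  have h2 := congrFun (i1_inj h1) 0
  exact one_ne_zero (α := ZMod 3) h2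

theorem y_qI : ac (Ph Ay) qI = qI := by
  rw [qI_eq]
  exact act4' (by rw [Ay_eq]; decide +kernel)

theorem t_qI : ac (Ph At) qI = qI := by
  rw [qI_eq]
  exact act4' (by rw [At_eq]; decide +kernel)

theorem tx_qI : ac (Ph At) (ac (Ph Ax) qI) = ac (Ph Ax) qI := by
  have h := x_qI 1 (by norm_num)
  rw [pow_one] at h
  rw [h]
  exact act4' (by rw [At_eq]; decide +kernel)

theorem y_qII : ac (Ph Ay) qII = qII := by
  rw [qII_eq]
  exact act1' (by rw [Ay_eq]; decide +kernel)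

theorem t_qII : ac (Ph At) qII = qII := by
  rw [qII_eq]
  exact act1' (by rw [At_eq]; decide +kernel)

theorem xi_qII : ac (Ph Ax)⁻¹ qII = i1 (o1 10) := by
  have h2 : Ph Ax ^ 11 = 1 := by rw [← map_pow, x_pow, map_one]
  have h3 : (Ph Ax)⁻¹ = Ph Ax ^ 10 := by
    rw [inv_eq_iff_mul_eq_one, ← pow_succ']
    exact h2
  rw [h3]
  exact x_qII 10 le_rfl

theorem tx_qII : ac (Ph At) (ac (Ph Ax)⁻¹ qII) = ac (Ph Ax)⁻¹ qII := by
  rw [xi_qII]
  exact act1' (by rw [At_eq]; decide +kernel)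

/-! ### the images of the special vectors -/

/-- **`PGL₂(11)`**: the outer element moves `q_I` into the fixed space of `A_II`. -/
theorem pgl_fix {h : E} (hx : h * Ph Ax * h⁻¹ = (Ph Ax)⁻¹) (hy : h * Ph Ay = Ph Ay * h) (ht : h * Ph At = Ph At * h) :
    ac (Ph Ay) (ac h qI) = ac h qI ∧ ac (Ph At) (ac h qI) = ac h qI ∧
      ac (Ph At) (ac (Ph Ax)⁻¹ (ac h qI)) = ac (Ph Ax)⁻¹ (ac h qI) := by
  have hx' : (Ph Ax)⁻¹ * h = h * Ph Ax := by rw [← hx]; group
  refine ⟨?_, ?_, ?_⟩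
  · rw [← ac_mul, ← hy, ac_mul, y_qI]
  · rw [← ac_mul, ← ht, ac_mul, t_qI]
  · rw [← ac_mul (Ph Ax)⁻¹, hx', ac_mul, ← ac_mul (Ph At), ← ht, ac_mul, tx_qI]

theorem m11_gen {f y t b : E} {q : L3} (hy5 : y ^ 5 = 1) (htt : t * t = 1) (hy : f * y * f⁻¹ = y ^ 2) (ht : f * f = t)
    (hb : f * b * f⁻¹ = y * b * t * y ^ 2) (hyq : ac y q = q) (htq : ac t q = q) (hbq : ac b q = q) :
    ac y (ac f q) = ac f q ∧ ac t (ac f q) = ac f q ∧ ac b (ac f q) = ac f q := by
  have hpow : ∀ n : ℕ, ac (y ^ n) q = q := by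
    intro n
    induction n with
    | zero => rw [pow_zero, ac_one]
    | succ n ih => rw [pow_succ, ac_mul, hyq, ih]
  have h3 : f * y = y ^ 2 * f := by rw [← hy]; group
  have h4 : ∀ n : ℕ, f * y ^ n = y ^ (2 * n) * f := by
    intro n
    induction n with
    | zero => simp
    | succ n ih => rw [pow_succ, ← mul_assoc, ih, mul_assoc, h3, ← mul_assoc, ← pow_add]; rfl
  have e1 : y * f = f * y ^ 3 := by
    rw [h4, show 2 * 3 = 5 + 1 from rfl, pow_succ, hy5, one_mul]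
  have e2 : t * f = f * t := by rw [← ht]; group
  have e3 : b * f = f * (y ^ 2 * b * y ^ 4 * t) := by
    have h1 : f * b = y * b * t * y ^ 2 * f := by rw [← hb]; group
    have h2 : f * (y ^ 2 * b * y ^ 4 * t) = y ^ 4 * (y * b * t * y ^ 2) * y ^ 8 * f * t := by
      calc f * (y ^ 2 * b * y ^ 4 * t) = (f * y ^ 2) * b * y ^ 4 * t := by group
        _ = y ^ 4 * (f * b) * y ^ 4 * t := by rw [h4]; group
        _ = y ^ 4 * (y * b * t * y ^ 2) * (f * y ^ 4) * t := by rw [h1]; group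
        _ = y ^ 4 * (y * b * t * y ^ 2) * y ^ 8 * f * t := by rw [h4]; group
    rw [h2]
    have h5 : y ^ 4 * (y * b * t * y ^ 2) * y ^ 8 = y ^ 5 * (b * t) * (y ^ 5 * y ^ 5) := by group
    rw [h5, hy5, one_mul, one_mul, mul_one, mul_assoc, mul_assoc, ← e2, ← mul_assoc t t f, htt, one_mul]
  refine ⟨?_, ?_, ?_⟩
  · rw [← ac_mul, e1, ac_mul, hpow]
  · rw [← ac_mul, e2, ac_mul, htq]
  · rw [← ac_mul, e3, ac_mul, ac_mul, ac_mul, ac_mul, htq, hpow, hbq, hpow]

theorem hy5 : Ph Ay ^ 5 = 1 := by rw [← map_pow, y_pow, map_one]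

theorem htt : Ph At * Ph At = 1 := by rw [← map_mul, t_sq, map_one]

/-- **`M₁₁`, case II** (`f` of type `Afb`, normalising `A_II`). -/
theorem m11_fixII {f : E} (hy : f * Ph Ay * f⁻¹ = Ph Ay ^ 2) (ht : f * f = Ph At)
    (hb : f * (Ph Ax * Ph At * (Ph Ax)⁻¹) * f⁻¹ = Ph Ay * (Ph Ax * Ph At * (Ph Ax)⁻¹) * Ph At * Ph Ay ^ 2) :
    ac (Ph Ay) (ac f qII) = ac f qII ∧ ac (Ph At) (ac f qII) = ac f qII ∧
      ac (Ph At) (ac (Ph Ax)⁻¹ (ac f qII)) = ac (Ph Ax)⁻¹ (ac f qII) := by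
  obtain ⟨h1, h2, h3⟩ := m11_gen hy5 htt hy ht hb y_qII t_qII (by rw [ac_mul, ac_mul, tx_qII, ac_ac_inv])
  refine ⟨h1, h2, ?_⟩
  rw [ac_mul, ac_mul] at h3
  have h4 := congrArg (ac (Ph Ax)⁻¹) h3
  rwa [ac_inv_ac] at h4

/-! ### stability -/

/-- **`PGL₂(11)`** -/
theorem pgl_stab {h : E} (hx : h * Ph Ax * h⁻¹ = (Ph Ax)⁻¹) (hh : h * h = 1) {c : ZMod 3} (hq : ac h qI = c • qII) :
    h ∈ stabW (U4 ⊔ U1) := by
  have hxk : ∀ k : ℕ, h * Ph Ax ^ k = ((Ph Ax)⁻¹) ^ k * h := by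
    intro k
    rw [← hx, conj_pow]; group
  have hxs : ∀ k : ℕ, (Ph Ax)⁻¹ ^ k = Ph (Ax⁻¹ ^ k) := fun k => by rw [map_pow, map_inv]
  have hc : c ≠ 0 := by
    rintro rfl
    rw [zero_smul] at hq
    have h1 := ac_inv_ac h qI
    rw [hq] at h1
    exact qI_ne (h1.symm.trans (Matrix.mulVec_zero _))
  have hq' : ac h qII = c⁻¹ • qI := by
    have h1 : ac h (ac h qI) = qI := by rw [← ac_mul, hh, ac_one]
    rw [hq, ac_smul] at h1
    rw [← h1, smul_smul, inv_mul_cancel₀ hc, one_smul]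
  intro v hv
  obtain ⟨a, ha, b, hb, rfl⟩ := Submodule.mem_sup.1 hv
  rw [ac_add]
  refine Submodule.add_mem _ ?_ ?_
  · obtain ⟨d, rfl⟩ := span4 ha
    rw [ac_sum]
    refine Submodule.sum_mem _ fun k _ => ?_
    rw [ac_smul, ← ac_mul, hxk, ac_mul, hq, ac_smul, hxs]
    exact Submodule.smul_mem _ _ (Submodule.smul_mem _ _ (le_sup_right (a := U4) (Ph_U1 _ ⟨_, rfl⟩)))
  · obtain ⟨d, rfl⟩ := span1 hb
    rw [ac_sum]
    refine Submodule.sum_mem _ fun k _ => ?_
    rw [ac_smul, ← ac_mul, hxk, ac_mul, hq', ac_smul, hxs]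
    exact Submodule.smul_mem _ _ (Submodule.smul_mem _ _ (le_sup_left (a := U4) (Ph_U4 _ ⟨_, rfl⟩)))

end Cfsg.Agent.H64.E83
end
end

-- part: H576/E8L/Fr_mg
section
prune_inst 0x3404542200000018000002001040a000000000488000000002000048844021010801b020110090a800502000000811000120420000000a000800000000000800000000000000000000000000000000000000000000000000000000010004000000000
set_option linter.all false
open scoped Cfsg.Agent.FastGrp

-- part: H576/E8L/Proj
section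
/-!
# S5925: the element `h = ph1 (Yd) ph2 (Yd)` is diagonal; averaging over `<h>` is the projection on `Supp` (helper576)
-/

set_option autoImplicit false
set_option linter.unusedSectionVars false
set_option linter.unusedVariables false
set_option linter.style.longLine false
set_option linter.unusedSimpArgs false

namespace Cfsg.Agent.H576.E8L

open Matrix Cfsg Cfsg.Lie Cfsg.Agent.ChevalleyStructure Cfsg.Agent.ChevalleyStructure.Elts
open Cfsg.Agent.ChevalleyStructure.HMatDiagAll (expo)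
open Cfsg.Agent.H992.E8X hiding e8T
open Cfsg.Agent.H238.E8
open Cfsg.Agent.H942.E8Tab Cfsg.Agent.H942.CB Cfsg.Agent.H129.TorusChar Cfsg.Agent.Nodes.RGDChev
open Cfsg.Agent.ChevalleyStructure.CoxeterGeomTypes Cfsg.Agent.KFacts.RgdChevCoord

/-- the exponent of `h` on the root vector `e_s` -/
def mx (s : ℕ) : ℤ :=
  expo chevE8 (rt1 1 2) s + 3 * expo chevE8 (rt1 2 3) s + 6 * expo chevE8 (rt1 3 4) s +
    (expo chevE8 (rt2 1 2) s + 3 * expo chevE8 (rt2 2 3) s + 6 * expo chevE8 (rt2 3 4) s)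

private noncomputable def _root_.Cfsg.Agent.LsF.f2acc96_0 : {f // @Cfsg.Agent.H238.E8.rt1 = f} := ⟨_, by first | (delta Cfsg.Agent.H238.E8.rt1; rewrite [Cfsg.Agent.LsF.vecCons_eq]; exact rfl) | exact rfl⟩
private noncomputable def _root_.Cfsg.Agent.LsF.f2acc96_1 : {f // @Cfsg.Agent.ChevFast.sg = f} := ⟨_, by first | (delta Cfsg.Agent.ChevFast.sg; rewrite [Cfsg.Agent.LsF.cond_eq]; exact rfl) | exact rfl⟩
private noncomputable def _root_.Cfsg.Agent.LsF.f2acc96_2 : {f // @Cfsg.Agent.ChevFast.dc = f} := ⟨_, by first | (delta Cfsg.Agent.ChevFast.dc; rewrite [Cfsg.Agent.LsF.f2acc96_1.2, Cfsg.Agent.LsF.cond_eq]; exact rfl) | exact rfl⟩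
private noncomputable def _root_.Cfsg.Agent.LsF.f2acc96_3 : {f // @Cfsg.Agent.ChevFast.ceT = f} := ⟨_, by first | (delta Cfsg.Agent.ChevFast.ceT; rewrite [Cfsg.Agent.LsF.f2acc96_2.2]; exact rfl) | exact rfl⟩
private noncomputable def _root_.Cfsg.Agent.LsF.f2acc96_4 : {f // @Cfsg.Agent.H238.E8.rt2 = f} := ⟨_, by first | (delta Cfsg.Agent.H238.E8.rt2; rewrite [Cfsg.Agent.LsF.vecCons_eq]; exact rfl) | exact rfl⟩
private noncomputable def _root_.Cfsg.Agent.LsF.f2acc96_5 : {f // @Cfsg.Agent.H576.E8L.w0 = f} := ⟨_, by first | (delta Cfsg.Agent.H576.E8L.w0; rewrite [Cfsg.Agent.LsF.vecCons_eq]; exact rfl) | exact rfl⟩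
private noncomputable def _root_.Cfsg.Agent.LsF.f2acc96_6 : {f // @Cfsg.Agent.H576.E8L.w1 = f} := ⟨_, by first | (delta Cfsg.Agent.H576.E8L.w1; rewrite [Cfsg.Agent.LsF.vecCons_eq]; exact rfl) | exact rfl⟩
theorem mx_supp : ∀ s : Fin 240, mx s.val % 5 = 0 ↔
    (∃ i j : Fin 5, i ≠ j ∧ s.val = w0 i j) ∨ (∃ i j : Fin 5, i ≠ j ∧ s.val = w1 i j) := by
  (delta Cfsg.Agent.ChevalleyStructure.HMatDiagAll.expo Cfsg.Agent.H576.E8L.mx; rewrite [Cfsg.Agent.ChevFast.E8.chainEntry, Cfsg.Agent.ChevFast.E8.neg]; (refine of_decide_eq_true ?_; (try (rewrite [Cfsg.Agent.LsF.f2acc96_0.2, Cfsg.Agent.LsF.f2acc96_3.2, Cfsg.Agent.LsF.f2acc96_4.2, Cfsg.Agent.LsF.f2acc96_5.2, Cfsg.Agent.LsF.f2acc96_6.2, Cfsg.Agent.LsF.iadd_pat, Cfsg.Agent.LsF.imul_pat, Cfsg.Agent.LsF.isub_pat, Cfsg.Agent.LsF.imod_pat, Cfsg.Agent.LsF.ineg_pat, Cfsg.Agent.LsF.icast_pat, Cfsg.Agent.LsF.instDecEq_eq, Cfsg.Agent.LsF.instIDecEq_eq, Cfsg.Agent.LsF.dAnd_eq, Cfsg.Agent.LsF.dOr_eq,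 Cfsg.Agent.LsF.dNot_eq, Cfsg.Agent.LsF.dFinEq_eq, Cfsg.Agent.LsF.dForallFin_eq, Cfsg.Agent.LsF.dExistsFin_eq, Cfsg.Agent.LsF.length_eq, Cfsg.Agent.LsF.ite_eq, Cfsg.Agent.LsF.decide_eq])); decide +kernel))

section
variable {K : Type} [Field K]

/-- the diagonal entries of `Yd` -/
def dw (w : Kˣ) : Fin 5 → Kˣ := ![1, w, w ^ 2, w ^ 3, w ^ 4]

theorem dw_prod {w : Kˣ} (h : w ^ 5 = 1) : ∏ i, dw w i = 1 := by
  rw [Fin.prod_univ_five]
  show 1 * w * w ^ 2 * w ^ 3 * w ^ 4 = 1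
  have : 1 * w * w ^ 2 * w ^ 3 * w ^ 4 = (w ^ 5) ^ 2 := by
    rw [one_mul, ← pow_succ', ← pow_add, ← pow_add, ← pow_mul]
  rw [this, h, one_pow]

/-- `Yd` -/
def Yd (w : Kˣ) (h : w ^ 5 = 1) : _root_.Matrix.SpecialLinearGroup (Fin 5) K := dg (dw w) (dw_prod h)

/-- `h = ph1 (Yd) ph2 (Yd)` -/
noncomputable def YY (w : Kˣ) (h : w ^ 5 = 1) : ↥(chevE8.group K) := ph1 K (Yd w h) * ph2 K (Yd w h)

theorem wv_dw (rt : Fin 5 → Fin 5 → ℕ) (w : Kˣ) (s : ℕ) : wv rt (dw w) s =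
    w ^ (expo chevE8 (rt 1 2) s + 3 * expo chevE8 (rt 2 3) s + 6 * expo chevE8 (rt 3 4) s) := by
  unfold wv
  have h0 : pp (dw w) 0 = 1 := rfl
  have h1 : pp (dw w) 1 = w := one_mul w
  have h2 : pp (dw w) 2 = w ^ (3 : ℤ) := by
    show 1 * w * w ^ 2 = w ^ (3 : ℤ)
    rw [one_mul, ← pow_succ']; norm_cast
  have h3 : pp (dw w) 3 = w ^ (6 : ℤ) := by
    show 1 * w * w ^ 2 * w ^ 3 = w ^ (6 : ℤ)
    rw [one_mul, ← pow_succ', ← pow_add]; norm_cast
  rw [h0, h1, h2, h3, _root_.one_zpow, one_mul, ← _root_.zpow_mul, ← _root_.zpow_mul, ← _root_.zpow_add,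
    ← _root_.zpow_add]

theorem YY_mat (w : Kˣ) (h : w ^ 5 = 1) :
    (((YY w h : ↥(chevE8.group K)) : GL chevE8.Idx K) : Matrix chevE8.Idx chevE8.Idx K) =
      Matrix.diagonal (Sum.elim (fun _ => (1 : K)) (fun s : Fin chevE8.nroots => ((w ^ mx s.val : Kˣ) : K))) := by
  have a1 := ph1_dg (dw w) (dw_prod h)
  have a2 := ph2_dg (dw w) (dw_prod h)
  have hY : YY w h ∈ TT chevE8 K := mul_mem a1.1 a2.1
  rw [TT_diag' e8T hY]
  congr 2
  funext s
  have e : cX e8T (YY w h) (_root_.Cfsg.Agent.Nodes.RGDChev.vec chevE8 8 s.val) = _ := cX_mul e8T a1.1 a2.1 (_root_.Cfsg.Agent.Nodes.RGDChev.vec chevE8 8 s.val)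
  refine e.trans ?_
  have b1 : cX e8T (ph1 K (dg (dw w) (dw_prod h))) (_root_.Cfsg.Agent.Nodes.RGDChev.vec chevE8 8 s.val) = _ := a1.2 s
  have b2 : cX e8T (ph2 K (dg (dw w) (dw_prod h))) (_root_.Cfsg.Agent.Nodes.RGDChev.vec chevE8 8 s.val) = _ := a2.2 s
  rw [b1, b2, wv_dw, wv_dw, ← Units.val_mul, ← _root_.zpow_add]
  rfl

theorem wz {w : Kˣ} (h : w ^ 5 = 1) (m : ℤ) : w ^ m = w ^ (m % 5) := by
  conv_lhs => rw [← Int.emod_add_mul_ediv m 5]
  rw [_root_.zpow_add, _root_.zpow_mul]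
  have : w ^ (5 : ℤ) = 1 := by exact_mod_cast h
  rw [this, _root_.one_zpow, mul_one]

/-- the entry of the diagonal -/
def yv (w : Kˣ) : chevE8.Idx → K :=
  Sum.elim (fun _ => (1 : K)) (fun s : Fin chevE8.nroots => ((w ^ mx s.val : Kˣ) : K))

theorem yv_pow5 {w : Kˣ} (h : w ^ 5 = 1) (a : chevE8.Idx) : yv w a ^ 5 = 1 := by
  rcases a with i | s
  · exact one_pow 5
  · show ((w ^ mx s.val : Kˣ) : K) ^ 5 = 1
    rw [← Units.val_pow_eq_pow_val]
    have : (w ^ mx s.val) ^ 5 = 1 := by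
      have e : (w ^ mx s.val) ^ 5 = (w ^ mx s.val) ^ (5 : ℤ) := by norm_cast
      rw [e, ← _root_.zpow_mul, mul_comm, _root_.zpow_mul]
      have : w ^ (5 : ℤ) = 1 := by exact_mod_cast h
      rw [this, _root_.one_zpow]
    rw [this, Units.val_one]

/-- the support -/
def InS : chevE8.Idx → Prop :=
  Sum.elim (fun _ => True) (fun s => (∃ i j : Fin 5, i ≠ j ∧ s.val = w0 i j) ∨ (∃ i j : Fin 5, i ≠ j ∧ s.val = w1 i j))

theorem yv_eq_one {w : Kˣ} (h : w ^ 5 = 1) (a : chevE8.Idx) (ha : InS a) : yv w a = 1 := by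
  rcases a with i | s
  · rfl
  · show ((w ^ mx s.val : Kˣ) : K) = 1
    rw [wz h, (mx_supp s).2 ha, zpow_zero, Units.val_one]

theorem yv_ne_one {w : Kˣ} (h : w ^ 5 = 1) (h1 : w ≠ 1) (a : chevE8.Idx) (ha : ¬ InS a) : yv w a ≠ 1 := by
  rcases a with i | s
  · exact absurd trivial ha
  · intro e
    have e1 : w ^ mx s.val = 1 := Units.ext e
    apply ha
    show _ ∨ _
    refine (mx_supp s).1 ?_
    have h5 : orderOf w = 5 := by
      haveI : Fact (Nat.Prime 5) := ⟨by norm_num⟩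
      exact orderOf_eq_prime h h1
    have := orderOf_dvd_iff_zpow_eq_one.2 e1
    rw [h5] at this
    exact Int.emod_eq_zero_of_dvd this

theorem supp_iff {v : chevE8.Idx → K} : Supp v ↔ ∀ a, ¬ InS a → v a = 0 := by
  constructor
  · intro h a ha
    rcases a with i | s
    · exact absurd trivial ha
    · refine h s (fun i j hij e => ha (Or.inl ⟨i, j, hij, e⟩)) (fun i j hij e => ha (Or.inr ⟨i, j, hij, e⟩))
  · intro h u h0 h1
    refine h _ ?_
    rintro (⟨i, j, hij, e⟩ | ⟨i, j, hij, e⟩)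
    · exact h0 i j hij e
    · exact h1 i j hij e

open scoped Classical in
/-- the projection on the support -/
noncomputable def prj (v : chevE8.Idx → K) : chevE8.Idx → K := fun a => if InS a then v a else 0

/-- the action of `h` on `L` -/
noncomputable def Ym (w : Kˣ) (h : w ^ 5 = 1) : Module.End K (chevE8.Idx → K) :=
  Matrix.mulVecLin (((YY w h : ↥(chevE8.group K)) : GL chevE8.Idx K) : Matrix chevE8.Idx chevE8.Idx K)

theorem Ym_apply (w : Kˣ) (h : w ^ 5 = 1) (v : chevE8.Idx → K) (a : chevE8.Idx) : Ym w h v a = yv w a * v a := by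
  unfold Ym
  rw [Matrix.mulVecLin_apply, YY_mat, Matrix.mulVec_diagonal]
  rfl

theorem Ym_pow (w : Kˣ) (h : w ^ 5 = 1) (n : ℕ) (v : chevE8.Idx → K) (a : chevE8.Idx) :
    (Ym w h ^ n) v a = yv w a ^ n * v a := by
  induction n generalizing v with
  | zero => simp
  | succ n ih => rw [pow_succ, Module.End.mul_apply, ih, Ym_apply, pow_succ, mul_assoc]

theorem Ym_fix (w : Kˣ) (h : w ^ 5 = 1) {v : chevE8.Idx → K} (hv : Supp v) : Ym w h v = v := by
  funext a
  rw [Ym_apply]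
  by_cases ha : InS a
  · rw [yv_eq_one h a ha, one_mul]
  · rw [supp_iff.1 hv a ha, mul_zero]

theorem supp_of_fix {w : Kˣ} (h : w ^ 5 = 1) (h1 : w ≠ 1) {v : chevE8.Idx → K} (hv : Ym w h v = v) : Supp v := by
  rw [supp_iff]
  intro a ha
  have e := congrFun hv a
  rw [Ym_apply] at e
  have e2 : (yv w a - 1) * v a = 0 := by rw [sub_mul, e, one_mul, sub_self]
  exact (mul_eq_zero.1 e2).resolve_left (sub_ne_zero.2 (yv_ne_one h h1 a ha))

open Cfsg.Agent.H879.E83 (ey sY)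

theorem ey_prj (h3 : (3 : K) = 0) {w : Kˣ} (h : w ^ 5 = 1) (h1 : w ≠ 1) (v : chevE8.Idx → K) :
    ey (Ym w h) v = prj v := by
  funext a
  have e : ey (Ym w h) v a = - ((1 + yv w a + yv w a ^ 2 + yv w a ^ 3 + yv w a ^ 4) * v a) := by
    unfold ey sY
    simp only [LinearMap.neg_apply, LinearMap.add_apply, Pi.neg_apply, Pi.add_apply, Ym_pow, Ym_apply,
      Module.End.one_apply]
    ring
  rw [e]
  unfold prj
  split_ifs with ha
  · rw [yv_eq_one h a ha]
    linear_combination (-2 * v a) * h3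
  · have n1 := yv_ne_one h h1 a ha
    have n5 := yv_pow5 h a
    have : 1 + yv w a + yv w a ^ 2 + yv w a ^ 3 + yv w a ^ 4 = 0 := by
      have e2 : (yv w a - 1) * (1 + yv w a + yv w a ^ 2 + yv w a ^ 3 + yv w a ^ 4) = 0 := by
        linear_combination n5
      exact (mul_eq_zero.1 e2).resolve_left (sub_ne_zero.2 n1)
    rw [this, zero_mul, neg_zero]

/-- `C_L(h)` is the image of `io` -/
theorem fix_iff [CharP K 3] {w : Kˣ} (h : w ^ 5 = 1) (h1 : w ≠ 1) (v : chevE8.Idx → K) :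
    Ym w h v = v ↔ ∃ A0 A1 : Matrix (Fin 5) (Fin 5) K, A0.trace = 0 ∧ A1.trace = 0 ∧ io K (A0, A1) = v := by
  constructor
  · intro hv
    exact io_surj (supp_of_fix h h1 hv)
  · rintro ⟨A0, A1, -, -, rfl⟩
    exact Ym_fix w h (supp_io _)

end

end Cfsg.Agent.H576.E8L
end

-- part: H576/E8L/Fr
section
/-!
# S5925, box G: the frame `GFrame` of helper879 in `E₈` (helper576)
-/

set_option autoImplicit false
set_option linter.unusedSectionVars false
set_option linter.unusedVariables false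
set_option linter.style.longLine false
set_option linter.unusedSimpArgs false

namespace Cfsg.Agent.H576.E8L

open Matrix Cfsg Cfsg.Lie Cfsg.Agent.ChevalleyStructure Cfsg.Agent.ChevalleyStructure.Elts
open Cfsg.Agent.H992.E8X Cfsg.Agent.H238.E8
open Cfsg.Agent.H879.E83

/-! ## induction on the 48 basis vectors -/

section ext
variable {K : Type*} [Field K]

end ext

/-! ## the scaled embedding -/

section iota
variable {K : Type*} [Field K]

/-- scales of `W0` -/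
def re0 : Fin 5 → ℕ := ![0, 15, 30, 40, 30]
/-- scales of `W1` -/
def re1 : Fin 5 → ℕ := ![0, 10, 10, 5, 0]

/-- conjugation by `diag (g ^ r)` -/
def cj (r : Fin 5 → ℕ) (g : K) : Mt K →ₗ[K] Mt K where
  toFun A := Matrix.of fun a b => g ^ r a * A a b * (g ^ r b)⁻¹
  map_add' A B := by
    ext a b
    simp only [Matrix.of_apply, Matrix.add_apply]; ring
  map_smul' c A := by
    ext a b
    simp only [Matrix.of_apply, Matrix.smul_apply, smul_eq_mul, RingHom.id_apply]; ring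

theorem cj_apply (r : Fin 5 → ℕ) (g : K) (A : Mt K) (a b : Fin 5) : cj r g A a b = g ^ r a * A a b * (g ^ r b)⁻¹ := rfl

theorem cj_trace (r : Fin 5 → ℕ) {g : K} (hg : g ≠ 0) (A : Mt K) : (cj r g A).trace = A.trace := by
  rw [Matrix.trace, Matrix.trace]
  refine Finset.sum_congr rfl fun a _ => ?_
  rw [Matrix.diag_apply, Matrix.diag_apply, cj_apply]
  have := pow_ne_zero (r a) hg
  field_simp

theorem cj_inj (r : Fin 5 → ℕ) {g : K} (hg : g ≠ 0) {A : Mt K} (h : cj r g A = 0) : A = 0 := by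
  ext a b
  have e := congrFun (congrFun h a) b
  rw [cj_apply, Matrix.zero_apply] at e
  have n1 := pow_ne_zero (r a) hg
  have n2 := inv_ne_zero (pow_ne_zero (r b) hg)
  rcases mul_eq_zero.1 e with h1 | h1
  · exact (mul_eq_zero.1 h1).resolve_left n1
  · exact absurd h1 n2

/-- `diag (g ^ r)` -/
def dd (r : Fin 5 → ℕ) (g : K) : Mt K := Matrix.diagonal fun a => g ^ r a
def ddi (r : Fin 5 → ℕ) (g : K) : Mt K := Matrix.diagonal fun a => (g ^ r a)⁻¹

theorem dd_ddi (r : Fin 5 → ℕ) {g : K} (hg : g ≠ 0) : dd r g * ddi r g = 1 := by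
  rw [dd, ddi, Matrix.diagonal_mul_diagonal, ← Matrix.diagonal_one]
  congr 1
  funext a
  exact mul_inv_cancel₀ (pow_ne_zero _ hg)

theorem cj_eq (r : Fin 5 → ℕ) (g : K) (A : Mt K) : cj r g A = dd r g * A * ddi r g := by
  ext a b
  rw [cj_apply, dd, ddi, Matrix.mul_diagonal, Matrix.diagonal_mul]

/-- the embedding in the scaled basis `E^t_ab = g ^ (r_a - r_b) s e_(w a b)` -/
def iota (g : K) : Mt K × Mt K →ₗ[K] (chevE8.Idx → K) :=
  (io K).comp (LinearMap.prodMap (cj re0 g) (cj re1 g))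

theorem iota_apply (g : K) (p : Mt K × Mt K) : iota g p = io K (cj re0 g p.1, cj re1 g p.2) := rfl

theorem supp_iota (g : K) (p : Mt K × Mt K) : Supp (iota g p) := supp_io _

theorem iota_inj [CharP K 3] {g : K} (hg : g ≠ 0) (p : Mt K × Mt K) (t0 : p.1.trace = 0) (t1 : p.2.trace = 0)
    (h : iota g p = 0) : p = 0 := by
  rw [iota_apply] at h
  obtain ⟨e0, e1⟩ := io_ker (by rw [cj_trace _ hg, t0]) (by rw [cj_trace _ hg, t1]) h
  exact Prod.ext (cj_inj _ hg e0) (cj_inj _ hg e1)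

end iota

/-! ## the frame -/

section frame
variable {K : Type} [Field K] [CharP K 3]

theorem three_zero : (3 : K) = 0 := by exact_mod_cast CharP.cast_eq_zero K 3

/-- the unit `w = g ^ 16` -/
def wU (g : K) (hg : g ^ 4 = 1 - g) : Kˣ := Units.mk0 (g ^ 16) (pow_ne_zero _ (g_ne hg))

theorem wU_pow {g : K} (hg : g ^ 4 = 1 - g) : wU g hg ^ 5 = 1 := by
  apply Units.ext
  rw [Units.val_pow_eq_pow_val, Units.val_one]
  show (g ^ 16) ^ 5 = 1
  rw [← pow_mul]
  exact g80 hg three_zero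

theorem wU_ne {g : K} (hg : g ^ 4 = 1 - g) : wU g hg ≠ 1 := by
  intro h
  have e : g ^ 16 = 1 := congrArg Units.val h
  have h3 : (3 : K) = 0 := three_zero
  have e1 : g ^ 4 = 1 - g := hg
  have e2 : g ^ 16 = (1 - g) ^ 4 := by
    rw [← e1, ← pow_mul]
  have e3 : (1 - g) ^ 4 = 1 - 4 * g + 6 * g ^ 2 - 4 * g ^ 3 + (1 - g) := by
    linear_combination e1
  -- `1 - 4 g + 6 g² - 4 g³ + 1 - g = 1`
  have e4 : 1 + g - g ^ 3 = 0 := by
    linear_combination e - e2 - e3 + (2 * g - 2 * g ^ 2 + g ^ 3) * h3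
  have e5 : g ^ 3 = 1 + g := by linear_combination -e4
  have e6 : g ^ 4 = g + g ^ 2 := by linear_combination g * e5
  have e7 : g ^ 2 = 1 - 2 * g := by linear_combination e1 - e6
  have e8 : g ^ 3 = g - 2 * g ^ 2 := by linear_combination g * e7
  have e9 : (1 : K) = 0 := by
    linear_combination -e7 - (g + 2) * (e8 - e5 - 2 * e7) + (g + 2) * (1 - g) * h3
  exact one_ne_zero e9

/-- the frame of helper879 -/
theorem gframe {g : K} (hg : g ^ 4 = 1 - g) (x xi : Matrix chevE8.Idx chevE8.Idx K) (t : Matrix chevE8.Idx chevE8.Idx K)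
    (q0 r0 q1 r1 : Mt K) (hxi : xi * x = 1)
    (hrel : _root_.Cfsg.Agent.H879.E83.Rel (Matrix.mulVecLin x) (Ym (wU g hg) (wU_pow hg)) (Matrix.mulVecLin t))
    (hsum : ∀ v : chevE8.Idx → K, Matrix.mulVecLin x v = v → Ym (wU g hg) (wU_pow hg) v = v →
      v + sX (Matrix.mulVecLin x) (Matrix.mulVecLin t v) = 0)
    (hxp : ∀ p : Mt K × Mt K, p.1.trace = 0 → p.2.trace = 0 → prj (x *ᵥ iota g p) = iota g (XP0 g p.1 p.2, XP1 g p.1 p.2))
    (hxm : ∀ p : Mt K × Mt K, p.1.trace = 0 → p.2.trace = 0 → prj (xi *ᵥ iota g p) = iota g (XM0 g p.1 p.2, XM1 g p.1 p.2))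
    (ht : ∀ A0 A1 : Mt K, A0.trace = 0 → A1.trace = 0 →
      t *ᵥ iota g (A0, A1) = iota g (-(r0 * A0ᵀ * q0), -(r1 * A1ᵀ * q1)))
    (h0 : r0 * q0 = 1) (h1 : r1 * q1 = 1) :
    GFrame g (Matrix.mulVecLin x) (Ym (wU g hg) (wU_pow hg)) (Matrix.mulVecLin t) (iota g) q0 r0 q1 r1 where
  hg := hg
  h3 := three_zero
  rel := hrel
  sum0 := hsum
  inj p t0 t1 h := iota_inj (g_ne hg) p t0 t1 h
  fixY p _ _ := Ym_fix _ _ (supp_iota g p)
  xp p t0 t1 := by
    show ey (Ym (wU g hg) (wU_pow hg)) (x *ᵥ iota g p) = _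
    rw [ey_prj three_zero (wU_pow hg) (wU_ne hg), hxp p t0 t1]
  xm p t0 t1 := by
    have e10 : (Matrix.mulVecLin x) ^ 10 = Matrix.mulVecLin xi := by
      have a1 := hrel.x11
      have a2 : Matrix.mulVecLin xi * Matrix.mulVecLin x = 1 := by
        rw [Module.End.mul_eq_comp, ← Matrix.mulVecLin_mul, hxi, Matrix.mulVecLin_one]; rfl
      calc (Matrix.mulVecLin x) ^ 10 = (Matrix.mulVecLin xi * Matrix.mulVecLin x) * (Matrix.mulVecLin x) ^ 10 := by
            rw [a2, one_mul]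
        _ = Matrix.mulVecLin xi * (Matrix.mulVecLin x) ^ 11 := by rw [mul_assoc, ← pow_succ']
        _ = _ := by rw [a1, mul_one]
    show ey (Ym (wU g hg) (wU_pow hg)) (((Matrix.mulVecLin x) ^ 10) (iota g p)) = _
    rw [e10, ey_prj three_zero (wU_pow hg) (wU_ne hg)]
    exact hxm p t0 t1
  tq p t0 t1 := ht p.1 p.2 t0 t1
  rq0 := h0
  rq1 := h1

end frame

end Cfsg.Agent.H576.E8L
end

-- part: H183/E8F/NAct
section
/-!
# S5925, box F2: the action of `N = φ₁(P) φ₂(P)` on `sl(W0) + sl(W1)` (helper183)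

`P = -(i ↦ 3i)` in `SL₅`.  `N` maps the root vector `E⁰_ij` to `±E¹_{πi,πj}` and `E¹_ij` to `∓E⁰_{ρj,ρi}`; the signs are
checked with the sparse engine.
-/

set_option autoImplicit false

namespace Cfsg.Agent.H183.E8F

open Matrix Cfsg Cfsg.Lie Cfsg.Agent.ChevalleyStructure Cfsg.Agent.ChevalleyStructure.Elts
open Cfsg.Agent.ChevalleyStructure.SparseEng
open Cfsg.Agent.H992.E8X Cfsg.Agent.H238.E8
open Cfsg.Agent.H138.E8L

/-- roots of `W0` (`t = 0`) and `W1` (`t = 1`) -/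
def wr : Fin 2 → Fin 5 → Fin 5 → ℕ :=
  ![![![0, 31, 6, 64, 24], ![208, 0, 60, 151, 108], ![233, 179, 0, 212, 172], ![175, 88, 27, 0, 81],
      ![215, 131, 67, 158, 0]],
    ![![0, 7, 20, 51, 55], ![232, 0, 168, 199, 203], ![219, 71, 0, 154, 159], ![188, 40, 85, 0, 127],
      ![184, 36, 80, 112, 0]]]

/-- signs of `W0` and `W1` -/
def ws : Fin 2 → Fin 5 → Fin 5 → ℤ :=
  ![![![1, 1, 1, -1, 1], ![1, 1, 1, -1, -1], ![1, 1, 1, 1, 1], ![-1, -1, 1, 1, 1], ![1, -1, 1, 1, 1]],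
    ![![1, 1, -1, -1, 1], ![1, 1, 1, -1, 1], ![-1, 1, 1, 1, -1], ![-1, -1, 1, 1, 1], ![1, 1, -1, 1, 1]]]

/-- code of `c E^t_ij` -/
def cE (t : Fin 2) (i j : Fin 5) (c : ℤ) : List Term := [⟨8 + wr t i j, c * ws t i j, 0, 0⟩]

/-- code of `c [E^t_{a,a+1}, E^t_{a+1,a}]` -/
def cH (t : Fin 2) (a : Fin 4) (c : ℤ) : List Term :=
  (List.range 8).map fun k => ⟨k, c * (chevE8.coroot.getD (wr t a.castSucc a.succ) #[]).getD k 0, 0, 0⟩

/-- the word of `n_ij = x_ij(1) x_ji(-1) x_ij(1)` in the frame `(r, s)` -/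
def nw (r : Fin 5 → Fin 5 → ℕ) (s : Fin 5 → Fin 5 → ℤ) (i j : Fin 5) : List (ℕ × Mon) :=
  [(r i j, ⟨s i j, 0, 0⟩), (r j i, ⟨-s j i, 0, 0⟩), (r i j, ⟨s i j, 0, 0⟩)]

/-- the word of `P` in the frame `(r, s)` -/
def pw (r : Fin 5 → Fin 5 → ℕ) (s : Fin 5 → Fin 5 → ℤ) : List (ℕ × Mon) :=
  nw r s 0 1 ++ (nw r s 0 1 ++ (nw r s 1 2 ++ (nw r s 1 3 ++ nw r s 3 4)))

/-- the word of `N` -/
def Nw : List (ℕ × Mon) := pw rt1 sg1 ++ pw rt2 sg2

/-- equality of `N` times the vector `v` and the vector `v'` -/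
def chk (v v' : List Term) : Bool :=
  (_root_.Cfsg.Agent.ChevalleyStructure.SparseEng.norm (actW chevE8 false Nw v ++ v'.map fun a => (⟨a.k, -a.c, a.i, a.j⟩ : Term))).isEmpty

/-- `π` -/
def pi0 : Fin 5 → Fin 5 := ![0, 3, 1, 4, 2]
/-- `eps` -/
def eps0 : Fin 5 → ℤ := ![1, 1, 1, 1, -1]
/-- `ρ` -/
def pi1 : Fin 5 → Fin 5 := ![2, 0, 3, 1, 4]
/-- `del` -/
def eps1 : Fin 5 → ℤ := ![1, 1, -1, -1, 1]

/-- code of `c (E^t_ii - E^t_jj)` -/
def cD (t : Fin 2) (i j : Fin 5) (c : ℤ) : List Term :=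
  (List.finRange 4).flatMap fun b =>
    cH t b (c * ((if i ≤ b.castSucc then 1 else 0) - (if j ≤ b.castSucc then 1 else 0)))

private noncomputable def _root_.Cfsg.Agent.LsF.f2acc96_7 : {f // @Cfsg.Agent.ChevalleyStructure.SparseEng.ins = f} := ⟨_, by first | (delta Cfsg.Agent.ChevalleyStructure.SparseEng.ins List.brecOn List.brecOn.go Cfsg.Agent.ChevalleyStructure.SparseEng.ins._f; rewrite [Cfsg.Agent.LsF.iadd_pat, Cfsg.Agent.LsF.instDecEq_eq, Cfsg.Agent.LsF.instIDecEq_eq, Cfsg.Agent.LsF.dAnd_eq, Cfsg.Agent.LsF.ite_eq]; (try delta Cfsg.Agent.ChevalleyStructure.SparseEng.ins.match_1); (try delta List.casesOn); first | dsimp -zeta only | exact rfl) | exact rfl⟩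
private noncomputable def _root_.Cfsg.Agent.LsF.f2acc96_8 : {f // @Cfsg.Agent.ChevalleyStructure.SparseEng.norm = f} := ⟨_, by first | (delta Cfsg.Agent.ChevalleyStructure.SparseEng.norm; rewrite [Cfsg.Agent.LsF.f2acc96_7.2, Cfsg.Agent.LsF.foldr_eq]; exact rfl) | exact rfl⟩
private noncomputable def _root_.Cfsg.Agent.LsF.f2acc96_9 : {f // @Cfsg.Agent.ChevalleyStructure.SparseEng.red = f} := ⟨_, by first | (delta Cfsg.Agent.ChevalleyStructure.SparseEng.red; rewrite [Cfsg.Agent.LsF.nsub_pat, Cfsg.Agent.LsF.dBoolEq_eq, Cfsg.Agent.LsF.ite_eq]; exact rfl) | exact rfl⟩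
private noncomputable def _root_.Cfsg.Agent.LsF.f2acc96_10 : {f // @Cfsg.Agent.ChevFast.actT = f} := ⟨_, by first | (delta Cfsg.Agent.ChevFast.actT; rewrite [Cfsg.Agent.LsF.f2acc96_1.2, Cfsg.Agent.LsF.cond_eq, Cfsg.Agent.LsF.ineg_eq]; exact rfl) | exact rfl⟩
private noncomputable def _root_.Cfsg.Agent.LsF.f2acc96_11 : {f // @Cfsg.Agent.ChevFast.dz = f} := ⟨_, by first | (delta Cfsg.Agent.ChevFast.dz; rewrite [Cfsg.Agent.LsF.cond_eq]; exact rfl) | exact rfl⟩
private noncomputable def _root_.Cfsg.Agent.LsF.f2acc96_12 : {f // @Cfsg.Agent.ChevFast.gz = f} := ⟨_, by first | (delta Cfsg.Agent.ChevFast.gz; rewrite [Cfsg.Agent.LsF.f2acc96_11.2]; exact rfl) | exact rfl⟩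
private noncomputable def _root_.Cfsg.Agent.LsF.f2acc96_13 : {f // @Cfsg.Agent.ChevFast.E8.coV = f} := ⟨_, by first | (delta Cfsg.Agent.ChevFast.E8.coV; rewrite [Cfsg.Agent.LsF.f2acc96_12.2]; exact rfl) | exact rfl⟩
private noncomputable def _root_.Cfsg.Agent.LsF.f2acc96_14 : {f // @Cfsg.Agent.H183.E8F.wr = f} := ⟨_, by first | (delta Cfsg.Agent.H183.E8F.wr; rewrite [Cfsg.Agent.LsF.vecCons_eq]; exact rfl) | exact rfl⟩
private noncomputable def _root_.Cfsg.Agent.LsF.f2acc96_15 : {f // @Cfsg.Agent.H183.E8F.ws = f} := ⟨_, by first | (delta Cfsg.Agent.H183.E8F.ws; rewrite [Cfsg.Agent.LsF.ineg_pat, Cfsg.Agent.LsF.vecCons_eq]; exact rfl) | exact rfl⟩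
private noncomputable def _root_.Cfsg.Agent.LsF.f2acc96_16 : {f // @Cfsg.Agent.H183.E8F.cE = f} := ⟨_, by first | (delta Cfsg.Agent.H183.E8F.cE; rewrite [Cfsg.Agent.LsF.f2acc96_14.2, Cfsg.Agent.LsF.f2acc96_15.2, Cfsg.Agent.LsF.nadd_pat, Cfsg.Agent.LsF.imul_pat]; exact rfl) | exact rfl⟩
private noncomputable def _root_.Cfsg.Agent.LsF.f2acc96_17 : {f // @Cfsg.Agent.H183.E8F.nw = f} := ⟨_, by first | (delta Cfsg.Agent.H183.E8F.nw; rewrite [Cfsg.Agent.LsF.ineg_pat]; exact rfl) | exact rfl⟩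
private noncomputable def _root_.Cfsg.Agent.LsF.f2acc96_18 : {f // @Cfsg.Agent.H183.E8F.pw = f} := ⟨_, by first | (delta Cfsg.Agent.H183.E8F.pw; rewrite [Cfsg.Agent.LsF.f2acc96_17.2, Cfsg.Agent.LsF.lappend_pat]; exact rfl) | exact rfl⟩
private noncomputable def _root_.Cfsg.Agent.LsF.f2acc96_19 : {f // @Cfsg.Agent.H238.E8.sg1 = f} := ⟨_, by first | (delta Cfsg.Agent.H238.E8.sg1; rewrite [Cfsg.Agent.LsF.ineg_pat, Cfsg.Agent.LsF.vecCons_eq]; exact rfl) | exact rfl⟩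
private noncomputable def _root_.Cfsg.Agent.LsF.f2acc96_20 : {f // @Cfsg.Agent.H238.E8.sg2 = f} := ⟨_, by first | (delta Cfsg.Agent.H238.E8.sg2; rewrite [Cfsg.Agent.LsF.vecCons_eq]; exact rfl) | exact rfl⟩
private noncomputable def _root_.Cfsg.Agent.LsF.f2acc96_21 : {f // @Cfsg.Agent.H183.E8F.Nw = f} := ⟨_, by first | (delta Cfsg.Agent.H183.E8F.Nw; rewrite [Cfsg.Agent.LsF.f2acc96_18.2, Cfsg.Agent.LsF.f2acc96_0.2, Cfsg.Agent.LsF.f2acc96_19.2, Cfsg.Agent.LsF.f2acc96_4.2, Cfsg.Agent.LsF.f2acc96_20.2, Cfsg.Agent.LsF.lappend_pat]; exact rfl) | exact rfl⟩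
private noncomputable def _root_.Cfsg.Agent.LsF.f2acc96_22 : {f // @Cfsg.Agent.H183.E8F.pi0 = f} := ⟨_, by first | (delta Cfsg.Agent.H183.E8F.pi0; rewrite [Cfsg.Agent.LsF.vecCons_eq]; exact rfl) | exact rfl⟩
private noncomputable def _root_.Cfsg.Agent.LsF.f2acc96_23 : {f // @Cfsg.Agent.H183.E8F.eps0 = f} := ⟨_, by first | (delta Cfsg.Agent.H183.E8F.eps0; rewrite [Cfsg.Agent.LsF.ineg_pat, Cfsg.Agent.LsF.vecCons_eq]; exact rfl) | exact rfl⟩
theorem chk_off0 : ∀ i j, i ≠ j → chk (cE 0 i j 1) (cE 1 (pi0 i) (pi0 j) (eps0 i * eps0 j)) = true := by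
  (delta Cfsg.Agent.ChevalleyStructure.SparseEng.actTerm Cfsg.Agent.ChevalleyStructure.SparseEng.actW Cfsg.Agent.ChevalleyStructure.SparseEng.actX Cfsg.Agent.H183.E8F.chk; rewrite [Cfsg.Agent.ChevFast.E8.act]; (refine of_decide_eq_true ?_; (try (rewrite [Cfsg.Agent.LsF.f2acc96_8.2, Cfsg.Agent.LsF.f2acc96_9.2, Cfsg.Agent.LsF.f2acc96_10.2, Cfsg.Agent.LsF.f2acc96_12.2, Cfsg.Agent.LsF.f2acc96_13.2, Cfsg.Agent.LsF.f2acc96_16.2, Cfsg.Agent.LsF.f2acc96_21.2, Cfsg.Agent.LsF.f2acc96_22.2, Cfsg.Agent.LsF.f2acc96_23.2, Cfsg.Agent.LsF.nadd_pat, Cfsg.Agent.LsF.nmul_pat, Cfsg.Agent.LsF.imul_pat, Cfsg.Agent.LsF.ineg_pat, Cfsg.Agent.LsF.lappend_pat, Cfsg.Agent.LsF.map_eq, Cfsg.Agent.LsF.foldr_eq, Cfsg.Agent.LsF.flatMap_eq, Cfsg.Agent.LsF.isEmpty_eq, Cfsg.Agent.LsF.dNot_eq, Cfsg.Agent.LsF.dFinEq_eq, Cfsg.Agent.LsF.dBoolEq_eq, Cfsg.Agent.LsF.dForallFin_eq, Cfsg.Agent.LsF.decide_eq])); decide +kernel))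

private noncomputable def _root_.Cfsg.Agent.LsF.f2acc96_24 : {f // @Cfsg.Agent.H183.E8F.pi1 = f} := ⟨_, by first | (delta Cfsg.Agent.H183.E8F.pi1; rewrite [Cfsg.Agent.LsF.vecCons_eq]; exact rfl) | exact rfl⟩
private noncomputable def _root_.Cfsg.Agent.LsF.f2acc96_25 : {f // @Cfsg.Agent.H183.E8F.eps1 = f} := ⟨_, by first | (delta Cfsg.Agent.H183.E8F.eps1; rewrite [Cfsg.Agent.LsF.ineg_pat, Cfsg.Agent.LsF.vecCons_eq]; exact rfl) | exact rfl⟩
theorem chk_off1 : ∀ i j, i ≠ j → chk (cE 1 i j 1) (cE 0 (pi1 j) (pi1 i) (-(eps1 i * eps1 j))) = true := by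
  (delta Cfsg.Agent.ChevalleyStructure.SparseEng.actTerm Cfsg.Agent.ChevalleyStructure.SparseEng.actW Cfsg.Agent.ChevalleyStructure.SparseEng.actX Cfsg.Agent.H183.E8F.chk; rewrite [Cfsg.Agent.ChevFast.E8.act]; (refine of_decide_eq_true ?_; (try (rewrite [Cfsg.Agent.LsF.f2acc96_8.2, Cfsg.Agent.LsF.f2acc96_9.2, Cfsg.Agent.LsF.f2acc96_10.2, Cfsg.Agent.LsF.f2acc96_12.2, Cfsg.Agent.LsF.f2acc96_13.2, Cfsg.Agent.LsF.f2acc96_16.2, Cfsg.Agent.LsF.f2acc96_21.2, Cfsg.Agent.LsF.f2acc96_24.2, Cfsg.Agent.LsF.f2acc96_25.2, Cfsg.Agent.LsF.nadd_pat, Cfsg.Agent.LsF.nmul_pat, Cfsg.Agent.LsF.imul_pat, Cfsg.Agent.LsF.ineg_pat, Cfsg.Agent.LsF.lappend_pat, Cfsg.Agent.LsF.map_eq, Cfsg.Agent.LsF.foldr_eq, Cfsg.Agent.LsF.flatMap_eq, Cfsg.Agent.LsF.isEmpty_eq, Cfsg.Agent.LsF.dNot_eq, Cfsg.Agent.LsF.dFinEq_eq, Cfsg.Agent.LsF.dBoolEq_eq, Cfsg.Agent.LsF.dForallFin_eq, Cfsg.Agent.LsF.decide_eq])); decide +kernel))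

theorem chk_car0 : ∀ a : Fin 4, chk (cH 0 a 1) (cD 1 (pi0 a.castSucc) (pi0 a.succ) 1) = true := by
  (delta Cfsg.Agent.ChevalleyStructure.SparseEng.actTerm Cfsg.Agent.ChevalleyStructure.SparseEng.actW Cfsg.Agent.ChevalleyStructure.SparseEng.actX Cfsg.Agent.H183.E8F.cD Cfsg.Agent.H183.E8F.cH Cfsg.Agent.H183.E8F.chk; rewrite [Cfsg.Agent.ChevFast.E8.coroot, Cfsg.Agent.ChevFast.E8.act]; (refine of_decide_eq_true ?_; (try (rewrite [Cfsg.Agent.LsF.f2acc96_8.2, Cfsg.Agent.LsF.f2acc96_9.2, Cfsg.Agent.LsF.f2acc96_10.2, Cfsg.Agent.LsF.f2acc96_12.2, Cfsg.Agent.LsF.f2acc96_13.2, Cfsg.Agent.LsF.f2acc96_14.2, Cfsg.Agent.LsF.f2acc96_21.2, Cfsg.Agent.LsF.f2acc96_22.2, Cfsg.Agent.LsF.nadd_pat, Cfsg.Agent.LsF.nmul_pat, Cfsg.Agent.LsF.imul_pat, Cfsg.Agent.LsF.isub_pat, Cfsg.Agent.LsF.ineg_pat, Cfsg.Agent.LsF.lappend_pat, Cfsg.Agent.LsF.cond_eq, Cfsg.Agent.LsF.map_eq, Cfsg.Agent.LsF.foldr_eq, Cfsg.Agent.LsF.flatMap_eq, Cfsg.Agent.LsF.range_eq,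 Cfsg.Agent.LsF.agetD_eq, Cfsg.Agent.LsF.isEmpty_eq, Cfsg.Agent.LsF.dFinLe_eq, Cfsg.Agent.LsF.dBoolEq_eq, Cfsg.Agent.LsF.dForallFin_eq, Cfsg.Agent.LsF.finRange_eq, Cfsg.Agent.LsF.ite_eq, Cfsg.Agent.LsF.decide_eq])); decide +kernel))

theorem chk_car1 : ∀ a : Fin 4, chk (cH 1 a 1) (cD 0 (pi1 a.castSucc) (pi1 a.succ) (-1)) = true := by
  (delta Cfsg.Agent.ChevalleyStructure.SparseEng.actTerm Cfsg.Agent.ChevalleyStructure.SparseEng.actW Cfsg.Agent.ChevalleyStructure.SparseEng.actX Cfsg.Agent.H183.E8F.cD Cfsg.Agent.H183.E8F.cH Cfsg.Agent.H183.E8F.chk; rewrite [Cfsg.Agent.ChevFast.E8.coroot, Cfsg.Agent.ChevFast.E8.act]; (refine of_decide_eq_true ?_; (try (rewrite [Cfsg.Agent.LsF.f2acc96_8.2, Cfsg.Agent.LsF.f2acc96_9.2, Cfsg.Agent.LsF.f2acc96_10.2, Cfsg.Agent.LsF.f2acc96_12.2, Cfsg.Agent.LsF.f2acc96_13.2, Cfsg.Agent.LsF.f2acc96_14.2, Cfsg.Agent.LsF.f2acc96_21.2, Cfsg.Agent.LsF.f2acc96_24.2, Cfsg.Agent.LsF.nadd_pat, Cfsg.Agent.LsF.nmul_pat,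 Cfsg.Agent.LsF.imul_pat, Cfsg.Agent.LsF.isub_pat, Cfsg.Agent.LsF.ineg_pat, Cfsg.Agent.LsF.lappend_pat, Cfsg.Agent.LsF.cond_eq, Cfsg.Agent.LsF.map_eq, Cfsg.Agent.LsF.foldr_eq, Cfsg.Agent.LsF.flatMap_eq, Cfsg.Agent.LsF.range_eq, Cfsg.Agent.LsF.agetD_eq, Cfsg.Agent.LsF.isEmpty_eq, Cfsg.Agent.LsF.dFinLe_eq, Cfsg.Agent.LsF.dBoolEq_eq, Cfsg.Agent.LsF.dForallFin_eq, Cfsg.Agent.LsF.finRange_eq, Cfsg.Agent.LsF.ite_eq, Cfsg.Agent.LsF.decide_eq])); decide +kernel))

section Word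

variable {K : Type*} [Field K]

theorem wordMat_append (l₁ l₂ : List (ℕ × Mon)) :
    chevE8.wordMat K (evW K (l₁ ++ l₂) 1 1) = chevE8.wordMat K (evW K l₁ 1 1) * chevE8.wordMat K (evW K l₂ 1 1) := by
  simp [evW, ChevalleyDatum.wordMat, List.map_append, List.prod_append]

/-- `n_ij` in `SL₅(K)` -/
noncomputable def nT {i j : Fin 5} (h : i ≠ j) : _root_.Matrix.SpecialLinearGroup (Fin 5) K :=
  SpecialLinearGroup.transvection h 1 * SpecialLinearGroup.transvection h.symm (-1) *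
    SpecialLinearGroup.transvection h 1

theorem ph_nT (φ : _root_.Matrix.SpecialLinearGroup (Fin 5) K →* ↥(chevE8.group K)) (r : Fin 5 → Fin 5 → ℕ)
    (s : Fin 5 → Fin 5 → ℤ)
    (hφ : ∀ {i j : Fin 5} (hij : i ≠ j) (c : K), φ (SpecialLinearGroup.transvection hij c) = X (r i j) ((s i j : K) * c))
    {i j : Fin 5} (h : i ≠ j) :
    (((φ (nT h) : ↥(chevE8.group K)) : GL chevE8.Idx K) : Matrix chevE8.Idx chevE8.Idx K) =
      chevE8.wordMat K (evW K (nw r s i j) 1 1) := by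
  rw [nT, map_mul, map_mul, hφ, hφ]
  simp only [nw, evW, ChevalleyDatum.wordMat, List.map_cons, List.map_nil, List.prod_cons, List.prod_nil, Mon.ev,
    pow_zero, mul_one, Int.cast_neg, mul_neg]
  rw [← Matrix.mul_assoc]
  rfl

/-- the matrix `P` over `ℤ` -/
def Pz : Matrix (Fin 5) (Fin 5) ℤ :=
  !![-1, 0, 0, 0, 0; 0, 0, -1, 0, 0; 0, 0, 0, 0, -1; 0, -1, 0, 0, 0; 0, 0, 0, -1, 0]

variable (K) in
/-- the element `P = -(i ↦ 3i)` of `SL₅(K)` -/
def PP : _root_.Matrix.SpecialLinearGroup (Fin 5) K :=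
  ⟨Pz.map (Int.castRingHom K), by
    have h : Pz.det = 1 := by decide +kernel
    have := (RingHom.map_det (Int.castRingHom K) Pz)
    rw [h, map_one] at this
    exact this.symm⟩

theorem coe_PP : ((PP K : _root_.Matrix.SpecialLinearGroup (Fin 5) K) : Matrix (Fin 5) (Fin 5) K) =
    !![-1, 0, 0, 0, 0; 0, 0, -1, 0, 0; 0, 0, 0, 0, -1; 0, -1, 0, 0, 0; 0, 0, 0, -1, 0] := by
  ext i j
  (revert i j; simp only [PP, Pz, _root_.Fin.forall_fin_succ, Int.reduceNeg, _root_.Int.coe_castRingHom, _root_.Matrix.map_apply, _root_.Matrix.of_apply, _root_.Matrix.cons_val', _root_.Matrix.cons_val_fin_one, Fin.isValue, _root_.Matrix.cons_val_zero, _root_.Matrix.cons_val_succ, _root_.forall_const, _root_.Int.cast_neg, _root_.Int.cast_one, _root_.Int.cast_zero, _root_.and_self, _root_.implies_true])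

theorem coe_tv {i j : Fin 5} (h : i ≠ j) (c : ℤ) :
    ((SpecialLinearGroup.transvection h (c : K) : _root_.Matrix.SpecialLinearGroup (Fin 5) K) : Matrix (Fin 5) (Fin 5) K) =
      (Matrix.transvection i j c).map (Int.castRingHom K) := by
  show Matrix.transvection i j (c : K) = _
  ext a b
  simp only [Matrix.transvection, Matrix.map_apply, Matrix.add_apply, map_add, Matrix.one_apply, Matrix.single_apply]
  split_ifs <;> simp only [_root_.eq_intCast, _root_.Int.cast_one, _root_.add_zero, _root_.Int.cast_zero, _root_.zero_add]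

theorem coe_mul' (A B : _root_.Matrix.SpecialLinearGroup (Fin 5) K) :
    ((A * B : _root_.Matrix.SpecialLinearGroup (Fin 5) K) : Matrix (Fin 5) (Fin 5) K) =
      (A : Matrix (Fin 5) (Fin 5) K) * (B : Matrix (Fin 5) (Fin 5) K) := rfl

theorem coe_nT {i j : Fin 5} (h : i ≠ j) :
    ((nT h : _root_.Matrix.SpecialLinearGroup (Fin 5) K) : Matrix (Fin 5) (Fin 5) K) =
      (Matrix.transvection i j (1 : ℤ) * Matrix.transvection j i (-1 : ℤ) * Matrix.transvection i j (1 : ℤ)).map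
        (Int.castRingHom K) := by
  have h1 := coe_tv (K := K) h 1
  have h2 := coe_tv (K := K) h.symm (-1)
  rw [Int.cast_one] at h1
  rw [Int.cast_neg, Int.cast_one] at h2
  rw [nT, coe_mul', coe_mul', h1, h2, Matrix.map_mul, Matrix.map_mul]

theorem PP_eq : PP K = nT (by decide : (0 : Fin 5) ≠ 1) * (nT (by decide : (0 : Fin 5) ≠ 1) *
    (nT (by decide : (1 : Fin 5) ≠ 2) * (nT (by decide : (1 : Fin 5) ≠ 3) * nT (by decide : (3 : Fin 5) ≠ 4)))) := by
  refine Subtype.ext ?_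
  change ((PP K : _root_.Matrix.SpecialLinearGroup (Fin 5) K) : Matrix (Fin 5) (Fin 5) K) =
    ((nT (by decide : (0 : Fin 5) ≠ 1) * (nT (by decide : (0 : Fin 5) ≠ 1) *
    (nT (by decide : (1 : Fin 5) ≠ 2) * (nT (by decide : (1 : Fin 5) ≠ 3) * nT (by decide : (3 : Fin 5) ≠ 4)))) :
      _root_.Matrix.SpecialLinearGroup (Fin 5) K) : Matrix (Fin 5) (Fin 5) K)
  rw [coe_mul', coe_mul', coe_mul', coe_mul', coe_nT, coe_nT, coe_nT, coe_nT, ← Matrix.map_mul,
    ← Matrix.map_mul, ← Matrix.map_mul, ← Matrix.map_mul]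
  have e : Pz = (Matrix.transvection 0 1 (1 : ℤ) * Matrix.transvection 1 0 (-1 : ℤ) * Matrix.transvection 0 1 (1 : ℤ)) *
      ((Matrix.transvection 0 1 (1 : ℤ) * Matrix.transvection 1 0 (-1 : ℤ) * Matrix.transvection 0 1 (1 : ℤ)) *
      ((Matrix.transvection 1 2 (1 : ℤ) * Matrix.transvection 2 1 (-1 : ℤ) * Matrix.transvection 1 2 (1 : ℤ)) *
      ((Matrix.transvection 1 3 (1 : ℤ) * Matrix.transvection 3 1 (-1 : ℤ) * Matrix.transvection 1 3 (1 : ℤ)) *
      (Matrix.transvection 3 4 (1 : ℤ) * Matrix.transvection 4 3 (-1 : ℤ) * Matrix.transvection 3 4 (1 : ℤ))))) := by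
    decide +kernel
  rw [← e]
  rfl

theorem ph_PP (φ : _root_.Matrix.SpecialLinearGroup (Fin 5) K →* ↥(chevE8.group K)) (r : Fin 5 → Fin 5 → ℕ)
    (s : Fin 5 → Fin 5 → ℤ)
    (hφ : ∀ {i j : Fin 5} (hij : i ≠ j) (c : K), φ (SpecialLinearGroup.transvection hij c) = X (r i j) ((s i j : K) * c)) :
    (((φ (PP K) : ↥(chevE8.group K)) : GL chevE8.Idx K) : Matrix chevE8.Idx chevE8.Idx K) =
      chevE8.wordMat K (evW K (pw r s) 1 1) := by
  have hh := fun {i j : Fin 5} (h : i ≠ j) => ph_nT φ r s hφ h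
  rw [PP_eq, map_mul, map_mul, map_mul, map_mul, pw, wordMat_append, wordMat_append, wordMat_append,
    wordMat_append, ← hh (by decide : (0 : Fin 5) ≠ 1), ← hh (by decide : (1 : Fin 5) ≠ 2),
    ← hh (by decide : (1 : Fin 5) ≠ 3), ← hh (by decide : (3 : Fin 5) ≠ 4)]
  rfl

variable (K) in
/-- `N = φ₁(P) φ₂(P)` -/
noncomputable def NN : ↥(chevE8.group K) := ph1 K (PP K) * ph2 K (PP K)

theorem coe_NN : (((NN K : ↥(chevE8.group K)) : GL chevE8.Idx K) : Matrix chevE8.Idx chevE8.Idx K) =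
    chevE8.wordMat K (evW K Nw 1 1) := by
  rw [Nw, wordMat_append, ← ph_PP (ph1 K) rt1 sg1 (fun hij c => ph1_tv K hij c),
    ← ph_PP (ph2 K) rt2 sg2 (fun hij c => ph2_tv K hij c)]
  rfl

theorem ev_neg' (D : ChevalleyDatum) (l : List Term) :
    ev D K (l.map fun a => (⟨a.k, -a.c, a.i, a.j⟩ : Term)) 1 1 = -ev D K l 1 1 := by
  induction l with
  | nil => simp [ev]
  | cons a l ih =>
    rw [List.map_cons, ev_cons, ev_cons, ih, neg_add]
    congr 1
    simp [Term.ev]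

theorem ev_of_norm (D : ChevalleyDatum) (w : List (ℕ × Mon)) (v v' : List Term)
    (h : (_root_.Cfsg.Agent.ChevalleyStructure.SparseEng.norm (actW D false w v ++ v'.map fun a => (⟨a.k, -a.c, a.i, a.j⟩ : Term))).isEmpty = true) :
    D.wordMat K (evW K w 1 1) *ᵥ ev D K v 1 1 = ev D K v' 1 1 := by
  rw [← ev_actW false w v 1 1 (by simp)]
  rw [List.isEmpty_iff] at h
  have h2 := ev_norm (D := D) (F := K)
    (actW D false w v ++ v'.map fun a => (⟨a.k, -a.c, a.i, a.j⟩ : Term)) 1 1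
  rw [h, ev_nil, ev_append, ev_neg', ← sub_eq_add_neg] at h2
  exact sub_eq_zero.1 h2.symm

theorem ev_of_chk {v v' : List Term} (h : chk v v' = true) :
    (((NN K : ↥(chevE8.group K)) : GL chevE8.Idx K) : Matrix chevE8.Idx chevE8.Idx K) *ᵥ ev chevE8 K v 1 1 =
      ev chevE8 K v' 1 1 := by
  rw [coe_NN]
  exact ev_of_norm chevE8 Nw v v' h

end Word

section Lin

variable {K : Type*} [Field K] {V : Type*} [AddCommGroup V] [Module K V]

theorem u_eq (u : Fin 5 → V) (h : Fin 4 → V) (hu : ∀ a : Fin 4, u a.castSucc - u a.succ = h a) (i : Fin 5) :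
    u i = u 4 + ∑ b : Fin 4, if i ≤ b.castSucc then h b else 0 := by
  have h0 : u 0 - u 1 = h 0 := hu 0
  have h1 : u 1 - u 2 = h 1 := hu 1
  have h2 : u 2 - u 3 = h 2 := hu 2
  have h3 : u 3 - u 4 = h 3 := hu 3
  have e0 : ∑ b : Fin 4, (if (0 : Fin 5) ≤ b.castSucc then h b else 0) = h 0 + h 1 + h 2 + h 3 := by
    rw [Fin.sum_univ_four]; rfl
  have e1 : ∑ b : Fin 4, (if (1 : Fin 5) ≤ b.castSucc then h b else 0) = 0 + h 1 + h 2 + h 3 := by
    rw [Fin.sum_univ_four]; rfl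
  have e2 : ∑ b : Fin 4, (if (2 : Fin 5) ≤ b.castSucc then h b else 0) = 0 + 0 + h 2 + h 3 := by
    rw [Fin.sum_univ_four]; rfl
  have e3 : ∑ b : Fin 4, (if (3 : Fin 5) ≤ b.castSucc then h b else 0) = 0 + 0 + 0 + h 3 := by
    rw [Fin.sum_univ_four]; rfl
  have e4 : ∑ b : Fin 4, (if (4 : Fin 5) ≤ b.castSucc then h b else 0) = 0 + 0 + 0 + 0 := by
    rw [Fin.sum_univ_four]; rfl
  match i with
  | 0 => rw [e0, ← h0, ← h1, ← h2, ← h3]; abel
  | 1 => rw [e1, ← h1, ← h2, ← h3]; abel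
  | 2 => rw [e2, ← h2, ← h3]; abel
  | 3 => rw [e3, ← h3]; abel
  | 4 => rw [e4]; abel

theorem lin_ext (L : Matrix (Fin 5) (Fin 5) K →ₗ[K] V) (h1 : ∀ i j, i ≠ j → L (Matrix.single i j 1) = 0)
    (h2 : ∀ a : Fin 4, L (Matrix.single a.castSucc a.castSucc 1 - Matrix.single a.succ a.succ 1) = 0)
    (A : Matrix (Fin 5) (Fin 5) K) (hA : A.trace = 0) : L A = 0 := by
  have h3 : ∀ i : Fin 5, L (Matrix.single i i 1) = L (Matrix.single 4 4 1) := by
    intro i
    have := u_eq (fun i => L (Matrix.single i i (1 : K))) (fun _ => 0) (by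
      intro a
      have := h2 a
      rwa [map_sub] at this) i
    simpa using this
  have h4 : L A = ∑ i : Fin 5, ∑ j : Fin 5, A i j • L (Matrix.single i j 1) := by
    conv_lhs => rw [Matrix.matrix_eq_sum_single A]
    rw [map_sum]
    refine Finset.sum_congr rfl fun i _ => ?_
    rw [map_sum]
    refine Finset.sum_congr rfl fun j _ => ?_
    rw [← map_smul, Matrix.smul_single, smul_eq_mul, mul_one]
  have h5 : ∀ i : Fin 5, ∑ j : Fin 5, A i j • L (Matrix.single i j 1) = A i i • L (Matrix.single 4 4 1) := by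
    intro i
    rw [Finset.sum_eq_single i, h3]
    · intro j _ hj
      rw [h1 i j (Ne.symm hj), smul_zero]
    · intro hi
      exact absurd (Finset.mem_univ i) hi
  rw [h4, Finset.sum_congr rfl fun i _ => h5 i, ← Finset.sum_smul]
  have : ∑ i : Fin 5, A i i = A.trace := rfl
  rw [this, hA, zero_smul]

end Lin

section Perm

variable {K : Type*} [Field K]

/-- `M0` over `ℤ` -/
def M0z : Matrix (Fin 5) (Fin 5) ℤ :=
  !![1, 0, 0, 0, 0; 0, 0, 1, 0, 0; 0, 0, 0, 0, -1; 0, 1, 0, 0, 0; 0, 0, 0, 1, 0]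
/-- `M1` over `ℤ` -/
def M1z : Matrix (Fin 5) (Fin 5) ℤ :=
  !![0, 1, 0, 0, 0; 0, 0, 0, -1, 0; 1, 0, 0, 0, 0; 0, 0, -1, 0, 0; 0, 0, 0, 0, 1]

theorem M0_eq : (M0 : Matrix (Fin 5) (Fin 5) K) = M0z.map (Int.castRingHom K) := by
  ext i j
  (revert i j; simp only [M0, M0z, _root_.Fin.forall_fin_succ, _root_.Matrix.of_apply, _root_.Matrix.cons_val', _root_.Matrix.cons_val_fin_one, Int.reduceNeg, _root_.Int.coe_castRingHom, _root_.Matrix.map_apply, Fin.isValue, _root_.Matrix.cons_val_zero, _root_.Matrix.cons_val_succ, _root_.forall_const, _root_.Int.cast_one, _root_.Int.cast_zero, _root_.and_self, _root_.Int.cast_neg, _root_.implies_true])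

theorem M1_eq : (M1 : Matrix (Fin 5) (Fin 5) K) = M1z.map (Int.castRingHom K) := by
  ext i j
  (revert i j; simp only [M1, M1z, _root_.Fin.forall_fin_succ, _root_.Matrix.of_apply, _root_.Matrix.cons_val', _root_.Matrix.cons_val_fin_one, Int.reduceNeg, _root_.Int.coe_castRingHom, _root_.Matrix.map_apply, Fin.isValue, _root_.Matrix.cons_val_zero, _root_.Matrix.cons_val_succ, _root_.forall_const, _root_.Int.cast_zero, _root_.Int.cast_one, _root_.and_self, _root_.Int.cast_neg, _root_.and_self_left, _root_.implies_true])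

theorem single_map (i j : Fin 5) (c : ℤ) :
    (Matrix.single i j c : Matrix (Fin 5) (Fin 5) ℤ).map (Int.castRingHom K) = Matrix.single i j (c : K) := by
  ext a b
  simp only [Matrix.map_apply, Matrix.single_apply]
  split_ifs <;> simp

private noncomputable def _root_.Cfsg.Agent.LsF.f2acc96_27 : {f // @Cfsg.Agent.H183.E8F.M0z = f} := ⟨_, by first | (delta Cfsg.Agent.H183.E8F.M0z; rewrite [Cfsg.Agent.LsF.mof_pat, Cfsg.Agent.LsF.ineg_pat, Cfsg.Agent.LsF.vecCons_eq]; exact rfl) | exact rfl⟩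
theorem M0_single (i j : Fin 5) : (M0 : Matrix (Fin 5) (Fin 5) K) * Matrix.single i j 1 * M0ᵀ =
    Matrix.single (pi0 i) (pi0 j) ((eps0 i * eps0 j : ℤ) : K) := by
  have h : ∀ i j, M0z * Matrix.single i j 1 * M0zᵀ = Matrix.single (pi0 i) (pi0 j) (eps0 i * eps0 j) := by
    (refine of_decide_eq_true ?_; (try (rewrite [Cfsg.Agent.LsF.f2acc96_27.2, Cfsg.Agent.LsF.f2acc96_22.2, Cfsg.Agent.LsF.f2acc96_23.2, Cfsg.Agent.LsF.imul_pat, Cfsg.Agent.LsF.finFintype_eq, Cfsg.Agent.LsF.dMat_eq, Cfsg.Agent.LsF.instMHMul_eq, Cfsg.Agent.LsF.instMMul_eq, Cfsg.Agent.LsF.transpose_eq, Cfsg.Agent.LsF.iACM_eq, Cfsg.Agent.LsF.instIMul_eq, Cfsg.Agent.LsF.instIDecEq_eq, Cfsg.Agent.LsF.dFinEq_eq, Cfsg.Agent.LsF.dForallFin_eq, Cfsg.Agent.LsF.decide_eq])); decide +kernel)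
  rw [← single_map, ← h, Matrix.map_mul, Matrix.map_mul, single_map, M0_eq, Matrix.transpose_map, Int.cast_one]

private noncomputable def _root_.Cfsg.Agent.LsF.f2acc96_28 : {f // @Cfsg.Agent.H183.E8F.M1z = f} := ⟨_, by first | (delta Cfsg.Agent.H183.E8F.M1z; rewrite [Cfsg.Agent.LsF.mof_pat, Cfsg.Agent.LsF.ineg_pat, Cfsg.Agent.LsF.vecCons_eq]; exact rfl) | exact rfl⟩
theorem M1_single (i j : Fin 5) : (M1 : Matrix (Fin 5) (Fin 5) K) * (Matrix.single i j 1)ᵀ * M1ᵀ =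
    Matrix.single (pi1 j) (pi1 i) ((eps1 i * eps1 j : ℤ) : K) := by
  have h : ∀ i j, M1z * Matrix.single j i 1 * M1zᵀ = Matrix.single (pi1 j) (pi1 i) (eps1 i * eps1 j) := by
    (refine of_decide_eq_true ?_; (try (rewrite [Cfsg.Agent.LsF.f2acc96_28.2, Cfsg.Agent.LsF.f2acc96_24.2, Cfsg.Agent.LsF.f2acc96_25.2, Cfsg.Agent.LsF.imul_pat, Cfsg.Agent.LsF.finFintype_eq, Cfsg.Agent.LsF.dMat_eq, Cfsg.Agent.LsF.instMHMul_eq, Cfsg.Agent.LsF.instMMul_eq, Cfsg.Agent.LsF.transpose_eq, Cfsg.Agent.LsF.iACM_eq, Cfsg.Agent.LsF.instIMul_eq, Cfsg.Agent.LsF.instIDecEq_eq, Cfsg.Agent.LsF.dFinEq_eq, Cfsg.Agent.LsF.dForallFin_eq, Cfsg.Agent.LsF.decide_eq])); decide +kernel)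
  rw [← single_map, ← h, Matrix.map_mul, Matrix.map_mul, single_map, M1_eq, Matrix.transpose_map, Int.cast_one,
    Matrix.transpose_single]

end Perm

section Main

variable {K : Type*} [Field K]

theorem ev_cE (t : Fin 2) (i j : Fin 5) (c : ℤ) :
    ev chevE8 K (cE t i j c) 1 1 = (c : K) • ev chevE8 K (cE t i j 1) 1 1 := by
  simp only [cE, ev_cons, ev_nil, add_zero, Term.ev, smul_smul]
  congr 1
  push_cast
  ring

theorem ev_cH (t : Fin 2) (a : Fin 4) (c : ℤ) :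
    ev chevE8 K (cH t a c) 1 1 = (c : K) • ev chevE8 K (cH t a 1) 1 1 := by
  unfold cH
  generalize List.range 8 = l
  induction l with
  | nil => simp only [ev, _root_.Array.getD_eq_getD_getElem?, _root_.List.map_nil, _root_.List.sum_nil, _root_.one_mul, _root_.smul_zero]
  | cons k l ih =>
    rw [List.map_cons, List.map_cons, ev_cons, ev_cons, ih, smul_add]
    congr 1
    simp only [Term.ev, smul_smul]
    congr 1
    push_cast
    ring

theorem ev_cD (t : Fin 2) (i j : Fin 5) (c : ℤ) (u : Fin 5 → chevE8.Idx → K)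
    (hu : ∀ a : Fin 4, u a.castSucc - u a.succ = ev chevE8 K (cH t a 1) 1 1) :
    ev chevE8 K (cD t i j c) 1 1 = (c : K) • (u i - u j) := by
  have e : ev chevE8 K (cD t i j c) 1 1 = ∑ b : Fin 4,
      ((c * ((if i ≤ b.castSucc then 1 else 0) - (if j ≤ b.castSucc then 1 else 0)) : ℤ) : K) •
        ev chevE8 K (cH t b 1) 1 1 := by
    unfold cD
    have : ∀ l : List (Fin 4), ev chevE8 K (l.flatMap fun b =>
        cH t b (c * ((if i ≤ b.castSucc then 1 else 0) - (if j ≤ b.castSucc then 1 else 0)))) 1 1 =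
        (l.map fun b => ((c * ((if i ≤ b.castSucc then 1 else 0) - (if j ≤ b.castSucc then 1 else 0)) : ℤ) : K) •
        ev chevE8 K (cH t b 1) 1 1).sum := by
      intro l
      induction l with
      | nil => simp only [ev, _root_.List.flatMap_nil, _root_.List.map_nil, _root_.List.sum_nil, _root_.Int.cast_mul, _root_.Int.cast_sub, _root_.Int.cast_ite, _root_.Int.cast_one, _root_.Int.cast_zero]
      | cons b l ih => rw [List.flatMap_cons, ev_append, ih, List.map_cons, List.sum_cons, ev_cH]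
    rw [this, Fin.sum_univ_def]
  rw [e, u_eq u _ hu i, u_eq u _ hu j, add_sub_add_left_eq_sub, ← Finset.sum_sub_distrib, Finset.smul_sum]
  refine Finset.sum_congr rfl fun b _ => ?_
  push_cast
  split_ifs <;> simp

/-- **the action of `N`** for any map `io` with the values of the frame -/
theorem N_act_of (io : (Matrix (Fin 5) (Fin 5) K × Matrix (Fin 5) (Fin 5) K) →ₗ[K] (chevE8.Idx → K))
    (ho0 : ∀ i j, i ≠ j → io (Matrix.single i j 1, 0) = ev chevE8 K (cE 0 i j 1) 1 1)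
    (ho1 : ∀ i j, i ≠ j → io (0, Matrix.single i j 1) = ev chevE8 K (cE 1 i j 1) 1 1)
    (hc0 : ∀ a : Fin 4, io (Matrix.single a.castSucc a.castSucc 1 - Matrix.single a.succ a.succ 1, 0) =
      ev chevE8 K (cH 0 a 1) 1 1)
    (hc1 : ∀ a : Fin 4, io (0, Matrix.single a.castSucc a.castSucc 1 - Matrix.single a.succ a.succ 1) =
      ev chevE8 K (cH 1 a 1) 1 1)
    (A0 A1 : Matrix (Fin 5) (Fin 5) K) (h0 : A0.trace = 0) (h1 : A1.trace = 0) :
    (((NN K : ↥(chevE8.group K)) : GL chevE8.Idx K) : Matrix chevE8.Idx chevE8.Idx K) *ᵥ io (A0, A1) =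
      io (-(M1 * A1ᵀ * M1ᵀ), M0 * A0 * M0ᵀ) := by
  set N : Matrix chevE8.Idx chevE8.Idx K := (((NN K : ↥(chevE8.group K)) : GL chevE8.Idx K) :
    Matrix chevE8.Idx chevE8.Idx K) with hN
  have s0 : ∀ (c : K) (A : Matrix (Fin 5) (Fin 5) K), io (c • A, 0) = c • io (A, 0) := by
    intro c A
    rw [← map_smul, Prod.smul_mk, smul_zero]
  have s1 : ∀ (c : K) (A : Matrix (Fin 5) (Fin 5) K), io (0, c • A) = c • io (0, A) := by
    intro c A
    rw [← map_smul, Prod.smul_mk, smul_zero]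
  have a0 : ∀ A B : Matrix (Fin 5) (Fin 5) K, io (A - B, 0) = io (A, 0) - io (B, 0) := by
    intro A B
    rw [← map_sub, Prod.mk_sub_mk, sub_zero]
  have a1 : ∀ A B : Matrix (Fin 5) (Fin 5) K, io (0, A - B) = io (0, A) - io (0, B) := by
    intro A B
    rw [← map_sub, Prod.mk_sub_mk, sub_zero]
  have t0 : ∀ (i j : Fin 5) (c : K), Matrix.single i j c = c • Matrix.single i j (1 : K) := by
    intro i j c
    rw [Matrix.smul_single, smul_eq_mul, mul_one]
  -- first component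
  have k0 : ∀ A : Matrix (Fin 5) (Fin 5) K, A.trace = 0 → N *ᵥ io (A, 0) = io (0, M0 * A * M0ᵀ) := by
    intro A hA
    let L : Matrix (Fin 5) (Fin 5) K →ₗ[K] (chevE8.Idx → K) :=
      { toFun := fun A => N *ᵥ io (A, 0) - io (0, M0 * A * M0ᵀ)
        map_add' := by
          intro A B
          have e1 : io (A + B, 0) = io (A, 0) + io (B, 0) := by rw [← map_add, Prod.mk_add_mk, add_zero]
          have e2 : io (0, M0 * (A + B) * M0ᵀ) = io (0, M0 * A * M0ᵀ) + io (0, M0 * B * M0ᵀ) := by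
            rw [← map_add, Prod.mk_add_mk, add_zero, Matrix.mul_add, Matrix.add_mul]
          rw [e1, e2, Matrix.mulVec_add]
          abel
        map_smul' := by
          intro c A
          have e2 : io (0, M0 * (c • A) * M0ᵀ) = c • io (0, M0 * A * M0ᵀ) := by
            rw [← s1, Matrix.mul_smul, Matrix.smul_mul]
          rw [s0, e2, Matrix.mulVec_smul, smul_sub, RingHom.id_apply] }
    have := lin_ext L (by
      intro i j hij
      show N *ᵥ io (Matrix.single i j 1, 0) - io (0, M0 * Matrix.single i j 1 * M0ᵀ) = 0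
      have hij' : pi0 i ≠ pi0 j := by
        revert hij; revert i j; decide
      rw [ho0 i j hij, hN, ev_of_chk (chk_off0 i j hij), M0_single, t0, s1, ho1 _ _ hij', ev_cE, sub_self])
      (by
      intro a
      show N *ᵥ io (Matrix.single a.castSucc a.castSucc 1 - Matrix.single a.succ a.succ 1, 0) -
        io (0, M0 * (Matrix.single a.castSucc a.castSucc 1 - Matrix.single a.succ a.succ 1) * M0ᵀ) = 0
      have he : ∀ i : Fin 5, ((eps0 i * eps0 i : ℤ) : K) = 1 := by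
        intro i
        have : eps0 i * eps0 i = 1 := by revert i; decide
        rw [this, Int.cast_one]
      rw [hc0 a, hN, ev_of_chk (chk_car0 a), Matrix.mul_sub, Matrix.sub_mul, M0_single, M0_single, he, he, a1,
        ev_cD 1 _ _ 1 (fun i => io (0, Matrix.single i i 1)) (fun b => by rw [← a1, hc1]), Int.cast_one, one_smul,
        sub_self]) A hA
    exact sub_eq_zero.1 this
  have k1 : ∀ A : Matrix (Fin 5) (Fin 5) K, A.trace = 0 → N *ᵥ io (0, A) = io (-(M1 * Aᵀ * M1ᵀ), 0) := by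
    intro A hA
    let L : Matrix (Fin 5) (Fin 5) K →ₗ[K] (chevE8.Idx → K) :=
      { toFun := fun A => N *ᵥ io (0, A) - io (-(M1 * Aᵀ * M1ᵀ), 0)
        map_add' := by
          intro A B
          have e1 : io (0, A + B) = io (0, A) + io (0, B) := by rw [← map_add, Prod.mk_add_mk, add_zero]
          have e2 : io (-(M1 * (A + B)ᵀ * M1ᵀ), 0) = io (-(M1 * Aᵀ * M1ᵀ), 0) + io (-(M1 * Bᵀ * M1ᵀ), 0) := by
            rw [← map_add, Prod.mk_add_mk, add_zero, Matrix.transpose_add, Matrix.mul_add, Matrix.add_mul, neg_add]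
          rw [e1, e2, Matrix.mulVec_add]
          abel
        map_smul' := by
          intro c A
          have e2 : io (-(M1 * (c • A)ᵀ * M1ᵀ), 0) = c • io (-(M1 * Aᵀ * M1ᵀ), 0) := by
            rw [← s0, Matrix.transpose_smul, Matrix.mul_smul, Matrix.smul_mul, smul_neg]
          rw [s1, e2, Matrix.mulVec_smul, smul_sub, RingHom.id_apply] }
    have n0 : ∀ A : Matrix (Fin 5) (Fin 5) K, io (-A, 0) = -io (A, 0) := by
      intro A
      rw [← map_neg, Prod.neg_mk, neg_zero]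
    have := lin_ext L (by
      intro i j hij
      show N *ᵥ io (0, Matrix.single i j 1) - io (-(M1 * (Matrix.single i j 1)ᵀ * M1ᵀ), 0) = 0
      have hij' : pi1 j ≠ pi1 i := by
        revert hij; revert i j; decide
      rw [ho1 i j hij, hN, ev_of_chk (chk_off1 i j hij), M1_single, n0, t0, s0, ho0 _ _ hij', ev_cE, Int.cast_neg,
        neg_smul, sub_self])
      (by
      intro a
      show N *ᵥ io (0, Matrix.single a.castSucc a.castSucc 1 - Matrix.single a.succ a.succ 1) -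
        io (-(M1 * (Matrix.single a.castSucc a.castSucc 1 - Matrix.single a.succ a.succ 1)ᵀ * M1ᵀ), 0) = 0
      have he : ∀ i : Fin 5, ((eps1 i * eps1 i : ℤ) : K) = 1 := by
        intro i
        have : eps1 i * eps1 i = 1 := by revert i; decide
        rw [this, Int.cast_one]
      rw [hc1 a, hN, ev_of_chk (chk_car1 a), Matrix.transpose_sub, Matrix.mul_sub, Matrix.sub_mul, M1_single,
        M1_single, he, he, n0, a0,
        ev_cD 0 _ _ (-1) (fun i => io (Matrix.single i i 1, 0)) (fun b => by rw [← a0, hc0]), Int.cast_neg,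
        Int.cast_one, neg_smul, one_smul, sub_self]) A hA
    exact sub_eq_zero.1 this
  have e : io (A0, A1) = io (A0, 0) + io (0, A1) := by rw [← map_add, Prod.mk_add_mk, add_zero, zero_add]
  have e' : io (-(M1 * A1ᵀ * M1ᵀ), M0 * A0 * M0ᵀ) = io (0, M0 * A0 * M0ᵀ) + io (-(M1 * A1ᵀ * M1ᵀ), 0) := by
    rw [← map_add, Prod.mk_add_mk, add_zero, zero_add]
  rw [e, e', Matrix.mulVec_add, k0 A0 h0, k1 A1 h1]

end Main

section Frob

open Cfsg.Agent.GpExc.Field (emb coe_emb glMap)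
open Cfsg.Agent.BpExc.FamUntw (phi)

variable {K : Type*} [Field K] {K' : Type*} [Field K'] (f : K →+* K')

end Frob

end Cfsg.Agent.H183.E8F
end

private theorem dce_b86f3098e424 : _root_.True := by
  try have : _root_.True := by simp only [_root_.Cfsg.Agent.ChevalleyStructure.SparseEng.Mon.ev.eq_1]
  try have : _root_.True := by simp only [_root_.Cfsg.Agent.H183.E8F.cE.eq_1]
  try have : _root_.True := by simp only [_root_.Cfsg.Agent.H183.E8F.Pz.eq_1]
  try have : _root_.True := by simp only [_root_.Cfsg.Agent.H183.E8F.pw.eq_1]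
  try have : _root_.True := by simp only [_root_.Cfsg.Agent.H183.E8F.M0z.eq_1]
  try have : _root_.True := by simp only [_root_.Cfsg.Agent.H576.E8L.Ym.congr_simp]
  try have : _root_.True := by simp only [_root_.Cfsg.Agent.H183.E8F.NN.eq_1]
  try have : _root_.True := by simp only [_root_.Cfsg.Agent.H183.E8F.Nw.eq_1]
  try have : _root_.True := by simp only [_root_.Cfsg.Agent.H183.E8F.PP.eq_1]
  try have : _root_.True := by simp only [_root_.Cfsg.Agent.H183.E8F.nw.eq_1]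
  try have : _root_.True := by simp only [_root_.Cfsg.Agent.H576.E8L.ddi.eq_1]
  try have : _root_.True := by simp only [_root_.Cfsg.Agent.H183.E8F.nT.eq_1]
  try have : _root_.True := by simp only [_root_.Cfsg.Agent.H576.E8L.dd.eq_1]
  try have : _root_.True := by simp only [_root_.Cfsg.Agent.H183.E8F.M1z.eq_1]
  exact _root_.True.intro
end

-- part: H576/E8L/PN
section
set_option linter.all false
open scoped Cfsg.Agent.FastGrp

-- part: H183/E8F/NIo
section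
/-!
# S5925, box F2: the action of `N` in the coordinates `io` (helper183)
-/

set_option autoImplicit false

namespace Cfsg.Agent.H183.E8F

open Matrix Cfsg Cfsg.Lie Cfsg.Agent.ChevalleyStructure Cfsg.Agent.ChevalleyStructure.Elts
open Cfsg.Agent.ChevalleyStructure.SparseEng
open Cfsg.Agent.H992.E8X Cfsg.Agent.H238.E8
open Cfsg.Agent.H138.E8L Cfsg.Agent.H576.E8L

variable {K : Type*} [Field K]

theorem wr0 (i j : Fin 5) : wr 0 i j = w0 i j := by revert i j; decide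
theorem wr1 (i j : Fin 5) : wr 1 i j = w1 i j := by revert i j; decide
theorem ws0 (i j : Fin 5) : ws 0 i j = s0 i j := by revert i j; decide
theorem ws1 (i j : Fin 5) : ws 1 i j = s1 i j := by revert i j; decide

theorem ev_cE_eq (t : Fin 2) (i j : Fin 5) :
    ev chevE8 K (cE t i j 1) 1 1 = (ws t i j : K) • rv K (wr t i j) := by
  simp only [cE, ev_cons, ev_nil, add_zero, Term.ev, rv]
  congr 1
  push_cast
  ring

theorem ev_range (f : ℕ → ℤ) (n : ℕ) (row : chevE8.Idx) :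
    ev chevE8 K ((List.range n).map fun k => (⟨k, f k, 0, 0⟩ : Term)) 1 1 row =
      ∑ k ∈ Finset.range n, (f k : K) * bvec chevE8 K k row := by
  induction n with
  | zero => simp [ev]
  | succ n ih =>
    rw [List.range_succ, List.map_append, ev_append, Pi.add_apply, ih, Finset.sum_range_succ]
    congr 1
    simp [ev, Term.ev]

theorem ev_cH_eq (t : Fin 2) (a : Fin 4) :
    ev chevE8 K (cH t a 1) 1 1 = hv K (wr t a.castSucc a.succ) := by
  funext row
  unfold cH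
  rw [ev_range (fun k => 1 * (chevE8.coroot.getD (wr t a.castSucc a.succ) #[]).getD k 0) 8 row]
  rcases row with i | u
  · have hi : i.val < 8 := i.isLt
    rw [Finset.sum_eq_single i.val]
    · simp only [bvec, if_true, mul_one, one_mul]
      rfl
    · intro k _ hk
      simp only [bvec, if_neg (Ne.symm hk), mul_zero]
    · intro h
      exact absurd (Finset.mem_range.2 hi) h
  · rw [hv_inr]
    apply Finset.sum_eq_zero
    intro k hk
    have hk' := Finset.mem_range.1 hk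
    have : chevE8.rank + u.val ≠ k := by
      have : chevE8.rank = 8 := rfl
      omega
    simp only [bvec, if_neg this, mul_zero]

theorem ps_off {i j : Fin 5} (h : i ≠ j) (b : Fin 4) : ps (Matrix.single i j (1 : K)) b = 0 := by
  unfold ps
  apply Finset.sum_eq_zero
  intro c _
  split_ifs
  · rw [Matrix.single_apply, if_neg]
    rintro ⟨rfl, rfl⟩
    exact h rfl
  · rfl

theorem ps_diag (a b : Fin 4) : ps (Matrix.single a.castSucc a.castSucc (1 : K) - Matrix.single a.succ a.succ 1) b =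
    if b = a then 1 else 0 := by
  unfold ps
  have : ∀ c : Fin 5, (if c ≤ b.castSucc then
      (Matrix.single a.castSucc a.castSucc (1 : K) - Matrix.single a.succ a.succ 1 : Matrix (Fin 5) (Fin 5) K) c c
        else 0) =
      (((if c ≤ b.castSucc then (if a.castSucc = c then 1 else 0) - (if a.succ = c then 1 else 0) else 0 : ℤ)) : K) := by
    intro c
    rw [Matrix.sub_apply, Matrix.single_apply, Matrix.single_apply]
    simp only [and_self]
    split_ifs <;> simp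
  rw [Finset.sum_congr rfl fun c _ => this c, ← Int.cast_sum]
  have h : ∀ a b : Fin 4, ∑ c : Fin 5, (if c ≤ b.castSucc then
      (if a.castSucc = c then (1 : ℤ) else 0) - (if a.succ = c then 1 else 0) else 0) = if b = a then 1 else 0 := by
    decide
  rw [h]
  split_ifs <;> simp

theorem WM_off (w : Fin 5 → Fin 5 → ℕ) (s : Fin 5 → Fin 5 → ℤ) {i j : Fin 5} (h : i ≠ j) :
    WM K w s (Matrix.single i j 1) = (s i j : K) • rv K (w i j) := by
  rw [WM_apply, Finset.sum_eq_zero (s := (Finset.univ : Finset (Fin 4))) (fun b _ => by rw [ps_off h, zero_smul]),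
    add_zero, Finset.sum_eq_single i, Finset.sum_eq_single j]
  · rw [if_neg h, Matrix.single_apply, if_pos ⟨rfl, rfl⟩, mul_one]
  · intro b _ hb
    rw [Matrix.single_apply, if_neg (c := i = i ∧ j = b) (fun hh => hb hh.2.symm), mul_zero, zero_smul, ite_self]
  · intro hh
    exact absurd (Finset.mem_univ _) hh
  · intro b _ hb
    apply Finset.sum_eq_zero
    intro c _
    rw [Matrix.single_apply, if_neg (c := i = b ∧ j = c) (fun hh => hb hh.1.symm), mul_zero, zero_smul, ite_self]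
  · intro hh
    exact absurd (Finset.mem_univ _) hh

theorem WM_diag (w : Fin 5 → Fin 5 → ℕ) (s : Fin 5 → Fin 5 → ℤ) (a : Fin 4) :
    WM K w s (Matrix.single a.castSucc a.castSucc 1 - Matrix.single a.succ a.succ 1) =
      hv K (w a.castSucc a.succ) := by
  rw [WM_apply, Finset.sum_eq_zero (s := (Finset.univ : Finset (Fin 5))), zero_add, Finset.sum_eq_single a, ps_diag,
    if_pos rfl, one_smul]
  · intro b _ hb
    rw [ps_diag, if_neg hb, zero_smul]
  · intro hh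
    exact absurd (Finset.mem_univ _) hh
  · intro i _
    apply Finset.sum_eq_zero
    intro j _
    split_ifs with h
    · rfl
    · rw [Matrix.sub_apply, Matrix.single_apply, Matrix.single_apply, if_neg (fun hh => h (hh.1.symm.trans hh.2)),
        if_neg (fun hh => h (hh.1.symm.trans hh.2)), sub_zero, mul_zero, zero_smul]

/-- **the action of `N = φ₁(P) φ₂(P)` on `sl(W0) + sl(W1)`** -/
theorem N_act (A0 A1 : Matrix (Fin 5) (Fin 5) K) (h0 : A0.trace = 0) (h1 : A1.trace = 0) :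
    (((NN K : ↥(chevE8.group K)) : GL chevE8.Idx K) : Matrix chevE8.Idx chevE8.Idx K) *ᵥ io K (A0, A1) =
      io K (-(M1 * A1ᵀ * M1ᵀ), M0 * A0 * M0ᵀ) := by
  refine N_act_of (io K) ?_ ?_ ?_ ?_ A0 A1 h0 h1
  · intro i j h
    rw [io_apply, ev_cE_eq, wr0, ws0]
    simp only [WM_off w0 s0 h, map_zero, add_zero]
  · intro i j h
    rw [io_apply, ev_cE_eq, wr1, ws1]
    simp only [WM_off w1 s1 h, map_zero, zero_add]
  · intro a
    rw [io_apply, ev_cH_eq, wr0]
    simp only [WM_diag w0 s0 a, map_zero, add_zero]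
  · intro a
    rw [io_apply, ev_cH_eq, wr1]
    simp only [WM_diag w1 s1 a, map_zero, zero_add]

end Cfsg.Agent.H183.E8F
end

-- part: H138/E8L/Inst
section
/-!
# S5925, box F2: the instance in `E₈(k)` (helper138)
-/

set_option autoImplicit false

namespace Cfsg.Agent.H138.E8L

open Matrix Cfsg Cfsg.Lie Cfsg.Agent.ChevalleyStructure Cfsg.Agent.ChevalleyStructure.Elts
  Cfsg.Agent.H238.E8 Cfsg.Agent.H576.E8L Cfsg.Agent.H183.E8F
open Cfsg.Agent.BpExc.FamUntw (phi phi_coe)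

universe u

variable {k : Type u} [Field k] [IsAlgClosed k] [CharP k 3]

theorem phi_map (T : ↥(chevE8.group k)) :
    (((phi chevE8 k 3 1 T : ↥(chevE8.group k)) : GL chevE8.Idx k) : Matrix chevE8.Idx chevE8.Idx k) =
      ((T : GL chevE8.Idx k) : Matrix chevE8.Idx chevE8.Idx k).map (frobenius k 3) := by
  rw [phi_coe]
  ext i j
  simp [frobenius_def]

/-- **S5925, F2.** -/
theorem f2 {T : ↥(chevE8.group k)}
    (hT : NN k * phi chevE8 k 3 1 T = T * NN k)
    {q0 q1 : Matrix (Fin 5) (Fin 5) k} (h0 : IsUnit q0.det) (h1 : IsUnit q1.det) (hs0 : q0ᵀ = q0) (hs1 : q1ᵀ = q1)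
    (hTio : ∀ A0 A1 : Matrix (Fin 5) (Fin 5) k, A0.trace = 0 → A1.trace = 0 →
      ((T : GL chevE8.Idx k) : Matrix chevE8.Idx chevE8.Idx k) *ᵥ io k (A0, A1) =
        io k (-(q0⁻¹ * A0ᵀ * q0), -(q1⁻¹ * A1ᵀ * q1)))
    {g : k} (hg4 : g ^ 4 = 1 - g) :
    ∃ q : Matrix (Fin 5) (Fin 5) k, qᵀ = q ∧ (∀ i j, q i j ^ 81 = q i j) ∧ q * Mh q = 1 ∧ Mh q * q = 1 ∧
      Q2 (Mh q) * Q2 q = 1 ∧
      ∀ A0 A1 : Matrix (Fin 5) (Fin 5) k, A0.trace = 0 → A1.trace = 0 →
        ((T : GL chevE8.Idx k) : Matrix chevE8.Idx chevE8.Idx k) *ᵥ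
            io k (Dg g e0 * A0 * Di g e0, Dg g e1 * A1 * Di g e1) =
          io k (Dg g e0 * (-(Mh q * A0ᵀ * q)) * Di g e0, Dg g e1 * (-(Q2 (Mh q) * A1ᵀ * Q2 q)) * Di g e1) := by
  refine herm_scaled (io k) (fun A0 A1 B0 B1 a0 a1 b0 b1 h => ?_) (fun A0 A1 i => ?_) ?_ (fun A0 A1 a0 a1 => N_act A0 A1 a0 a1)
    h0 h1 hs0 hs1 hTio hg4
  · exact io_inj a0 a1 b0 b1 h
  · exact io_map (frobenius k 3) A0 A1 i
  · have h2 := congrArg (fun z : ↥(chevE8.group k) => ((z : GL chevE8.Idx k) : Matrix chevE8.Idx chevE8.Idx k)) hT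
    simp only [Subgroup.coe_mul, Units.val_mul] at h2
    rw [phi_map] at h2
    exact h2

end Cfsg.Agent.H138.E8L
end

-- part: H576/E8L/PN
section
/-!
# S5925, boxes F2 + G: from an element `T` of `E₈(K)` to the structure `PNine` (helper576)
-/

set_option autoImplicit false
set_option linter.unusedSectionVars false
set_option linter.unusedVariables false
set_option linter.style.longLine false
set_option linter.unusedSimpArgs false

namespace Cfsg.Agent.H576.E8L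

open Matrix Cfsg Cfsg.Lie Cfsg.Agent.ChevalleyStructure Cfsg.Agent.ChevalleyStructure.Elts
open Cfsg.Agent.H992.E8X Cfsg.Agent.H238.E8
open Cfsg.Agent.H879.E83
open Cfsg.Agent.BpExc.FamUntw (phi)

section
variable {K : Type} [Field K]

/-- the action on `L` -/
def En : ↥(chevE8.group K) →* Module.End K (chevE8.Idx → K) where
  toFun g := Matrix.mulVecLin ((g : GL chevE8.Idx K) : Matrix chevE8.Idx chevE8.Idx K)
  map_one' := by
    rw [Subgroup.coe_one, Units.val_one, Matrix.mulVecLin_one]; rfl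
  map_mul' a b := by
    rw [Subgroup.coe_mul, Units.val_mul, Matrix.mulVecLin_mul]; rfl

theorem En_apply (g : ↥(chevE8.group K)) (v : chevE8.Idx → K) :
    En g v = ((g : GL chevE8.Idx K) : Matrix chevE8.Idx chevE8.Idx K) *ᵥ v :=
  Matrix.mulVecLin_apply _ v

theorem iota_Dg (g : K) (A0 A1 : Mt K) : iota g (A0, A1) =
    io K (Cfsg.Agent.H138.E8L.Dg g Cfsg.Agent.H138.E8L.e0 * A0 * Cfsg.Agent.H138.E8L.Di g Cfsg.Agent.H138.E8L.e0,
      Cfsg.Agent.H138.E8L.Dg g Cfsg.Agent.H138.E8L.e1 * A1 * Cfsg.Agent.H138.E8L.Di g Cfsg.Agent.H138.E8L.e1) := by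
  rw [iota_apply, cj_eq, cj_eq]
  have e : ∀ r : Fin 5 → ℕ, ddi r g = Cfsg.Agent.H138.E8L.Di g r := by
    intro r
    unfold ddi Cfsg.Agent.H138.E8L.Di
    congr 1
    funext a
    rw [inv_pow]
  rw [e, e]
  rfl

theorem Mh_eq (q : Mt K) : Cfsg.Agent.H138.E8L.Mh q = Cfsg.Agent.H879.E83.Mh q := by
  ext a b
  show (Cfsg.Agent.H138.E8L.J a : K) * (Cfsg.Agent.H138.E8L.J b : K) * q (Cfsg.Agent.H138.E8L.sg a) (Cfsg.Agent.H138.E8L.sg b) ^ 9 =
    Jv a * Jv b * q (sgm a) (sgm b) ^ 9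
  have h1 : ∀ a : Fin 5, (Cfsg.Agent.H138.E8L.J a : K) = Jv a := by
    intro a
    fin_cases a <;> simp [Cfsg.Agent.H138.E8L.J, Jv]
  have h2 : ∀ a : Fin 5, Cfsg.Agent.H138.E8L.sg a = sgm a := by decide
  rw [h1, h1, h2, h2]

theorem Q2_eq (q : Mt K) : Cfsg.Agent.H138.E8L.Q2 q = Cfsg.Agent.H879.E83.Q2 q := by
  ext a b
  show (Cfsg.Agent.H138.E8L.S (Cfsg.Agent.H138.E8L.tw a) : K) * (Cfsg.Agent.H138.E8L.S (Cfsg.Agent.H138.E8L.tw b) : K) *
    q (Cfsg.Agent.H138.E8L.tw a) (Cfsg.Agent.H138.E8L.tw b) ^ 3 = Sv (2 * a) * Sv (2 * b) * q (2 * a) (2 * b) ^ 3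
  have h1 : ∀ a : Fin 5, (Cfsg.Agent.H138.E8L.S a : K) = Sv a := by
    intro a
    fin_cases a <;> simp [Cfsg.Agent.H138.E8L.S, Sv]
  have h2 : ∀ a : Fin 5, Cfsg.Agent.H138.E8L.tw a = 2 * a := by decide
  rw [h1, h1, h2, h2]

variable [CharP K 3]

/-- the relations of `PSL₂(11)` in the group give `Rel` -/
theorem rel_En {x y t : ↥(chevE8.group K)} (hx : x ^ 11 = 1) (hy : y ^ 5 = 1) (ht : t * t = 1) (hyx : y * x = x ^ 3 * y)
    (hty : t * y = y⁻¹ * t) (htxt : t * x * t = x⁻¹ * t * x⁻¹) : Rel (En x) (En y) (En t) := by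
  have hxi : x⁻¹ = x ^ 10 := inv_eq_of_mul_eq_one_right (by rw [← pow_succ', hx])
  have hyi : y⁻¹ = y ^ 4 := inv_eq_of_mul_eq_one_right (by rw [← pow_succ', hy])
  refine ⟨?_, ?_, ?_, ?_, ?_, ?_, ?_⟩
  · rw [← map_pow, hx, map_one]
  · rw [← map_pow, hy, map_one]
  · rw [← map_mul, ht, map_one]
  · rw [← map_pow, ← map_mul, ← map_mul, hyx]
  · rw [← map_pow, ← map_mul, ← map_mul, hty, hyi]
  · rw [← map_pow, ← map_mul, ← map_mul, ← map_mul, ← map_mul, htxt, hxi]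
  · have h3 : (3 : K) = 0 := three_zero
    apply LinearMap.ext
    intro v
    have : (3 : Module.End K (chevE8.Idx → K)) v = (3 : K) • v := by
      have e : (3 : Module.End K (chevE8.Idx → K)) = algebraMap K _ 3 := (map_ofNat (algebraMap K _) 3).symm
      rw [e]; rfl
    rw [this, h3, zero_smul]; rfl

/-- the table: `pr_u ∘ x` and `pr_u ∘ x⁻¹` on `u` -/
structure Tbl (g : K) (x : ↥(chevE8.group K)) : Prop where
  xp : ∀ p : Mt K × Mt K, p.1.trace = 0 → p.2.trace = 0 →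
    prj (((x : GL chevE8.Idx K) : Matrix chevE8.Idx chevE8.Idx K) *ᵥ iota g p) = iota g (XP0 g p.1 p.2, XP1 g p.1 p.2)
  xm : ∀ p : Mt K × Mt K, p.1.trace = 0 → p.2.trace = 0 →
    prj (((x⁻¹ : ↥(chevE8.group K)) : GL chevE8.Idx K).1 *ᵥ iota g p) = iota g (XM0 g p.1 p.2, XM1 g p.1 p.2)

/-- **S5925, F2 + G.** -/
theorem pnine [IsAlgClosed K] {g : K} (hg : g ^ 4 = 1 - g) {x t : ↥(chevE8.group K)} (htab : Tbl g x)
    (hx : x ^ 11 = 1) (ht : t * t = 1)
    (hyx : YY (wU g hg) (wU_pow hg) * x = x ^ 3 * YY (wU g hg) (wU_pow hg))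
    (hy : YY (wU g hg) (wU_pow hg) ^ 5 = 1)
    (hty : t * YY (wU g hg) (wU_pow hg) = (YY (wU g hg) (wU_pow hg))⁻¹ * t)
    (htxt : t * x * t = x⁻¹ * t * x⁻¹)
    (hsum : ∀ v : chevE8.Idx → K, En x v = v → En (YY (wU g hg) (wU_pow hg)) v = v →
      v + sX (En x) (En t v) = 0)
    (hT : Cfsg.Agent.H183.E8F.NN K * phi chevE8 K 3 1 t = t * Cfsg.Agent.H183.E8F.NN K)
    {q0 q1 : Matrix (Fin 5) (Fin 5) K} (h0 : IsUnit q0.det) (h1 : IsUnit q1.det) (hs0 : q0ᵀ = q0) (hs1 : q1ᵀ = q1)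
    (hTio : ∀ A0 A1 : Matrix (Fin 5) (Fin 5) K, A0.trace = 0 → A1.trace = 0 →
      ((t : GL chevE8.Idx K) : Matrix chevE8.Idx chevE8.Idx K) *ᵥ io K (A0, A1) =
        io K (-(q0⁻¹ * A0ᵀ * q0), -(q1⁻¹ * A1ᵀ * q1))) :
    ∃ q : Mt K, PNine g q ∧ ∀ A0 A1 : Mt K, A0.trace = 0 → A1.trace = 0 →
      ((t : GL chevE8.Idx K) : Matrix chevE8.Idx chevE8.Idx K) *ᵥ iota g (A0, A1) =
        iota g (-(Mh q * A0ᵀ * q), -(Q2 (Mh q) * A1ᵀ * Q2 q)) := by
  obtain ⟨q, hq, h81, hM1, hM2, hQ, hact⟩ := Cfsg.Agent.H138.E8L.f2 hT h0 h1 hs0 hs1 hTio hg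
  have hact' : ∀ A0 A1 : Mt K, A0.trace = 0 → A1.trace = 0 →
      ((t : GL chevE8.Idx K) : Matrix chevE8.Idx chevE8.Idx K) *ᵥ iota g (A0, A1) =
        iota g (-(Mh q * A0ᵀ * q), -(Q2 (Mh q) * A1ᵀ * Q2 q)) := by
    intro A0 A1 a0 a1
    have := hact A0 A1 a0 a1
    rw [← iota_Dg, ← iota_Dg, Mh_eq, Q2_eq, Q2_eq] at this
    exact this
  refine ⟨q, ?_, hact'⟩
  have hxi : (((x⁻¹ : ↥(chevE8.group K)) : GL chevE8.Idx K) : Matrix chevE8.Idx chevE8.Idx K) *
      ((x : GL chevE8.Idx K) : Matrix chevE8.Idx chevE8.Idx K) = 1 := by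
    rw [← Units.val_mul, ← Subgroup.coe_mul, inv_mul_cancel, Subgroup.coe_one, Units.val_one]
  have hF := gframe hg ((x : GL chevE8.Idx K) : Matrix chevE8.Idx chevE8.Idx K)
    (((x⁻¹ : ↥(chevE8.group K)) : GL chevE8.Idx K) : Matrix chevE8.Idx chevE8.Idx K)
    ((t : GL chevE8.Idx K) : Matrix chevE8.Idx chevE8.Idx K) q (Mh q) (Q2 q) (Q2 (Mh q)) hxi
    (rel_En hx hy ht hyx hty htxt) hsum htab.xp htab.xm hact' (by rw [← Mh_eq]; exact hM2)
    (by rw [← Mh_eq, ← Q2_eq, ← Q2_eq]; exact hQ)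
  exact hF.pnine hq h81

end

end Cfsg.Agent.H576.E8L
end

private theorem dce_a222deb8e4dc : _root_.True := by
  try have : _root_.True := by simp only [_root_.Cfsg.Agent.H879.E83.Jv.eq_1]
  try have : _root_.True := by simp only [_root_.Cfsg.Agent.H576.E8L.rv.eq_1]
  exact _root_.True.intro
end

-- part: H138/E8L/Zed
section
set_option linter.all false
open scoped Cfsg.Agent.FastGrp

/-!
# S5925: the element `z₀` (helper138)

`B ∈ SL₅(F_81)` with `Fr B = B diag(1, w, .., w⁴)`, `Mo B = B X₅`, `B^(3) = B P`; `z₀ = φ₁(B) φ₂(B)`.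
-/

set_option autoImplicit false
set_option linter.style.longLine false

namespace Cfsg.Agent.H138.E8L.Zed

open Matrix Cfsg Cfsg.Lie Cfsg.Agent.ChevalleyStructure Cfsg.Agent.ChevalleyStructure.Elts
open Cfsg.Agent.H992.E8X Cfsg.Agent.H238.E8 Cfsg.Agent.H576.E8L Cfsg.Agent.H183.E8F Cfsg.Agent.H908.E8L
open Cfsg.Agent.GpExc.Field (emb)
open Cfsg.Agent.BpExc.FamUntw (phi)

/-- `a₀ + a₁ g + a₂ g² + a₃ g³` -/
abbrev E := ℤ × ℤ × ℤ × ℤ
abbrev EM := Fin 5 → Fin 5 → E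

def eadd (a b : E) : E := (a.1 + b.1, a.2.1 + b.2.1, a.2.2.1 + b.2.2.1, a.2.2.2 + b.2.2.2)

def emul (a b : E) : E :=
  let c0 := a.1*b.1
  let c1 := a.1*b.2.1 + a.2.1*b.1
  let c2 := a.1*b.2.2.1 + a.2.1*b.2.1 + a.2.2.1*b.1
  let c3 := a.1*b.2.2.2 + a.2.1*b.2.2.1 + a.2.2.1*b.2.1 + a.2.2.2*b.1
  let c4 := a.2.1*b.2.2.2 + a.2.2.1*b.2.2.1 + a.2.2.2*b.2.1
  let c5 := a.2.2.1*b.2.2.2 + a.2.2.2*b.2.2.1
  let c6 := a.2.2.2*b.2.2.2
  (c0 + c4, c1 - c4 + c5, c2 - c5 + c6, c3 - c6)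

def gp : ℕ → E
  | 0 => (1, 0, 0, 0)
  | n + 1 => emul (gp n) (0, 1, 0, 0)

def mE (A B : EM) : EM := fun i j =>
  eadd (emul (A i 0) (B 0 j)) (eadd (emul (A i 1) (B 1 j)) (eadd (emul (A i 2) (B 2 j))
    (eadd (emul (A i 3) (B 3 j)) (emul (A i 4) (B 4 j)))))

def cg (a b : E) : Prop := (a.1 - b.1) % 3 = 0 ∧ (a.2.1 - b.2.1) % 3 = 0 ∧ (a.2.2.1 - b.2.2.1) % 3 = 0 ∧
  (a.2.2.2 - b.2.2.2) % 3 = 0

instance (a b : E) : Decidable (cg a b) := by unfold cg; infer_instance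

section
variable {k : Type*} [Field k]

def ev (g : k) (a : E) : k := (a.1 : k) + a.2.1 * g + a.2.2.1 * g ^ 2 + a.2.2.2 * g ^ 3

def evM (g : k) (A : EM) : Matrix (Fin 5) (Fin 5) k := Matrix.of fun i j => ev g (A i j)

theorem ev_add (g : k) (a b : E) : ev g (eadd a b) = ev g a + ev g b := by
  simp only [ev, eadd, Int.cast_add]; ring

theorem ev_mul {g : k} (hg : g ^ 4 = 1 - g) (a b : E) : ev g (emul a b) = ev g a * ev g b := by
  simp only [ev, emul, Int.cast_add, Int.cast_mul, Int.cast_sub]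
  linear_combination (-((a.2.1*b.2.2.2 + a.2.2.1*b.2.2.1 + a.2.2.2*b.2.1 : k) + (a.2.2.1*b.2.2.2 + a.2.2.2*b.2.2.1) * g
    + (a.2.2.2*b.2.2.2) * g ^ 2)) * hg

theorem ev_gp {g : k} (hg : g ^ 4 = 1 - g) (n : ℕ) : ev g (gp n) = g ^ n := by
  induction n with
  | zero => simp [gp, ev]
  | succ n ih => rw [gp, ev_mul hg, ih]; simp [ev, pow_succ]

theorem evM_mul {g : k} (hg : g ^ 4 = 1 - g) (A B : EM) : evM g A * evM g B = evM g (mE A B) := by
  ext i j
  rw [Matrix.mul_apply, Fin.sum_univ_five]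
  simp only [evM, Matrix.of_apply, mE, ev_add, ev_mul hg]
  ring

variable [CharP k 3]

theorem cast3 {a b : ℤ} (h : (a - b) % 3 = 0) : (a : k) = (b : k) := by
  have h1 : ((a - b : ℤ) : k) = 0 := (CharP.intCast_eq_zero_iff k 3 (a - b)).2 (Int.dvd_of_emod_eq_zero h)
  rw [Int.cast_sub] at h1
  exact sub_eq_zero.1 h1

theorem ev_cg {g : k} {a b : E} (h : cg a b) : ev g a = ev g b := by
  obtain ⟨h1, h2, h3, h4⟩ := h
  rw [ev, ev, cast3 h1, cast3 h2, cast3 h3, cast3 h4]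

theorem evM_cg {g : k} {A B : EM} (h : ∀ i j, cg (A i j) (B i j)) : evM g A = evM g B := by
  ext i j
  exact ev_cg (h i j)

end

def bE : EM := ![![(0,1,-1,-1), (0,1,0,0), (0,-1,1,-1), (0,0,0,-1), (0,1,1,1)], ![(0,0,0,0), (1,1,1,1), (-1,0,0,-1), (-1,-1,1,-1), (1,1,0,0)], ![(0,0,0,0), (-1,-1,-1,0), (1,-1,0,1), (1,0,1,0), (-1,0,-1,1)], ![(0,0,0,0), (1,1,-1,0), (-1,0,-1,-1), (-1,0,1,1), (1,-1,1,0)], ![(0,0,0,0), (0,1,0,0), (0,-1,1,-1), (0,0,0,-1), (0,1,1,1)]]
def biE : EM := ![![(0,-1,1,1), (0,0,0,0), (0,0,0,0), (0,0,0,0), (0,1,-1,-1)], ![(0,0,0,0), (0,1,0,0), (1,1,1,0), (-1,0,1,0), (-1,0,0,1)], ![(0,0,0,0), (0,-1,1,-1), (-1,1,0,-1), (1,-1,-1,0), (1,-1,0,0)], ![(0,0,0,0), (0,0,0,-1), (-1,0,-1,0), (1,0,-1,1), (1,-1,-1,-1)], ![(0,0,0,0), (0,1,1,1), (1,0,1,-1), (-1,-1,0,1), (-1,1,-1,1)]]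

/-- the exponents of `X₅` -/
def xe : Fin 5 → Fin 5 → ℕ := ![![0, 48, 16, 64, 32], ![22, 0, 57, 39, 53], ![34, 13, 0, 71, 19], ![66, 11, 79, 0, 37],
  ![38, 77, 31, 33, 0]]

def ofI (M : Fin 5 → Fin 5 → ℤ) : EM := fun i j => (M i j, 0, 0, 0)

def MoZ : Fin 5 → Fin 5 → ℤ := ![![1, 0, 1, 1, 2], ![1, 1, 2, 0, 2], ![2, 1, 1, 2, 0], ![2, 2, 1, 1, 2], ![0, 2, 2, 1, 1]]
def FrZ : Fin 5 → Fin 5 → ℤ := ![![1, 0, 0, 2, 0], ![0, 0, 2, 1, 0], ![0, 0, 1, 0, 1], ![0, 1, 0, 0, 1], ![0, 0, 0, 2, 1]]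
def PZ : Fin 5 → Fin 5 → ℤ := ![![-1, 0, 0, 0, 0], ![0, 0, -1, 0, 0], ![0, 0, 0, 0, -1], ![0, -1, 0, 0, 0], ![0, 0, 0, -1, 0]]

def cube (A : EM) : EM := fun i j => emul (A i j) (emul (A i j) (A i j))

def dgE : EM := fun i j => if i = j then gp (16 * i.val) else (0, 0, 0, 0)

theorem t_inv : ∀ i j, cg (mE bE biE i j) (ofI (fun i j => if i = j then 1 else 0) i j) := by decide +kernel
theorem t_fr : ∀ i j, cg (mE (ofI FrZ) bE i j) (mE bE dgE i j) := by decide +kernel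
theorem t_mo : ∀ i j, cg (mE (ofI MoZ) bE i j) (mE bE (fun i j => gp (xe i j)) i j) := by decide +kernel
theorem t_frob : ∀ i j, cg (cube bE i j) (mE bE (ofI PZ) i j) := by decide +kernel

theorem t_moz : Matrix.of (fun i j => ((MoZ i j : ℤ) : ZMod 3)) = MoM := by decide +kernel
theorem t_frz : Matrix.of (fun i j => ((FrZ i j : ℤ) : ZMod 3)) = FrM := by decide +kernel

section
variable {k : Type} [Field k]

/-- the matrix `X₅` -/
def X5M (g : k) : Matrix (Fin 5) (Fin 5) k := Matrix.of fun i j => g ^ xe i j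

theorem evM_gp {g : k} (hg : g ^ 4 = 1 - g) : evM g (fun i j => gp (xe i j)) = X5M g := by
  ext i j
  simp only [evM, X5M, Matrix.of_apply, ev_gp hg]

theorem ev_int (g : k) (z : ℤ) : ev g (z, 0, 0, 0) = z := by simp [ev]

theorem map_ofI (f : ZMod 3 →+* k) (g : k) (M : Fin 5 → Fin 5 → ℤ) :
    (Matrix.of (fun i j => ((M i j : ℤ) : ZMod 3))).map f = evM g (ofI M) := by
  ext i j
  simp only [evM, ofI, Matrix.of_apply, Matrix.map_apply, ev_int, map_intCast]

theorem evM_one (g : k) : evM g (ofI (fun i j => if i = j then 1 else 0)) = 1 := by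
  ext i j
  simp only [evM, ofI, Matrix.of_apply, ev_int, Matrix.one_apply]
  split_ifs <;> simp

theorem evM_cube {g : k} (hg : g ^ 4 = 1 - g) (A : EM) (i j : Fin 5) : evM g A i j ^ 3 = evM g (cube A) i j := by
  simp only [evM, cube, Matrix.of_apply, ev_mul hg]
  ring

theorem evM_dg {g : k} (hg : g ^ 4 = 1 - g) : evM g dgE = Matrix.diagonal fun i : Fin 5 => (g ^ 16) ^ i.val := by
  ext i j
  simp only [evM, dgE, Matrix.of_apply, Matrix.diagonal_apply]
  split_ifs with h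
  · rw [ev_gp hg, pow_mul]
  · simp [ev]

theorem evM_P (g : k) : evM g (ofI PZ) = ((PP k : SpecialLinearGroup (Fin 5) k) : Matrix (Fin 5) (Fin 5) k) := by
  rw [coe_PP]
  ext i j
  simp only [evM, ofI, Matrix.of_apply, ev_int]
  fin_cases i <;> fin_cases j <;> simp [PZ]

variable [CharP k 3]

theorem exists_B (f : ZMod 3 →+* k) {g : k} (hg : g ^ 4 = 1 - g) :
    ∃ B X : SpecialLinearGroup (Fin 5) k, (X : Matrix (Fin 5) (Fin 5) k) = X5M g ∧
      SpecialLinearGroup.map f Fr * B = B * Yd (wU g hg) (wU_pow hg) ∧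
      SpecialLinearGroup.map f Mo * B = B * X ∧
      SpecialLinearGroup.map (iterateFrobenius k 3 1) B = B * PP k := by
  set b : Matrix (Fin 5) (Fin 5) k := evM g bE with hb
  have h1 : b * evM g biE = 1 := by rw [hb, evM_mul hg, evM_cg t_inv, evM_one]
  have hfr : FrM.map f * b = b * (Matrix.diagonal fun i : Fin 5 => (g ^ 16) ^ i.val) := by
    rw [← t_frz, map_ofI f g, hb, evM_mul hg, evM_cg t_fr, ← evM_mul hg, evM_dg hg]
  have hmo : MoM.map f * b = b * X5M g := by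
    rw [← t_moz, map_ofI f g, hb, evM_mul hg, evM_cg t_mo, ← evM_mul hg, evM_gp hg]
  have hfb : b.map (frobenius k 3) = b * ((PP k : SpecialLinearGroup (Fin 5) k) : Matrix (Fin 5) (Fin 5) k) := by
    rw [← evM_P g, hb, evM_mul hg, ← evM_cg t_frob]
    ext i j
    rw [Matrix.map_apply, frobenius_def, evM_cube hg]
  have hd : b.det * (evM g biE).det = 1 := by rw [← Matrix.det_mul, h1, Matrix.det_one]
  have hd0 : b.det ≠ 0 := left_ne_zero_of_mul_eq_one hd
  have hd3 : b.det ^ 3 = b.det := by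
    have h2 := congrArg Matrix.det hfb
    rw [Matrix.det_mul, Matrix.SpecialLinearGroup.det_coe, mul_one] at h2
    have h3 := RingHom.map_det (frobenius k 3) b
    rw [RingHom.mapMatrix_apply] at h3
    rw [← h3, frobenius_def] at h2
    exact h2
  have hd2 : b.det ^ 2 = 1 := by
    have h4 : b.det * (b.det ^ 2 - 1) = 0 := by linear_combination hd3
    rcases mul_eq_zero.1 h4 with h | h
    · exact absurd h hd0
    · exact sub_eq_zero.1 h
  set e := b.det with he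
  have hB : (e • b).det = 1 := by
    rw [Matrix.det_smul, Fintype.card_fin, ← he]
    linear_combination (e ^ 4 + e ^ 2 + 1) * hd2
  have hMo : IsUnit (e • b).det := by rw [hB]; exact isUnit_one
  let B : SpecialLinearGroup (Fin 5) k := ⟨e • b, hB⟩
  refine ⟨B, B⁻¹ * (SpecialLinearGroup.map f Mo * B), ?_, ?_, ?_, ?_⟩
  · have e1 : ((B * (B⁻¹ * (SpecialLinearGroup.map f Mo * B)) : SpecialLinearGroup (Fin 5) k) : Matrix (Fin 5) (Fin 5) k) =
        (e • b) * X5M g := by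
      rw [mul_inv_cancel_left]
      show MoM.map f * (e • b) = _
      rw [Matrix.mul_smul, hmo, Matrix.smul_mul]
    rw [Matrix.SpecialLinearGroup.coe_mul] at e1
    have e2 := congrArg (fun M => (e • b)⁻¹ * M) e1
    rw [← Matrix.mul_assoc, ← Matrix.mul_assoc, Matrix.nonsing_inv_mul _ hMo, Matrix.one_mul] at e2
    rw [e2, Matrix.one_mul]
  · apply Subtype.ext
    show FrM.map f * (e • b) = (e • b) * ((Yd (wU g hg) (wU_pow hg) : SpecialLinearGroup (Fin 5) k) : Matrix (Fin 5) (Fin 5) k)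
    have e2 : ((Yd (wU g hg) (wU_pow hg) : SpecialLinearGroup (Fin 5) k) : Matrix (Fin 5) (Fin 5) k) =
        Matrix.diagonal fun i : Fin 5 => (g ^ 16) ^ i.val := by
      show Matrix.diagonal _ = _
      congr 1
      ext i
      fin_cases i <;> simp [dw, wU]
    rw [e2, Matrix.mul_smul, hfr, Matrix.smul_mul]
  · rw [mul_inv_cancel_left]
  · apply Subtype.ext
    show (e • b).map (iterateFrobenius k 3 1) = (e • b) * ((PP k : SpecialLinearGroup (Fin 5) k) : Matrix (Fin 5) (Fin 5) k)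
    rw [Matrix.smul_mul, ← hfb]
    ext i j
    simp only [Matrix.map_apply, Matrix.smul_apply, smul_eq_mul, iterateFrobenius_def, pow_one, frobenius_def, mul_pow, hd3]

theorem phi_emb3 [IsAlgClosed k] (f : ZMod 3 →+* k) (t : ↥(chevE8.group (ZMod 3))) :
    phi chevE8 k 3 1 (emb hE8 f t) = emb hE8 f t := by
  apply Subtype.ext
  apply Units.ext
  rw [Cfsg.Agent.BpExc.FamUntw.phi_coe, Cfsg.Agent.GpExc.Field.coe_emb]
  ext i j
  show (f _) ^ 3 ^ 1 = f _
  rw [pow_one, ← map_pow]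
  congr 1
  exact ZMod.pow_card _

end

end Cfsg.Agent.H138.E8L.Zed

private theorem dce_d92f5707d01b : _root_.True := by
  try have : _root_.True := by simp only [_root_.Cfsg.Agent.H138.E8L.Zed.cube.eq_1]
  try have : _root_.True := by simp only [_root_.Cfsg.Agent.H576.E8L.wU.congr_simp]
  try have : _root_.True := by simp only [_root_.Cfsg.Agent.H138.E8L.Zed.eadd.eq_1]
  try have : _root_.True := by simp only [_root_.Cfsg.Agent.H138.E8L.Zed.dgE.eq_1]
  try have : _root_.True := by simp only [_root_.Cfsg.Agent.H576.E8L.dw.eq_1]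
  try have : _root_.True := by simp only [_root_.Cfsg.Agent.H576.E8L.wU.eq_1]
  try have : _root_.True := by simp only [_root_.Cfsg.Agent.H138.E8L.Zed.gp.eq_1]
  try have : _root_.True := by simp only [_root_.Cfsg.Agent.H138.E8L.Zed.gp.eq_def]
  try have : _root_.True := by simp only [_root_.Cfsg.Agent.H138.E8L.Zed.emul.eq_1]
  try have : _root_.True := by simp only [_root_.Cfsg.Agent.H576.E8L.Yd.congr_simp]
  try have : _root_.True := by simp only [_root_.Cfsg.Agent.H138.E8L.Zed.ev.eq_1]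
  try have : _root_.True := by simp only [_root_.Cfsg.Agent.H138.E8L.Zed.mE.eq_1]
  try have : _root_.True := by simp only [_root_.Cfsg.Agent.H138.E8L.Zed.PZ.eq_1]
  try have : _root_.True := by simp only [_root_.Cfsg.Agent.H576.E8L.YY.eq_1]
  try have : _root_.True := by simp only [_root_.Cfsg.Agent.H138.E8L.Zed.evM.eq_1]
  try have : _root_.True := by simp only [_root_.Cfsg.Agent.H138.E8L.Zed.X5M.eq_1]
  try have : _root_.True := by simp only [_root_.Cfsg.Agent.H138.E8L.Zed.gp.eq_2]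
  try have : _root_.True := by simp only [_root_.Cfsg.Agent.H138.E8L.Zed.ofI.eq_1]
  exact _root_.True.intro
end

-- part: H780/P9/Iface
section
prune_inst 0x4003404752200000000051002001004ec000090002880002880074200092702c0420900be30350080ae02006808000811000160424000000e000400000201000888000420400200080086000000000000000000000000000000000000010004000000000
set_option linter.all false
open scoped Cfsg.Agent.FastGrp

-- part: H780/P9/Gauge
section
/-!
# S5925, box H: the gauge group of the search (helper780)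

`q ↦ z κ q κ`, `κ (σ a) ^ 9 * κ a = 1`, `z ^ 10 = 1` preserves the symmetric / hermitian / `P` hypotheses;
`κ = (l, 1, l⁻⁹, l⁻³⁶, l⁴)` also preserves C3.
-/

set_option autoImplicit false
set_option linter.style.longLine false

namespace Cfsg.Agent.H780.P9
open Matrix Cfsg.Agent.H879.E83

section
variable {F : Type*} [Field F] {g : F} {q : Mt F}

/-- gauge transform -/
def gau (z : F) (k : Fin 5 → F) (q : Mt F) : Mt F := fun a b => z * k a * k b * q a b

/-- the hypotheses without C3 -/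
structure PFour (g : F) (q : Mt F) : Prop where
  sym : qᵀ = q
  pow81 : ∀ a b, q a b ^ 81 = q a b
  herm : Mh q * q = 1
  trits : ∃ n : Fin 5 → Fin 5 → ZMod 3, (∀ l, n 0 l = 0) ∧ (∀ j, n j 0 = 0) ∧ (∀ j l, n (-l) (-j) = n j l) ∧
      ∀ a b, Mh q a b * q a b = (if a = b then 0 else 1)
        - ∑ j, ∑ l, ((n j l).val : F) * g ^ (eE j l) * ch g l a * ch g (-j) b

theorem _root_.Cfsg.Agent.H879.E83.PNine.four (h : PNine g q) : PFour g q := ⟨h.sym, h.pow81, h.herm, h.trits⟩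

/-- condition on the diagonal matrix -/
def Gk (k : Fin 5 → F) : Prop := ∀ a, k (sgm a) ^ 9 * k a = 1

theorem sgm_sgm (a : Fin 5) : sgm (sgm a) = a := by revert a; decide

variable {k : Fin 5 → F} {z : F}

theorem Gk.ne (hk : Gk k) (a : Fin 5) : k a ≠ 0 := right_ne_zero_of_mul_eq_one (hk a)

theorem Gk.inv (hk : Gk k) (a : Fin 5) : k (sgm a) ^ 9 = (k a)⁻¹ := eq_inv_of_mul_eq_one_left (hk a)

theorem Gk.pow80 (hk : Gk k) (a : Fin 5) : k a ^ 80 = 1 := by
  have h1 := hk a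
  have h2 := hk (sgm a)
  rw [sgm_sgm] at h2
  have h3 : k (sgm a) = (k a ^ 9)⁻¹ := eq_inv_of_mul_eq_one_right h2
  rw [h3] at h1
  have h4 := hk.ne a
  field_simp at h1
  rw [← h1]

theorem Mh_gau (hk : Gk k) (a b : Fin 5) : Mh (gau z k q) a b = z ^ 9 * (k a)⁻¹ * (k b)⁻¹ * Mh q a b := by
  rw [Mh, Mh, gau, ← hk.inv a, ← hk.inv b]
  ring

theorem z_ne (hz : z ^ 10 = 1) : z ≠ 0 := by
  rintro rfl
  norm_num at hz

theorem Mh_mul_gau (hk : Gk k) (hz : z ^ 10 = 1) (a b : Fin 5) :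
    Mh (gau z k q) a b * gau z k q a b = Mh q a b * q a b := by
  have ha := hk.ne a
  have hb := hk.ne b
  rw [Mh_gau hk, gau]
  field_simp
  linear_combination (Mh q a b * q a b) * hz

theorem PFour.gauge (h : PFour g q) (hk : Gk k) (hz : z ^ 10 = 1) : PFour g (gau z k q) where
  sym := by
    funext a b
    rw [Matrix.transpose_apply, gau, gau]
    have : q b a = q a b := by conv_lhs => rw [← h.sym, Matrix.transpose_apply]
    rw [this]; ring
  pow81 a b := by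
    have e1 := hk.pow80 a
    have e2 := hk.pow80 b
    have e3 : z ^ 80 = 1 := by
      calc z ^ 80 = (z ^ 10) ^ 8 := by ring
        _ = 1 := by rw [hz, one_pow]
    rw [gau]
    calc (z * k a * k b * q a b) ^ 81 = z ^ 80 * k a ^ 80 * k b ^ 80 * (z * k a * k b) * q a b ^ 81 := by ring
      _ = z * k a * k b * q a b := by rw [e1, e2, e3, h.pow81]; ring
  herm := by
    have e : Mh (gau z k q) * gau z k q = 1 := by
      funext a b
      rw [Matrix.mul_apply]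
      have e1 : ∀ c, Mh (gau z k q) a c * gau z k q c b = (z ^ 10 * (k a)⁻¹ * k b) * (Mh q a c * q c b) := by
        intro c
        have hc := hk.ne c
        rw [Mh_gau hk, gau]
        field_simp
      simp only [e1]
      rw [← Finset.mul_sum, ← Matrix.mul_apply, h.herm, hz]
      by_cases hab : a = b
      · subst hab
        rw [Matrix.one_apply_eq, one_mul, mul_one, inv_mul_cancel₀ (hk.ne a)]
      · rw [Matrix.one_apply_ne hab, mul_zero]
    exact e
  trits := by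
    obtain ⟨n, h1, h2, h3, h4⟩ := h.trits
    refine ⟨n, h1, h2, h3, fun a b => ?_⟩
    rw [Mh_mul_gau hk hz, h4]

/-- the torus of the centraliser of `x, y`: `κ(l) = (l, 1, l⁻⁹, l⁻³⁶, l⁴)` -/
def kap (l : F) : Fin 5 → F := ![l, 1, l ^ 71, l ^ 44, l ^ 4]

theorem Gk_kap {l : F} (hl : l ^ 80 = 1) : Gk (kap l) := by
  intro a
  fin_cases a
  · change (l ^ 71) ^ 9 * l = 1
    calc (l ^ 71) ^ 9 * l = (l ^ 80) ^ 8 := by ring
      _ = 1 := by rw [hl, one_pow]
  · change (1 : F) ^ 9 * 1 = 1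
    ring
  · change l ^ 9 * l ^ 71 = 1
    rw [← pow_add, hl]
  · change (l ^ 4) ^ 9 * l ^ 44 = 1
    rw [← pow_mul, ← pow_add, hl]
  · change (l ^ 44) ^ 9 * l ^ 4 = 1
    calc (l ^ 44) ^ 9 * l ^ 4 = (l ^ 80) ^ 5 := by ring
      _ = 1 := by rw [hl, one_pow]

/-- the torus acting on the block `3, 4` -/
def tau (m : F) : Fin 5 → F := ![1, 1, 1, m, m ^ 71]

theorem Gk_tau {m : F} (hm : m ^ 80 = 1) : Gk (tau m) := by
  intro a
  fin_cases a
  · change (1 : F) ^ 9 * 1 = 1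
    ring
  · change (1 : F) ^ 9 * 1 = 1
    ring
  · change (1 : F) ^ 9 * 1 = 1
    ring
  · change (m ^ 71) ^ 9 * m = 1
    calc (m ^ 71) ^ 9 * m = (m ^ 80) ^ 8 := by ring
      _ = 1 := by rw [hm, one_pow]
  · change m ^ 9 * m ^ 71 = 1
    rw [← pow_add, hm]

/-- `K⁻¹ A K` -/
def cj (k : Fin 5 → F) (A : Mt F) : Mt F := fun a b => (k a)⁻¹ * k b * A a b

def kap1 (k : Fin 5 → F) : Fin 5 → F := fun a => k (2 * a) ^ 3

theorem Q2_gau (a b : Fin 5) : Q2 (gau z k q) a b = z ^ 3 * kap1 k a * kap1 k b * Q2 q a b := by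
  simp only [Q2, gau, kap1]
  ring

theorem Q2_Mh_gau (hk : Gk k) (a b : Fin 5) :
    Q2 (Mh (gau z k q)) a b = z ^ 27 * (kap1 k a)⁻¹ * (kap1 k b)⁻¹ * Q2 (Mh q) a b := by
  simp only [Q2, Mh_gau hk, kap1]
  ring

theorem TA_gau (hk : Gk k) (hz : z ^ 10 = 1) (D : Fin 5 → F) :
    -(Mh (gau z k q) * V0 D * gau z k q) = cj k (-(Mh q * V0 D * q)) := by
  funext a b
  rw [cj, Matrix.neg_apply, Matrix.neg_apply, Matrix.mul_apply, Matrix.mul_apply, mul_neg, Finset.mul_sum]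
  congr 1
  refine Finset.sum_congr rfl fun c _ => ?_
  have hc := mul_inv_cancel₀ (hk.ne c)
  rw [V0, Matrix.mul_diagonal, Matrix.mul_diagonal, Mh_gau hk, gau]
  linear_combination ((k a)⁻¹ * Mh q a c * (D (c - 2) - D c) * q c b * k b) * (k c * (k c)⁻¹ * hz + hc)

theorem TB_gau (hk : Gk k) (hz : z ^ 10 = 1) (D : Fin 5 → F) :
    -(Q2 (Mh (gau z k q)) * V1 D * Q2 (gau z k q)) = cj (kap1 k) (-(Q2 (Mh q) * V1 D * Q2 q)) := by
  funext a b
  rw [cj, Matrix.neg_apply, Matrix.neg_apply, Matrix.mul_apply, Matrix.mul_apply, mul_neg, Finset.mul_sum]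
  congr 1
  refine Finset.sum_congr rfl fun c _ => ?_
  have hc : kap1 k c * (kap1 k c)⁻¹ = 1 := mul_inv_cancel₀ (pow_ne_zero _ (hk.ne _))
  rw [V1, Matrix.mul_diagonal, Matrix.mul_diagonal, Q2_Mh_gau hk, Q2_gau]
  have e : z ^ 30 = 1 := by
    calc z ^ 30 = (z ^ 10) ^ 3 := by ring
      _ = 1 := by rw [hz, one_pow]
  linear_combination ((kap1 k a)⁻¹ * Q2 (Mh q) a c * (D c - D (c - 1)) * Q2 q c b * kap1 k b) *
    (kap1 k c * (kap1 k c)⁻¹ * e + hc)

/-- the compatibility of `κ` with the table of `x` -/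
structure Gx (k : Fin 5 → F) : Prop where
  e1 : ∀ a, (k a)⁻¹ * k (a + 1) = (kap1 k (a + 1))⁻¹ * kap1 k (a + 4)
  e4 : ∀ a, (k a)⁻¹ * k (a + 4) = (kap1 k (a + 3))⁻¹ * kap1 k a

theorem cj_diag (hk : ∀ a, k a ≠ 0) (A : Mt F) (a : Fin 5) : cj k A a a = A a a := by
  rw [cj, inv_mul_cancel₀ (hk a), one_mul]

theorem ne1 (a : Fin 5) : a + 1 ≠ a := by revert a; decide
theorem ne2 (a : Fin 5) : a + 2 ≠ a := by revert a; decide
theorem ne31 (a : Fin 5) : a + 3 ≠ a + 1 := by revert a; decide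
theorem ne32 (a : Fin 5) : a + 3 ≠ a + 2 := by revert a; decide
theorem ne42 (a : Fin 5) : a + 4 ≠ a + 2 := by revert a; decide
theorem ne43 (a : Fin 5) : a + 4 ≠ a + 3 := by revert a; decide

theorem XP0_cj (hk : Gk k) (hx : Gx k) (A B : Mt F) :
    XP0 g (cj k A) (cj (kap1 k) B) = cj k (XP0 g A B) := by
  have h1 : ∀ a, kap1 k a ≠ 0 := fun a => pow_ne_zero _ (hk.ne _)
  funext a b
  by_cases h : b = a
  · subst h
    rw [cj_diag hk.ne]
    simp only [XP0, if_true, cr5, cj_diag hk.ne, cj_diag h1]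
  rcases fin5_or a b h with rfl | rfl | rfl | rfl
  · have n1 : ¬ (a + 1 = a) := ne1 a
    have e := hx.e1 a
    simp only [XP0, cj, if_neg n1, if_true]
    rw [← e]; ring
  · have n1 : ¬ (a + 2 = a) := ne2 a
    have n2 : ¬ (a + 2 = a + 1) := ne21 a
    simp only [XP0, cj, if_neg n1, if_neg n2, if_true]
  · have n1 : ¬ (a + 3 = a) := ne30 a
    have n2 : ¬ (a + 3 = a + 1) := ne31 a
    have n3 : ¬ (a + 3 = a + 2) := ne32 a
    simp only [XP0, cj, if_neg n1, if_neg n2, if_neg n3, if_true, mul_zero]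
  · have e := hx.e4 a
    have n1 : ¬ (a + 4 = a) := ne40 a
    have n2 : ¬ (a + 4 = a + 1) := fun h => ne14 a h.symm
    have n3 : ¬ (a + 4 = a + 2) := ne42 a
    have n4 : ¬ (a + 4 = a + 3) := ne43 a
    simp only [XP0, cj, if_neg n1, if_neg n2, if_neg n3, if_neg n4]
    rw [← e]; ring

/-- exponents of `κ` -/
def ke : Fin 5 → ℕ := ![1, 0, 71, 44, 4]

theorem kap_eq (l : F) (a : Fin 5) : kap l a = l ^ ke a := by
  fin_cases a
  · exact (pow_one l).symm
  · exact (pow_zero l).symm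
  · rfl
  · rfl
  · rfl

theorem pow_mod80 {l : F} (hl : l ^ 80 = 1) {n m : ℕ} (h : n % 80 = m % 80) : l ^ n = l ^ m := by
  rw [← Nat.div_add_mod n 80, ← Nat.div_add_mod m 80, pow_add, pow_add, pow_mul, pow_mul, hl, one_pow, one_pow, h]

theorem ne_of_pow80 {l : F} (hl : l ^ 80 = 1) : l ≠ 0 := by
  rintro rfl
  norm_num at hl

theorem ke_e1 (a : Fin 5) : (ke (a + 1) + ke (2 * (a + 1)) * 3) % 80 = (ke (2 * (a + 4)) * 3 + ke a) % 80 := by
  revert a; decide

theorem ke_e4 (a : Fin 5) : (ke (a + 4) + ke (2 * (a + 3)) * 3) % 80 = (ke (2 * a) * 3 + ke a) % 80 := by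
  revert a; decide

theorem inv_mul_cross {x y u v : F} (hx : x ≠ 0) (hu : u ≠ 0) (e : y * u = v * x) : x⁻¹ * y = u⁻¹ * v := by
  field_simp
  linear_combination e

theorem Gx_kap {l : F} (hl : l ^ 80 = 1) : Gx (kap l) := by
  have hl0 : l ≠ 0 := ne_of_pow80 hl
  constructor
  · intro a
    simp only [kap1, kap_eq, ← pow_mul]
    refine inv_mul_cross (pow_ne_zero _ hl0) (pow_ne_zero _ hl0) ?_
    rw [← pow_add, ← pow_add]
    exact pow_mod80 hl (ke_e1 a)
  · intro a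
    simp only [kap1, kap_eq, ← pow_mul]
    refine inv_mul_cross (pow_ne_zero _ hl0) (pow_ne_zero _ hl0) ?_
    rw [← pow_add, ← pow_add]
    exact pow_mod80 hl (ke_e4 a)

theorem cj_sub (A B : Mt F) : cj k (A - B) = cj k A - cj k B := by
  funext a b
  simp only [cj, Matrix.sub_apply]
  ring

theorem cj_V0 (hk : ∀ a, k a ≠ 0) (D : Fin 5 → F) : cj k (V0 D) = V0 D := by
  funext a b
  by_cases hab : a = b
  · subst hab
    rw [cj_diag hk]
  · rw [cj, V0_off D hab, mul_zero]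

/-- `q M` symmetric is preserved -/
theorem symm_cj (hk : ∀ a, k a ≠ 0) {M : Mt F} (h : Mᵀ * q = q * M) : (cj k M)ᵀ * gau z k q = gau z k q * cj k M := by
  funext a b
  have e := congrFun (congrFun h a) b
  rw [Matrix.mul_apply, Matrix.mul_apply] at e ⊢
  have e1 : ∀ c, (cj k M)ᵀ a c * gau z k q c b = z * k a * k b * (Mᵀ a c * q c b) := by
    intro c
    have hc := mul_inv_cancel₀ (hk c)
    simp only [Matrix.transpose_apply, cj, gau]
    linear_combination (z * k a * k b * M c a * q c b) * hc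
  have e2 : ∀ c, gau z k q a c * cj k M c b = z * k a * k b * (q a c * M c b) := by
    intro c
    have hc := mul_inv_cancel₀ (hk c)
    simp only [cj, gau]
    linear_combination (z * k a * k b * q a c * M c b) * hc
  simp only [e1, e2, ← Finset.mul_sum, e]

/-- the matrix `pr (x T v) - v` of C3 -/
def CM (g : F) (q : Mt F) (D : Fin 5 → F) : Mt F :=
  XP0 g (-(Mh q * V0 D * q)) (-(Q2 (Mh q) * V1 D * Q2 q)) - V0 D

theorem CM_gau (hk : Gk k) (hx : Gx k) (hz : z ^ 10 = 1) (D : Fin 5 → F) : CM g (gau z k q) D = cj k (CM g q D) := by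
  rw [CM, CM, TA_gau hk hz, TB_gau hk hz, XP0_cj hk hx, cj_sub, cj_V0 hk.ne]

theorem _root_.Cfsg.Agent.H879.E83.PNine.gauge (h : PNine g q) (hk : Gk k) (hx : Gx k) (hz : z ^ 10 = 1) :
    PNine g (gau z k q) where
  sym := (h.four.gauge hk hz).sym
  pow81 := (h.four.gauge hk hz).pow81
  herm := (h.four.gauge hk hz).herm
  trits := (h.four.gauge hk hz).trits
  c3 D := by
    have e := CM_gau (g := g) (q := q) (D := D) hk hx hz
    rw [CM, CM] at e
    rw [e]
    exact symm_cj hk.ne (h.c3 D)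

theorem _root_.Cfsg.Agent.H879.E83.PNine.gauge_kap (h : PNine g q) {l : F} (hl : l ^ 80 = 1) (hz : z ^ 10 = 1) :
    PNine g (gau z (kap l) q) := h.gauge (Gk_kap hl) (Gx_kap hl) hz

end
end Cfsg.Agent.H780.P9
end

-- part: H780/P9/NForm
section
/-!
# S5925, box H: normal forms of the search under the gauge group (helper780)
-/

set_option autoImplicit false
set_option linter.style.longLine false

namespace Cfsg.Agent.H780.P9
open Matrix Cfsg.Agent.H879.E83

section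
variable {F : Type*} [Field F] {g : F} {q : Mt F}

theorem two_ne (h3 : (3 : F) = 0) : (2 : F) ≠ 0 := by
  intro h
  exact one_ne_zero (α := F) (by linear_combination h3 - h)

theorem g40 (hg : g ^ 4 = 1 - g) (h3 : (3 : F) = 0) : g ^ 40 = -1 := by
  linear_combination ((-1)*g^0 + (-1)*g^1 + (-1)*g^2 + (-1)*g^3 + (1)*g^4 + (-1)*g^6 + (1)*g^7 + (-1)*g^8 + (-1)*g^9 + (1)*g^10 + (-1)*g^11 + (1)*g^12 + (1)*g^14 + (1)*g^16 + (1)*g^17 + (-1)*g^18 + (-1)*g^19 + (1)*g^21 + (-1)*g^23 + (-1)*g^24 + (-1)*g^27 + (1)*g^28 + (1)*g^29 + (1)*g^30 + (1)*g^32 + (-1)*g^33 + (1)*g^36) * hg + ((1)*g^4 + (1)*g^7 + (-1)*g^8 + (1)*g^10 + (-1)*g^11 + (1)*g^12 + (-1)*g^18 + (1)*g^28 + (-1)*g^33) * h3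

theorem prim (hg : g ^ 4 = 1 - g) (h3 : (3 : F) = 0) : IsPrimitiveRoot g 80 := by
  rw [IsPrimitiveRoot.iff_orderOf]
  refine orderOf_eq_of_pow_and_pow_div_prime (by norm_num) (g80 hg h3) ?_
  intro p hp hd
  have hp' : p = 2 ∨ p = 5 := by
    have h1 : p ∣ 2 ^ 4 * 5 := by simpa using hd
    rcases (Nat.Prime.dvd_mul hp).1 h1 with h2 | h2
    · left; exact (Nat.prime_dvd_prime_iff_eq hp Nat.prime_two).1 (hp.dvd_of_dvd_pow h2)
    · right; exact (Nat.prime_dvd_prime_iff_eq hp Nat.prime_five).1 h2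
  rcases hp' with rfl | rfl
  · show g ^ 40 ≠ 1
    rw [g40 hg h3]
    intro h
    exact two_ne h3 (by linear_combination -h)
  · show g ^ 16 ≠ 1
    intro h
    have e := ch_sum hg h3 1 (by decide)
    have e1 : ∀ a : Fin 5, ch g 1 a = (g ^ 16) ^ (a : ℕ) := by
      intro a
      rw [ch, one_mul, pow_mul]
    simp only [e1, h, one_pow, Finset.sum_const, Finset.card_univ, Fintype.card_fin, nsmul_eq_mul, mul_one] at e
    push_cast at e
    exact two_ne h3 (by linear_combination e - h3)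

theorem exists_pow (hg : g ^ 4 = 1 - g) (h3 : (3 : F) = 0) {x : F} (hx : x ^ 81 = x) (h0 : x ≠ 0) : ∃ n < 80, x = g ^ n := by
  have h1 : x ^ 80 = 1 := by
    have e : x * x ^ 80 = x * 1 := by rw [mul_one, ← pow_succ']; exact hx
    exact mul_left_cancel₀ h0 e
  obtain ⟨n, hn, e⟩ := (prim hg h3).eq_pow_of_pow_eq_one h1
  exact ⟨n, hn, e.symm⟩

theorem pow80_of {x : F} (hx : x ^ 81 = x) (h0 : x ≠ 0) : x ^ 80 = 1 := by
  have e : x * x ^ 80 = x * 1 := by rw [mul_one, ← pow_succ']; exact hx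
  exact mul_left_cancel₀ h0 e

/-- every value of the norm has a normalised root -/
theorem exists_z (hg : g ^ 4 = 1 - g) (h3 : (3 : F) = 0) {x : F} (hx : x ^ 81 = x) (h0 : x ≠ 0) :
    ∃ z : F, z ^ 10 = 1 ∧ ∃ n < 8, z * x = g ^ n := by
  obtain ⟨n, hn, rfl⟩ := exists_pow hg h3 hx h0
  refine ⟨g ^ (80 - 8 * (n / 8)), ?_, n % 8, Nat.mod_lt _ (by norm_num), ?_⟩
  · rw [← pow_mul]
    have e : (80 - 8 * (n / 8)) * 10 = 80 * (10 - n / 8) := by omega
    rw [e, pow_mul, g80 hg h3, one_pow]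
  · rw [← pow_add]
    have e : 80 - 8 * (n / 8) + n = 80 + n % 8 := by omega
    rw [e, pow_add, g80 hg h3, one_mul]

/-- normalisation by `l` -/
theorem exists_l {x y : F} (hx : x ^ 81 = x) (hy : y ^ 81 = y) :
    ∃ l : F, l ^ 80 = 1 ∧ (l * x = 1 ∨ (l * x = 0 ∧ l ^ 71 * y = 1) ∨ (l * x = 0 ∧ l ^ 71 * y = 0)) := by
  by_cases h0 : x = 0
  · subst h0
    by_cases h1 : y = 0
    · subst h1
      exact ⟨1, one_pow _, Or.inr (Or.inr ⟨by ring, by ring⟩)⟩
    · have hy80 := pow80_of hy h1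
      -- `l ^ 71 * y = 1` : `l ^ 9 = y`, `l = y ^ 9`
      refine ⟨y ^ 9, ?_, Or.inr (Or.inl ⟨by ring, ?_⟩)⟩
      · calc (y ^ 9) ^ 80 = (y ^ 80) ^ 9 := by ring
          _ = 1 := by rw [hy80, one_pow]
      · calc (y ^ 9) ^ 71 * y = (y ^ 80) ^ 8 := by ring
          _ = 1 := by rw [hy80, one_pow]
  · have hx80 := pow80_of hx h0
    refine ⟨x ^ 79, ?_, Or.inl ?_⟩
    · calc (x ^ 79) ^ 80 = (x ^ 80) ^ 79 := by ring
        _ = 1 := by rw [hx80, one_pow]
    · rw [← pow_succ]; exact hx80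

theorem gau_apply (z : F) (k : Fin 5 → F) (q : Mt F) (a b : Fin 5) : gau z k q a b = z * k a * k b * q a b := rfl

/-- **first normal form** : up to `z κ(l) q κ(l)`,
`q11 ∈ {0, g^0, …, g^7}` and `(q01, q12) ∈ {(1,*), (0,1), (0,0)}` -/
theorem _root_.Cfsg.Agent.H879.E83.PNine.nf (h : PNine g q) (hg : g ^ 4 = 1 - g) (h3 : (3 : F) = 0) :
    ∃ z l : F, z ^ 10 = 1 ∧ l ^ 80 = 1 ∧ PNine g (gau z (kap l) q) ∧
      (gau z (kap l) q 1 1 = 0 ∨ ∃ n < 8, gau z (kap l) q 1 1 = g ^ n) ∧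
      (gau z (kap l) q 0 1 = 1 ∨ (gau z (kap l) q 0 1 = 0 ∧ gau z (kap l) q 1 2 = 1) ∨
        (gau z (kap l) q 0 1 = 0 ∧ gau z (kap l) q 1 2 = 0)) := by
  obtain ⟨z, hz, hz1⟩ : ∃ z : F, z ^ 10 = 1 ∧ (z * q 1 1 = 0 ∨ ∃ n < 8, z * q 1 1 = g ^ n) := by
    by_cases h0 : q 1 1 = 0
    · exact ⟨1, one_pow _, Or.inl (by rw [h0, mul_zero])⟩
    · obtain ⟨z, hz, hz1⟩ := exists_z hg h3 (h.pow81 1 1) h0
      exact ⟨z, hz, Or.inr hz1⟩
  have hz80 : z ^ 80 = 1 := by
    calc z ^ 80 = (z ^ 10) ^ 8 := by ring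
      _ = 1 := by rw [hz, one_pow]
  have p1 : ∀ a b, (z * q a b) ^ 81 = z * q a b := by
    intro a b
    calc (z * q a b) ^ 81 = z ^ 80 * z * q a b ^ 81 := by ring
      _ = z * q a b := by rw [hz80, h.pow81, one_mul]
  obtain ⟨l, hl, hl1⟩ := exists_l (p1 0 1) (p1 1 2)
  have e11 : gau z (kap l) q 1 1 = z * q 1 1 := by
    change z * 1 * 1 * q 1 1 = _; ring
  have e01 : gau z (kap l) q 0 1 = l * (z * q 0 1) := by
    change z * l * 1 * q 0 1 = _; ring
  have e12 : gau z (kap l) q 1 2 = l ^ 71 * (z * q 1 2) := by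
    change z * 1 * l ^ 71 * q 1 2 = _; ring
  refine ⟨z, l, hz, hl, h.gauge_kap hl hz, ?_, ?_⟩
  · rw [e11]; exact hz1
  · rw [e01, e12]; exact hl1

/-- **second normal form**: `(q13, q14)` by `τ(m)` -/
theorem PFour.nf_tau (h : PFour g q) : ∃ m : F, m ^ 80 = 1 ∧ PFour g (gau 1 (tau m) q) ∧
      (gau 1 (tau m) q 1 3 = 1 ∨ (gau 1 (tau m) q 1 3 = 0 ∧ gau 1 (tau m) q 1 4 = 1) ∨
        (gau 1 (tau m) q 1 3 = 0 ∧ gau 1 (tau m) q 1 4 = 0)) := by
  obtain ⟨m, hm, hm1⟩ := exists_l (h.pow81 1 3) (h.pow81 1 4)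
  have e13 : gau 1 (tau m) q 1 3 = m * q 1 3 := by
    change 1 * 1 * m * q 1 3 = _; ring
  have e14 : gau 1 (tau m) q 1 4 = m ^ 71 * q 1 4 := by
    change 1 * 1 * m ^ 71 * q 1 4 = _; ring
  refine ⟨m, hm, h.gauge (Gk_tau hm) (one_pow _), ?_⟩
  rw [e13, e14]; exact hm1

end
end Cfsg.Agent.H780.P9
end

-- part: H780/P9/CThree
section
/-!
# S5925, box H: the equations C3 entrywise (helper780)
-/

set_option autoImplicit false
set_option linter.style.longLine false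

namespace Cfsg.Agent.H780.P9
open Matrix Cfsg.Agent.H879.E83

section
variable {F : Type*} [Field F] {g : F} {q : Mt F}

/-- `-(Mh q * V0 D * q)` for `D = e_d` -/
def AA (q : Mt F) (d a b : Fin 5) : F := Mh q a d * q d b - Mh q a (d + 2) * q (d + 2) b

theorem V0_single (d a : Fin 5) : V0 (Pi.single d (1 : F)) a a = (if a = d + 2 then 1 else 0) - (if a = d then 1 else 0) := by
  have e : ∀ a d : Fin 5, (a - 2 = d) ↔ (a = d + 2) := by decide
  rw [V0, Matrix.diagonal_apply_eq, Pi.single_apply, Pi.single_apply]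
  simp only [e]

theorem V1_single (d a : Fin 5) : V1 (Pi.single d (1 : F)) a a = (if a = d then 1 else 0) - (if a = d + 1 then 1 else 0) := by
  have e : ∀ a d : Fin 5, (a - 1 = d) ↔ (a = d + 1) := by decide
  rw [V1, Matrix.diagonal_apply_eq, Pi.single_apply, Pi.single_apply]
  simp only [e]

theorem TA_single (q : Mt F) (d a b : Fin 5) : (-(Mh q * V0 (Pi.single d (1 : F)) * q)) a b = AA q d a b := by
  rw [Matrix.neg_apply, Matrix.mul_apply]
  have e1 : ∀ c, (Mh q * V0 (Pi.single d (1 : F))) a c * q c b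
      = (if c = d + 2 then Mh q a c * q c b else 0) - (if c = d then Mh q a c * q c b else 0) := by
    intro c
    have e2 : (Mh q * V0 (Pi.single d (1 : F))) a c = Mh q a c * V0 (Pi.single d (1 : F)) c c := by
      rw [V0, Matrix.mul_diagonal, Matrix.diagonal_apply_eq]
    rw [e2, V0_single]
    split_ifs <;> ring
  simp only [e1, Finset.sum_sub_distrib, Finset.sum_ite_eq', Finset.mem_univ, if_true, AA]
  ring

theorem two_mul_succ (d : Fin 5) : (2 : Fin 5) * (d + 1) = 2 * d + 2 := by revert d; decide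

theorem TB_single (h3 : (3 : F) = 0) (q : Mt F) (d a b : Fin 5) :
    (-(Q2 (Mh q) * V1 (Pi.single d (1 : F)) * Q2 q)) a b = -(Sv (2 * a) * Sv (2 * b) * AA q (2 * d) (2 * a) (2 * b) ^ 3) := by
  rw [Matrix.neg_apply, Matrix.mul_apply]
  have e1 : ∀ c, (Q2 (Mh q) * V1 (Pi.single d (1 : F))) a c * Q2 q c b
      = (if c = d then Q2 (Mh q) a c * Q2 q c b else 0) - (if c = d + 1 then Q2 (Mh q) a c * Q2 q c b else 0) := by
    intro c
    have e2 : (Q2 (Mh q) * V1 (Pi.single d (1 : F))) a c = Q2 (Mh q) a c * V1 (Pi.single d (1 : F)) c c := by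
      rw [V1, Matrix.mul_diagonal, Matrix.diagonal_apply_eq]
    rw [e2, V1_single]
    split_ifs <;> ring
  simp only [e1, Finset.sum_sub_distrib, Finset.sum_ite_eq', Finset.mem_univ, if_true]
  have e3 : (2 : Fin 5) * (d + 1) = 2 * d + 2 := two_mul_succ d
  have s1 : Sv (2 * d) * Sv (2 * d) = (1 : F) := Sv_sq _
  have s2 : Sv (2 * d + 2) * Sv (2 * d + 2) = (1 : F) := Sv_sq _
  have e4 : ∀ x y : F, (x - y) ^ 3 = x ^ 3 - y ^ 3 := fun x y => by
    linear_combination (x * y ^ 2 - x ^ 2 * y) * h3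
  rw [AA, e4]
  simp only [Q2, e3]
  linear_combination (-(Sv (2 * a) * Sv (2 * b) * Mh q (2 * a) (2 * d) ^ 3 * q (2 * d) (2 * b) ^ 3)) * s1
    + (Sv (2 * a) * Sv (2 * b) * Mh q (2 * a) (2 * d + 2) ^ 3 * q (2 * d + 2) (2 * b) ^ 3) * s2

/-- the matrix of C3 for `D = e_d` -/
def ZZ (g : F) (q : Mt F) (d : Fin 5) : Mt F := fun a b =>
  if b = a then (∑ c, k00 g (a - c) * AA q d c c) - (∑ c, k01 g (a - c) * AA q (2 * d) (2 * c) (2 * c) ^ 3)
      - ((if a = d + 2 then 1 else 0) - (if a = d then 1 else 0))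
  else if b = a + 1 then g ^ 50 * AA q d a (a + 1) - c1 g a * (Sv (2 * a + 2) * Sv (2 * a + 3)) * AA q (2 * d) (2 * a + 2) (2 * a + 3) ^ 3
  else if b = a + 2 then AA q d a (a + 2)
  else if b = a + 3 then 0
  else g ^ 70 * AA q d a (a + 4) - c4 g a * (Sv (2 * a + 1) * Sv (2 * a)) * AA q (2 * d) (2 * a + 1) (2 * a) ^ 3

theorem CM_single (h3 : (3 : F) = 0) (q : Mt F) (d : Fin 5) : CM g q (Pi.single d (1 : F)) = ZZ g q d := by
  funext a b
  have hA : (-(Mh q * V0 (Pi.single d (1 : F)) * q)) = fun a b => AA q d a b := by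
    funext a b; exact TA_single q d a b
  have hB : (-(Q2 (Mh q) * V1 (Pi.single d (1 : F)) * Q2 q)) = fun a b => -(Sv (2 * a) * Sv (2 * b) * AA q (2 * d) (2 * a) (2 * b) ^ 3) := by
    funext a b; exact TB_single h3 q d a b
  rw [CM, hA, hB, Matrix.sub_apply]
  have s1 : ∀ c : Fin 5, Sv c * Sv c = (1 : F) := Sv_sq
  by_cases h : b = a
  · subst h
    simp only [XP0, ZZ, if_true, cr5, V0_single]
    have e : ∀ c, k01 g (b - c) * -(Sv (2 * c) * Sv (2 * c) * AA q (2 * d) (2 * c) (2 * c) ^ 3)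
        = -(k01 g (b - c) * AA q (2 * d) (2 * c) (2 * c) ^ 3) := by
      intro c; rw [s1]; ring
    simp only [e, Finset.sum_neg_distrib]
    ring
  have hz : V0 (Pi.single d (1 : F)) a b = 0 := V0_off _ (Ne.symm h)
  rw [hz, sub_zero]
  rcases fin5_or a b h with rfl | rfl | rfl | rfl
  · have n1 : ¬ (a + 1 = a) := ne1 a
    have e1 : (2 : Fin 5) * (a + 1) = 2 * a + 2 := by clear hz n1 h; revert a; decide
    have e2 : (2 : Fin 5) * (a + 4) = 2 * a + 3 := by clear hz n1 h e1; revert a; decide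
    simp only [XP0, ZZ, if_neg n1, if_true, e1, e2]
    ring
  · have n1 : ¬ (a + 2 = a) := ne2 a
    have n2 : ¬ (a + 2 = a + 1) := ne21 a
    simp only [XP0, ZZ, if_neg n1, if_neg n2, if_true]
  · have n1 : ¬ (a + 3 = a) := ne30 a
    have n2 : ¬ (a + 3 = a + 1) := ne31 a
    have n3 : ¬ (a + 3 = a + 2) := ne32 a
    simp only [XP0, ZZ, if_neg n1, if_neg n2, if_neg n3, if_true]
  · have n1 : ¬ (a + 4 = a) := ne40 a
    have n2 : ¬ (a + 4 = a + 1) := fun h => ne14 a h.symm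
    have n3 : ¬ (a + 4 = a + 2) := ne42 a
    have n4 : ¬ (a + 4 = a + 3) := ne43 a
    have e1 : (2 : Fin 5) * (a + 3) = 2 * a + 1 := by clear hz n1 h n2 n3 n4; revert a; decide
    simp only [XP0, ZZ, if_neg n1, if_neg n2, if_neg n3, if_neg n4, e1]
    ring

/-- **C3 entrywise**, `D = e_d` -/
theorem _root_.Cfsg.Agent.H879.E83.PNine.c3s (h : PNine g q) (h3 : (3 : F) = 0) (d a c : Fin 5) :
    ∑ b, q a b * ZZ g q d b c = ∑ b, q c b * ZZ g q d b a := by
  have e := h.c3 (Pi.single d (1 : F))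
  have e1 := CM_single (g := g) h3 q d
  rw [CM] at e1
  rw [e1] at e
  have e2 := congrFun (congrFun e c) a
  rw [Matrix.mul_apply, Matrix.mul_apply] at e2
  have hs : ∀ x y, q x y = q y x := fun x y => by
    conv_lhs => rw [← h.sym, Matrix.transpose_apply]
  have e3 : ∑ b, q a b * ZZ g q d b c = ∑ b, (ZZ g q d)ᵀ c b * q b a := by
    refine Finset.sum_congr rfl fun b _ => ?_
    rw [Matrix.transpose_apply, hs a b, mul_comm]
  rw [e3, e2]

/-- helper947's form of `A` for `d = 0` -/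
theorem AA_zero (q : Mt F) (i j : Fin 5) :
    AA q 0 i j = Jv i * (q (sgm i) 2 ^ 9 * q 0 j - q (sgm i) 0 ^ 9 * q 2 j) := by
  have e0 : sgm (0 : Fin 5) = 2 := by decide
  have e2 : sgm (0 + 2 : Fin 5) = 0 := by decide
  have j0 : Jv (0 : Fin 5) = (1 : F) := rfl
  have j2 : Jv (0 + 2 : Fin 5) = (1 : F) := rfl
  rw [AA, Mh, Mh, e0, e2, j0, j2]
  simp only [zero_add]
  ring

/-- rank one pieces: `RR q d a b = J a J d (q (σ a) (σ d))^9 q d b` -/
def RR (q : Mt F) (d a b : Fin 5) : F := Mh q a d * q d b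

/-- `A`, general `D`: `w0 c = D (c - 2) - D c` -/
def AG (q : Mt F) (D : Fin 5 → F) (a b : Fin 5) : F := -∑ c, (D (c - 2) - D c) * RR q c a b

/-- `B`, general `D`, in the own indices of `W₁` (`(3a, 3b)`), signs removed -/
def BG (q : Mt F) (D : Fin 5 → F) (a b : Fin 5) : F := -∑ c, (D (3 * c) - D (3 * c - 1)) * RR q c a b ^ 3

theorem TA_gen (q : Mt F) (D : Fin 5 → F) (a b : Fin 5) : (-(Mh q * V0 D * q)) a b = AG q D a b := by
  rw [Matrix.neg_apply, Matrix.mul_apply, AG]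
  congr 1
  refine Finset.sum_congr rfl fun c _ => ?_
  rw [V0, Matrix.mul_diagonal, RR]
  ring

theorem TB_gen (q : Mt F) (D : Fin 5 → F) (a b : Fin 5) :
    (-(Q2 (Mh q) * V1 D * Q2 q)) a b = Sv (2 * a) * Sv (2 * b) * BG q D (2 * a) (2 * b) := by
  rw [Matrix.neg_apply, Matrix.mul_apply, BG, mul_neg, Finset.mul_sum]
  congr 1
  have bij : Function.Bijective (fun c : Fin 5 => 3 * c) := by
    rw [Function.Bijective, Function.Injective, Function.Surjective]; decide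
  rw [← Fintype.sum_bijective _ bij (fun c => (Q2 (Mh q) * V1 D) a (3 * c) * Q2 q (3 * c) b) _ fun c => rfl]
  refine Finset.sum_congr rfl fun c _ => ?_
  have e : (2 : Fin 5) * (3 * c) = c := by revert c; decide
  have s1 : Sv c * Sv c = (1 : F) := Sv_sq c
  rw [V1, Matrix.mul_diagonal]
  simp only [Q2, e, RR]
  linear_combination (Sv (2 * a) * Sv (2 * b) * Mh q (2 * a) c ^ 3 * q c (2 * b) ^ 3 * (D (3 * c) - D (3 * c - 1))) * s1

/-- the matrix of C3 for general `D` -/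
def ZG (g : F) (q : Mt F) (D : Fin 5 → F) : Mt F := fun a b =>
  if b = a then (∑ c, k00 g (a - c) * AG q D c c) + (∑ c, k01 g (a - c) * BG q D (2 * c) (2 * c)) - (D (a - 2) - D a)
  else if b = a + 1 then g ^ 50 * AG q D a (a + 1) + c1 g a * (Sv (2 * a + 2) * Sv (2 * a + 3)) * BG q D (2 * a + 2) (2 * a + 3)
  else if b = a + 2 then AG q D a (a + 2)
  else if b = a + 3 then 0
  else g ^ 70 * AG q D a (a + 4) + c4 g a * (Sv (2 * a + 1) * Sv (2 * a)) * BG q D (2 * a + 1) (2 * a)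

theorem CM_gen (q : Mt F) (D : Fin 5 → F) : CM g q D = ZG g q D := by
  funext a b
  have hA : (-(Mh q * V0 D * q)) = fun a b => AG q D a b := by
    funext a b; exact TA_gen q D a b
  have hB : (-(Q2 (Mh q) * V1 D * Q2 q)) = fun a b => Sv (2 * a) * Sv (2 * b) * BG q D (2 * a) (2 * b) := by
    funext a b; exact TB_gen q D a b
  rw [CM, hA, hB, Matrix.sub_apply]
  have s1 : ∀ c : Fin 5, Sv c * Sv c = (1 : F) := Sv_sq
  by_cases h : b = a
  · subst h
    simp only [XP0, ZG, if_true, cr5]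
    have e : ∀ c, k01 g (b - c) * (Sv (2 * c) * Sv (2 * c) * BG q D (2 * c) (2 * c))
        = k01 g (b - c) * BG q D (2 * c) (2 * c) := by
      intro c; rw [s1]; ring
    simp only [e]
    rw [V0, Matrix.diagonal_apply_eq]
  have hz : V0 D a b = 0 := V0_off _ (Ne.symm h)
  rw [hz, sub_zero]
  rcases fin5_or a b h with rfl | rfl | rfl | rfl
  · have n1 : ¬ (a + 1 = a) := ne1 a
    have e1 : (2 : Fin 5) * (a + 1) = 2 * a + 2 := by clear hz n1 h; revert a; decide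
    have e2 : (2 : Fin 5) * (a + 4) = 2 * a + 3 := by clear hz n1 h e1; revert a; decide
    simp only [XP0, ZG, if_neg n1, if_true, e1, e2]
    ring
  · have n1 : ¬ (a + 2 = a) := ne2 a
    have n2 : ¬ (a + 2 = a + 1) := ne21 a
    simp only [XP0, ZG, if_neg n1, if_neg n2, if_true]
  · have n1 : ¬ (a + 3 = a) := ne30 a
    have n2 : ¬ (a + 3 = a + 1) := ne31 a
    have n3 : ¬ (a + 3 = a + 2) := ne32 a
    simp only [XP0, ZG, if_neg n1, if_neg n2, if_neg n3, if_true]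
  · have n1 : ¬ (a + 4 = a) := ne40 a
    have n2 : ¬ (a + 4 = a + 1) := fun h => ne14 a h.symm
    have n3 : ¬ (a + 4 = a + 2) := ne42 a
    have n4 : ¬ (a + 4 = a + 3) := ne43 a
    have e1 : (2 : Fin 5) * (a + 3) = 2 * a + 1 := by clear hz n1 h n2 n3 n4; revert a; decide
    simp only [XP0, ZG, if_neg n1, if_neg n2, if_neg n3, if_neg n4, e1]
    ring

/-- **C3 entrywise**, general `D` -/
theorem _root_.Cfsg.Agent.H879.E83.PNine.c3g (h : PNine g q) (D : Fin 5 → F) (a c : Fin 5) :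
    ∑ b, q a b * ZG g q D b c = ∑ b, q c b * ZG g q D b a := by
  have e := h.c3 D
  have e1 := CM_gen (g := g) q D
  rw [CM] at e1
  rw [e1] at e
  have e2 := congrFun (congrFun e c) a
  rw [Matrix.mul_apply, Matrix.mul_apply] at e2
  have hs : ∀ x y, q x y = q y x := fun x y => by
    conv_lhs => rw [← h.sym, Matrix.transpose_apply]
  have e3 : ∑ b, q a b * ZG g q D b c = ∑ b, (ZG g q D)ᵀ c b * q b a := by
    refine Finset.sum_congr rfl fun b _ => ?_
    rw [Matrix.transpose_apply, hs a b, mul_comm]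
  rw [e3, e2]

end
end Cfsg.Agent.H780.P9
end

-- part: H780/P9/Def
section
/-!
# S5925, box H: names for helper728's plan language (helper780)
-/

set_option autoImplicit false

namespace Cfsg.Agent.H780.P9.PM
export Cfsg.Agent.H728.PM (Ex Plan)
end Cfsg.Agent.H780.P9.PM

namespace Cfsg.Agent.H780.P9.PM.Ex
export Cfsg.Agent.H728.PM.Ex (k v pw zero add sub neg mul fr eval)
end Cfsg.Agent.H780.P9.PM.Ex

namespace Cfsg.Agent.H780.P9.PM.Plan
export Cfsg.Agent.H728.PM.Plan (kf kfl ksp alt or ex exn df fl sel leaf)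
end Cfsg.Agent.H780.P9.PM.Plan

namespace Cfsg.Agent.H780.P9

abbrev Ex : Type := Cfsg.Agent.H728.PM.Ex
abbrev Plan : Type := Cfsg.Agent.H728.PM.Plan

/-- `WP`, goal first -/
abbrev WP {F : Type*} [Field F] (g : F) (G : Prop) (p : Plan) (ks ls : List F) : Prop :=
  Cfsg.Agent.H728.PM.Plan.WP g p ks ls G

end Cfsg.Agent.H780.P9
end

-- part: H780/P9/PlanD
section
/-!
# S5925, box H: the names of helper136's plan data (helper780)
-/

set_option autoImplicit false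
set_option linter.style.longLine false

namespace Cfsg.Agent.H780.P9

export Cfsg.Agent.H136.P9 (plD3 plD2 plD1 plS3 plS2 plS2i plS2j plAT plAlpha plB1b plBeta1 plB2b plBeta2 plAT0 plAlpha0 plB1b0 plBeta10 plB2b0 plBeta20 plB3c plBeta3 plZ0c plZ0b plZ0d plZ0e plZ0 plTa plLa plTb1 plLb1 plTb2 plLb2 plTb3 plLb3 plTa0 plLa0 plTb10 plLb10 plTb20 plLb20 plTz plLz plCa plCb1 plCb2 plCb3 plBr plCa0 plCb10 plCb20 plCz plBr0 plR1 plan)

end Cfsg.Agent.H780.P9
end

-- part: H861/P9/Vec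
section
/-!
# S5925, box H, piece G1: vectors over `F_3` and elements of `F_81` (helper861)

`tg g v = ∑ v_i g^i` (`i < 4`); `pw n` : the coordinates of `g ^ n`.
-/

set_option autoImplicit false

namespace Cfsg.Agent.H861.P9

open Cfsg.Agent.H516.BS (io)

/-- multiplication by `g` on coordinates -/
def step (v : Fin 4 → ZMod 3) : Fin 4 → ZMod 3 := ![v 3, v 0 - v 3, v 1, v 2]

/-- the coordinates of `g ^ n` -/
def pw : ℕ → Fin 4 → ZMod 3
  | 0 => ![1, 0, 0, 0]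
  | n + 1 => step (pw n)

variable {F : Type*} [Field F] [CharP F 3]

/-- the element with given coordinates -/
noncomputable def tg (g : F) : (Fin 4 → ZMod 3) →+ F where
  toFun v := io F (v 0) + io F (v 1) * g + io F (v 2) * g ^ 2 + io F (v 3) * g ^ 3
  map_zero' := by simp
  map_add' v w := by simp only [Pi.add_apply, map_add]; ring

theorem tg_apply (g : F) (v : Fin 4 → ZMod 3) :
    tg g v = io F (v 0) + io F (v 1) * g + io F (v 2) * g ^ 2 + io F (v 3) * g ^ 3 := rfl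

theorem tg_smul (g : F) (c : ZMod 3) (v : Fin 4 → ZMod 3) : tg g (fun i => c * v i) = io F c * tg g v := by
  rw [tg_apply, tg_apply]
  simp only [map_mul]
  ring

theorem tg_step {g : F} (hg : g ^ 4 = 1 - g) (v : Fin 4 → ZMod 3) : tg g (step v) = g * tg g v := by
  rw [tg_apply, tg_apply]
  simp only [step, Matrix.cons_val, map_sub]
  linear_combination (-(io F (v 3))) * hg

theorem tg_pw {g : F} (hg : g ^ 4 = 1 - g) (n : ℕ) : tg g (pw n) = g ^ n := by
  induction n with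
  | zero => rw [tg_apply]; simp [pw]
  | succ n ih => rw [pw, tg_step hg, ih, pow_succ']

/-! ### linear forms in `n` values -/

/-- the value of a linear form with constant `c` and coefficients `f` -/
noncomputable def lf {n : ℕ} (g : F) (x : Fin n → ZMod 3) (c : Fin 4 → ZMod 3) (f : Fin n → Fin 4 → ZMod 3) : F :=
  tg g c + ∑ k, io F (x k) * tg g (f k)

theorem lf_congr {n : ℕ} (g : F) (x : Fin n → ZMod 3) {c c' : Fin 4 → ZMod 3} {f f' : Fin n → Fin 4 → ZMod 3}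
    (hc : c = c') (hf : ∀ k, f k = f' k) : lf g x c f = lf g x c' f' := by
  rw [hc, funext hf]

/-- substitution `t = M x` in a linear form -/
theorem lf_subst {n m : ℕ} (g : F) (x : Fin n → ZMod 3) (M : Fin m → Fin n → ZMod 3) (c : Fin 4 → ZMod 3)
    (f : Fin m → Fin 4 → ZMod 3) :
    lf g (fun i => ∑ k, M i k * x k) c f = lf g x c (fun k j => ∑ i, M i k * f i j) := by
  unfold lf
  congr 1
  have h1 : ∀ i, io F (∑ k, M i k * x k) * tg g (f i) = ∑ k, io F (x k) * tg g (fun j => M i k * f i j) := by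
    intro i
    rw [map_sum, Finset.sum_mul]
    refine Finset.sum_congr rfl fun k _ => ?_
    rw [tg_smul, map_mul]
    ring
  rw [Finset.sum_congr rfl fun i _ => h1 i, Finset.sum_comm]
  refine Finset.sum_congr rfl fun k _ => ?_
  rw [← Finset.mul_sum, ← map_sum]
  congr 2
  funext j
  rw [Finset.sum_apply]

theorem io_cases (c : ZMod 3) : io F c = 0 ∨ io F c = 1 ∨ io F c = 2 := by
  have key : ∀ c : ZMod 3, c = 0 ∨ c = 1 ∨ c = 2 := by decide
  rcases key c with rfl | rfl | rfl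
  · exact Or.inl (map_zero _)
  · exact Or.inr (Or.inl (map_one _))
  · refine Or.inr (Or.inr ?_)
    rw [map_ofNat]

theorem io_val (c : ZMod 3) : ((c.val : ℕ) : F) = io F c := by
  have key : ∀ c : ZMod 3, c = 0 ∨ c = 1 ∨ c = 2 := by decide
  rcases key c with rfl | rfl | rfl
  · rw [map_zero]; simp
  · rw [map_one]; simp [show (1 : ZMod 3).val = 1 from rfl]
  · rw [map_ofNat, show (2 : ZMod 3).val = 2 from rfl]; rfl

end Cfsg.Agent.H861.P9
end

-- part: H861/P9/PForm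
section
/-!
# S5925, box H, piece G1: the products `P a b = Mh q a b * q a b` in ten ternary parameters (helper861, data of
# helper947 and helper879)
-/

set_option autoImplicit false

namespace Cfsg.Agent.H861.P9

open Cfsg.Agent.H879.E83
open Cfsg.Agent.H516.BS (io)

/-- the codes `c₀ + 3 c₁ + 9 c₂ + 27 c₃` of `g ^ n`, `n < 80` -/
def PL : List ℕ := [1, 3, 9, 27, 7, 21, 63, 32, 13, 39, 43, 46, 55, 8, 24, 72, 59, 11, 33, 25, 75, 68, 38, 31, 10, 30, 16, 48, 70, 53, 76, 71, 47, 58, 17, 51, 79, 80, 74, 56, 2, 6, 18, 54, 5, 15, 45, 61, 26, 78, 77, 65, 29, 4, 12, 36, 34, 19, 57, 14, 42, 52, 73, 62, 20, 60, 23, 69, 50, 67, 44, 49, 64, 35, 22, 66, 41, 40, 37, 28]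

/-- the coordinates of `g ^ n` -/
def cd (n : ℕ) : Fin 4 → ZMod 3 := fun i => ((PL.getD (n % 80) 0 / 3 ^ i.val % 3 : ℕ) : ZMod 3)

theorem cd_mod (n : ℕ) : cd (n % 80) = cd n := by
  unfold cd
  rw [Nat.mod_mod]

private noncomputable def _root_.Cfsg.Agent.LsF.f58b439_0 : {f // @Cfsg.Agent.H861.P9.cd = f} := ⟨_, by first | (delta Cfsg.Agent.H861.P9.cd; rewrite [Cfsg.Agent.LsF.ndiv_pat, Cfsg.Agent.LsF.nmod_pat, Cfsg.Agent.LsF.npow_pat, Cfsg.Agent.LsF.zcast_pat, Cfsg.Agent.LsF.getD_eq]; exact rfl) | exact rfl⟩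
private noncomputable def _root_.Cfsg.Agent.LsF.f58b439_1 : {f // @Cfsg.Agent.H861.P9.step = f} := ⟨_, by first | (delta Cfsg.Agent.H861.P9.step; rewrite [Cfsg.Agent.LsF.zsub_pat, Cfsg.Agent.LsF.vecCons_eq]; exact rfl) | exact rfl⟩
theorem cd_step : ∀ n < 80, cd (n + 1) = step (cd n) := by (refine of_decide_eq_true ?_; (try (rewrite [Cfsg.Agent.LsF.dPiF_pat, Cfsg.Agent.LsF.f58b439_0.2, Cfsg.Agent.LsF.f58b439_1.2, Cfsg.Agent.LsF.nadd_pat, Cfsg.Agent.LsF.zdecEq_eq, Cfsg.Agent.LsF.dBallLT_eq, Cfsg.Agent.LsF.decide_eq])); decide +kernel)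

theorem cd_zero : cd 0 = pw 0 := by decide +kernel

theorem cd_succ (n : ℕ) : cd (n + 1) = step (cd n) := by
  have h1 : cd (n + 1) = cd (n % 80 + 1) := by
    rw [← cd_mod (n + 1), ← cd_mod (n % 80 + 1)]
    congr 1
    omega
  rw [h1, cd_step _ (Nat.mod_lt _ (by norm_num)), cd_mod]

theorem cd_eq (n : ℕ) : cd n = pw n := by
  induction n with
  | zero => exact cd_zero
  | succ n ih => rw [cd_succ, ih, pw]

/-- the representatives of the pairs `(j, l)` -/
def rj : Fin 10 → Fin 5 := ![1, 2, 1, 1, 1, 2, 2, 3, 3, 4]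
def rl : Fin 10 → Fin 5 := ![1, 2, 2, 3, 4, 1, 3, 1, 2, 1]

/-- the coefficients of `n j l` -/
def A (j l : Fin 5) (k : Fin 10) : ZMod 3 :=
  if (j = rj k ∧ l = rl k) ∨ (-l = rj k ∧ -j = rl k) then 1 else 0

theorem A_cases : ∀ j l : Fin 5, ((j = 0 ∨ l = 0) ∧ ∀ k, A j l k = 0) ∨
    ∃ k, (∀ k', A j l k' = if k' = k then 1 else 0) ∧ ((j = rj k ∧ l = rl k) ∨ (-l = rj k ∧ -j = rl k)) := by
  decide +kernel

/-- the exponents -/
def NN (j l a b : Fin 5) : ℕ := eE j l + 16 * (l * a).val + 16 * (-j * b).val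

/-- the coefficients of `P a b` -/
def cf (a b : Fin 5) (k : Fin 10) : Fin 4 → ZMod 3 := fun i => -∑ j, ∑ l, A j l k * cd (NN j l a b) i

/-- the constant -/
def c0 (a b : Fin 5) : Fin 4 → ZMod 3 := if a = b then 0 else cd 0

section
variable {F : Type*} [Field F] [CharP F 3] {g : F}

theorem tg_cd (hg : g ^ 4 = 1 - g) (n : ℕ) : tg g (cd n) = g ^ n := by rw [cd_eq, tg_pw hg]

theorem n_eq {n : Fin 5 → Fin 5 → ZMod 3} (h1 : ∀ l, n 0 l = 0) (h2 : ∀ j, n j 0 = 0)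
    (h3 : ∀ j l, n (-l) (-j) = n j l) (j l : Fin 5) : n j l = ∑ k, A j l k * n (rj k) (rl k) := by
  rcases A_cases j l with ⟨h, hA⟩ | ⟨k, hA, h⟩
  · rw [Finset.sum_eq_zero fun k _ => by rw [hA, zero_mul]]
    rcases h with rfl | rfl
    · exact h1 l
    · exact h2 j
  · rw [Finset.sum_eq_single k (fun k' _ hk => by rw [hA, if_neg hk, zero_mul]) (fun hk => absurd (Finset.mem_univ _) hk),
      hA, if_pos rfl, one_mul]
    rcases h with ⟨rfl, rfl⟩ | ⟨e1, e2⟩
    · rfl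
    · rw [← e1, ← e2, h3]

theorem P_lf (hg : g ^ 4 = 1 - g) {n : Fin 5 → Fin 5 → ZMod 3} (h1 : ∀ l, n 0 l = 0) (h2 : ∀ j, n j 0 = 0)
    (h3 : ∀ j l, n (-l) (-j) = n j l) (a b : Fin 5) :
    (if a = b then 0 else 1) - ∑ j, ∑ l, ((n j l).val : F) * g ^ (eE j l) * ch g l a * ch g (-j) b =
      lf g (fun k => n (rj k) (rl k)) (c0 a b) (cf a b) := by
  unfold lf
  rw [sub_eq_add_neg]
  congr 1
  · unfold c0
    split_ifs
    · rw [map_zero]
    · rw [tg_cd hg, pow_zero]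
  · have e1 : ∀ j l, ((n j l).val : F) * g ^ (eE j l) * ch g l a * ch g (-j) b =
        ∑ k, io F (n (rj k) (rl k)) * tg g (fun i => A j l k * cd (NN j l a b) i) := by
      intro j l
      have e2 : g ^ (eE j l) * ch g l a * ch g (-j) b = g ^ NN j l a b := by
        unfold NN ch
        rw [pow_add, pow_add]
      rw [mul_assoc, mul_assoc, ← mul_assoc (g ^ (eE j l)), e2, io_val, n_eq h1 h2 h3 j l, map_sum, Finset.sum_mul]
      refine Finset.sum_congr rfl fun k _ => ?_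
      rw [map_mul, tg_smul, tg_cd hg]
      ring
    have e3 : ∀ k, tg g (cf a b k) = -∑ j, ∑ l, tg g (fun i => A j l k * cd (NN j l a b) i) := by
      intro k
      have e4 : cf a b k = -∑ j, ∑ l, (fun i => A j l k * cd (NN j l a b) i) := by
        funext i
        simp only [cf, Pi.neg_apply, Finset.sum_apply]
      rw [e4, map_neg, map_sum]
      simp only [map_sum]
    simp only [e1, e3]
    rw [← Finset.sum_neg_distrib]
    simp only [mul_neg, Finset.mul_sum]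
    rw [Finset.sum_neg_distrib, Finset.sum_neg_distrib]
    congr 1
    calc ∑ j, ∑ l, ∑ k, io F (n (rj k) (rl k)) * tg g (fun i => A j l k * cd (NN j l a b) i)
        = ∑ j, ∑ k, ∑ l, io F (n (rj k) (rl k)) * tg g (fun i => A j l k * cd (NN j l a b) i) :=
          Finset.sum_congr rfl fun j _ => Finset.sum_comm
      _ = _ := Finset.sum_comm

end

/-! ### the tables -/

/-- the substitution (helper947) -/
def MT : Fin 10 → Fin 10 → ZMod 3 := ![![0, 0, 1, 1, 0, 2, 0, 2, 0, 0], ![1, 2, 0, 1, 0, 0, 0, 1, 2, 2], ![2, 1, 2, 2, 2, 2, 2, 2, 0, 2], ![2, 1, 2, 0, 1, 2, 0, 0, 1, 0], ![1, 1, 1, 1, 1, 2, 1, 2, 2, 1], ![0, 0, 2, 0, 0, 2, 2, 0, 2, 0], ![0, 0, 1, 2, 1, 1, 1, 2, 1, 2], ![0, 0, 2, 1, 1, 1, 2, 2, 1, 1], ![1, 1, 0, 0, 0, 0, 0, 0, 0, 0], ![1, 2, 0, 0, 0, 2, 0, 1, 2, 2]]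

/-- exponents, 80 = coefficient zero -/
def CE : Fin 9 → Fin 10 → ℕ := ![![0, 1, 2, 3, 80, 80, 80, 80, 80, 80], ![80, 80, 80, 80, 0, 25, 55, 80, 80, 80], ![0, 20, 20, 60, 0, 80, 80, 80, 80, 80], ![80, 80, 80, 80, 0, 80, 80, 20, 80, 80], ![80, 18, 43, 54, 0, 80, 80, 60, 80, 80], ![80, 80, 80, 80, 80, 45, 25, 20, 0, 80], ![40, 43, 46, 49, 0, 5, 65, 60, 40, 80], ![0, 43, 46, 55, 80, 42, 3, 80, 0, 20], ![80, 20, 20, 20, 0, 20, 20, 80, 40, 60]]

def ea : Fin 9 → Fin 5 := ![0, 1, 1, 0, 0, 0, 0, 3, 3]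
def eb : Fin 9 → Fin 5 := ![1, 3, 1, 2, 0, 3, 4, 3, 4]

/-- the coordinates of a coefficient -/
def ce (e : ℕ) : Fin 4 → ZMod 3 := if e = 80 then 0 else cd e

private noncomputable def _root_.Cfsg.Agent.LsF.f58b439_5 : {f // @Cfsg.Agent.H879.E83.eE = f} := ⟨_, by first | (delta Cfsg.Agent.H879.E83.eE; rewrite [Cfsg.Agent.LsF.vecCons_eq]; exact rfl) | exact rfl⟩
private noncomputable def _root_.Cfsg.Agent.LsF.f58b439_6 : {f // @Cfsg.Agent.H861.P9.NN = f} := ⟨_, by first | (delta Cfsg.Agent.H861.P9.NN; rewrite [Cfsg.Agent.LsF.f58b439_5.2, Cfsg.Agent.LsF.nadd_pat, Cfsg.Agent.LsF.nmul_pat, Cfsg.Agent.LsF.fmul_pat]; exact rfl) | exact rfl⟩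
private noncomputable def _root_.Cfsg.Agent.LsF.f58b439_7 : {f // @Cfsg.Agent.H861.P9.cf = f} := ⟨_, by first | (delta Cfsg.Agent.H861.P9.cf; rewrite [Cfsg.Agent.LsF.sumF_pat, Cfsg.Agent.LsF.f58b439_0.2, Cfsg.Agent.LsF.f58b439_6.2, Cfsg.Agent.LsF.zadd_pat, Cfsg.Agent.LsF.zmul_pat, Cfsg.Agent.LsF.zneg_pat, Cfsg.Agent.LsF.zACM_pat]; exact rfl) | exact rfl⟩
private noncomputable def _root_.Cfsg.Agent.LsF.f58b439_8 : {f // @Cfsg.Agent.H861.P9.ea = f} := ⟨_, by first | (delta Cfsg.Agent.H861.P9.ea; rewrite [Cfsg.Agent.LsF.vecCons_eq]; exact rfl) | exact rfl⟩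
private noncomputable def _root_.Cfsg.Agent.LsF.f58b439_9 : {f // @Cfsg.Agent.H861.P9.eb = f} := ⟨_, by first | (delta Cfsg.Agent.H861.P9.eb; rewrite [Cfsg.Agent.LsF.vecCons_eq]; exact rfl) | exact rfl⟩
private noncomputable def _root_.Cfsg.Agent.LsF.f58b439_10 : {f // @Cfsg.Agent.H861.P9.MT = f} := ⟨_, by first | (delta Cfsg.Agent.H861.P9.MT; rewrite [Cfsg.Agent.LsF.vecCons_eq]; exact rfl) | exact rfl⟩
private noncomputable def _root_.Cfsg.Agent.LsF.f58b439_11 : {f // @Cfsg.Agent.H861.P9.ce = f} := ⟨_, by first | (delta Cfsg.Agent.H861.P9.ce; rewrite [Cfsg.Agent.LsF.f58b439_0.2, Cfsg.Agent.LsF.instDecEq_eq, Cfsg.Agent.LsF.ite_eq]; exact rfl) | exact rfl⟩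
private noncomputable def _root_.Cfsg.Agent.LsF.f58b439_12 : {f // @Cfsg.Agent.H861.P9.CE = f} := ⟨_, by first | (delta Cfsg.Agent.H861.P9.CE; rewrite [Cfsg.Agent.LsF.vecCons_eq]; exact rfl) | exact rfl⟩
theorem chkT : ∀ (m : Fin 9) (k : Fin 10) (j : Fin 4), cf (ea m) (eb m) k j = ∑ i, MT i k * ce (CE m i) j := by
  (refine of_decide_eq_true ?_; (try (rewrite [Cfsg.Agent.LsF.sumF_pat, Cfsg.Agent.LsF.f58b439_7.2, Cfsg.Agent.LsF.f58b439_8.2, Cfsg.Agent.LsF.f58b439_9.2, Cfsg.Agent.LsF.f58b439_10.2, Cfsg.Agent.LsF.f58b439_11.2, Cfsg.Agent.LsF.f58b439_12.2, Cfsg.Agent.LsF.zadd_pat, Cfsg.Agent.LsF.zmul_pat, Cfsg.Agent.LsF.zdecEq_eq, Cfsg.Agent.LsF.zACM_pat, Cfsg.Agent.LsF.dForallFin_eq, Cfsg.Agent.LsF.decide_eq])); decide +kernel)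

end Cfsg.Agent.H861.P9
end

-- part: H861/P9/PSpace
section
/-!
# S5925, box H, piece G1: `pspace` (helper861)

The products `Mh q a b * q a b` of a solution `q` in ten parameters `t i ∈ {0, 1, 2}`.
-/

set_option autoImplicit false

namespace Cfsg.Agent.H861.P9

open Cfsg.Agent.H879.E83
open Cfsg.Agent.H516.BS (io)

variable {F : Type*} [Field F] [CharP F 3] {g : F}

/-- `g ^ e`, or zero for `e = 80` -/
def co (g : F) (e : ℕ) : F := if e = 80 then 0 else g ^ e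

omit [CharP F 3] in
theorem co_zero : co g 80 = 0 := if_pos rfl

omit [CharP F 3] in
theorem co_pow {e : ℕ} (h : e ≠ 80) : co g e = g ^ e := if_neg h

theorem tg_ce (hg : g ^ 4 = 1 - g) (e : ℕ) : tg g (ce e) = co g e := by
  unfold ce co
  split_ifs
  · rw [map_zero]
  · exact tg_cd hg e

omit [CharP F 3] in
theorem sum10 (f : Fin 10 → F) : ∑ i, f i = f 0 + f 1 + f 2 + f 3 + f 4 + f 5 + f 6 + f 7 + f 8 + f 9 := by
  rw [Fin.sum_univ_castSucc, Fin.sum_univ_castSucc, Fin.sum_univ_eight]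
  rfl

/-- the constant -/
def cc (a b : Fin 5) : F := if a = b then 0 else 1

/-- all nine entries at once -/
theorem pspace' {q : Mt F} (hg : g ^ 4 = 1 - g) (h : PNine g q) :
    ∃ t : Fin 10 → F, (∀ i, t i = 0 ∨ t i = 1 ∨ t i = 2) ∧
      ∀ m : Fin 9, Mh q (ea m) (eb m) * q (ea m) (eb m) = cc (ea m) (eb m) + ∑ i, t i * co g (CE m i) := by
  obtain ⟨n, h1, h2, h3, h4⟩ := h.trits
  refine ⟨fun i => io F (∑ k, MT i k * n (rj k) (rl k)), fun i => io_cases _, fun m => ?_⟩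
  rw [h4, P_lf hg h1 h2 h3, lf_congr g _ (c := c0 (ea m) (eb m)) (c' := c0 (ea m) (eb m)) rfl
    (f' := fun k j => ∑ i, MT i k * ce (CE m i) j) (fun k => funext fun j => chkT m k j), ← lf_subst]
  unfold lf
  congr 1
  · unfold c0 cc
    split_ifs
    · rw [map_zero]
    · rw [tg_cd hg, pow_zero]
  · exact Finset.sum_congr rfl fun i _ => by rw [tg_ce hg]

/-- **The P-space.** -/
theorem pspace {q : Mt F} (hg : g ^ 4 = 1 - g) (h : PNine g q) :
    ∃ t : Fin 10 → F, (∀ i, t i = 0 ∨ t i = 1 ∨ t i = 2) ∧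
      Mh q 0 1 * q 0 1 = 1 + t 0 + t 1 * g ^ 1 + t 2 * g ^ 2 + t 3 * g ^ 3 ∧
      Mh q 1 3 * q 1 3 = 1 + t 4 + t 5 * g ^ 25 + t 6 * g ^ 55 ∧
      Mh q 1 1 * q 1 1 = t 0 + t 1 * g ^ 20 + t 2 * g ^ 20 + t 3 * g ^ 60 + t 4 ∧
      Mh q 0 2 * q 0 2 = 1 + t 4 + t 7 * g ^ 20 ∧
      Mh q 0 0 * q 0 0 = t 1 * g ^ 18 + t 2 * g ^ 43 + t 3 * g ^ 54 + t 4 + t 7 * g ^ 60 ∧
      Mh q 0 3 * q 0 3 = 1 + t 5 * g ^ 45 + t 6 * g ^ 25 + t 7 * g ^ 20 + t 8 ∧
      Mh q 0 4 * q 0 4 = 1 + t 0 * g ^ 40 + t 1 * g ^ 43 + t 2 * g ^ 46 + t 3 * g ^ 49 + t 4 + t 5 * g ^ 5 + t 6 * g ^ 65 + t 7 * g ^ 60 + t 8 * g ^ 40 ∧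
      Mh q 3 3 * q 3 3 = t 0 + t 1 * g ^ 43 + t 2 * g ^ 46 + t 3 * g ^ 55 + t 5 * g ^ 42 + t 6 * g ^ 3 + t 8 + t 9 * g ^ 20 ∧
      Mh q 3 4 * q 3 4 = 1 + t 1 * g ^ 20 + t 2 * g ^ 20 + t 3 * g ^ 20 + t 4 + t 5 * g ^ 20 + t 6 * g ^ 20 + t 8 * g ^ 40 + t 9 * g ^ 60 := by
  obtain ⟨t, h1, h2⟩ := pspace' hg h
  refine ⟨t, h1, ?_, ?_, ?_, ?_, ?_, ?_, ?_, ?_, ?_⟩
  · have e : Mh q 0 1 * q 0 1 = 1 + (t 0 * co g 0 + t 1 * co g 1 + t 2 * co g 2 + t 3 * co g 3 + t 4 * co g 80 + t 5 * co g 80 + t 6 * co g 80 + t 7 * co g 80 + t 8 * co g 80 + t 9 * co g 80) := (h2 0).trans (by rw [sum10]; rfl)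
    rw [e, co_zero, co_pow (e := 0) (by decide), co_pow (e := 1) (by decide), co_pow (e := 2) (by decide), co_pow (e := 3) (by decide)]
    ring
  · have e : Mh q 1 3 * q 1 3 = 1 + (t 0 * co g 80 + t 1 * co g 80 + t 2 * co g 80 + t 3 * co g 80 + t 4 * co g 0 + t 5 * co g 25 + t 6 * co g 55 + t 7 * co g 80 + t 8 * co g 80 + t 9 * co g 80) := (h2 1).trans (by rw [sum10]; rfl)
    rw [e, co_zero, co_pow (e := 0) (by decide), co_pow (e := 25) (by decide), co_pow (e := 55) (by decide)]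
    ring
  · have e : Mh q 1 1 * q 1 1 = 0 + (t 0 * co g 0 + t 1 * co g 20 + t 2 * co g 20 + t 3 * co g 60 + t 4 * co g 0 + t 5 * co g 80 + t 6 * co g 80 + t 7 * co g 80 + t 8 * co g 80 + t 9 * co g 80) := (h2 2).trans (by rw [sum10]; rfl)
    rw [e, co_zero, co_pow (e := 0) (by decide), co_pow (e := 20) (by decide), co_pow (e := 60) (by decide)]
    ring
  · have e : Mh q 0 2 * q 0 2 = 1 + (t 0 * co g 80 + t 1 * co g 80 + t 2 * co g 80 + t 3 * co g 80 + t 4 * co g 0 + t 5 * co g 80 + t 6 * co g 80 + t 7 * co g 20 + t 8 * co g 80 + t 9 * co g 80) := (h2 3).trans (by rw [sum10]; rfl)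
    rw [e, co_zero, co_pow (e := 0) (by decide), co_pow (e := 20) (by decide)]
    ring
  · have e : Mh q 0 0 * q 0 0 = 0 + (t 0 * co g 80 + t 1 * co g 18 + t 2 * co g 43 + t 3 * co g 54 + t 4 * co g 0 + t 5 * co g 80 + t 6 * co g 80 + t 7 * co g 60 + t 8 * co g 80 + t 9 * co g 80) := (h2 4).trans (by rw [sum10]; rfl)
    rw [e, co_zero, co_pow (e := 0) (by decide), co_pow (e := 18) (by decide), co_pow (e := 43) (by decide), co_pow (e := 54) (by decide), co_pow (e := 60) (by decide)]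
    ring
  · have e : Mh q 0 3 * q 0 3 = 1 + (t 0 * co g 80 + t 1 * co g 80 + t 2 * co g 80 + t 3 * co g 80 + t 4 * co g 80 + t 5 * co g 45 + t 6 * co g 25 + t 7 * co g 20 + t 8 * co g 0 + t 9 * co g 80) := (h2 5).trans (by rw [sum10]; rfl)
    rw [e, co_zero, co_pow (e := 0) (by decide), co_pow (e := 20) (by decide), co_pow (e := 25) (by decide), co_pow (e := 45) (by decide)]
    ring
  · have e : Mh q 0 4 * q 0 4 = 1 + (t 0 * co g 40 + t 1 * co g 43 + t 2 * co g 46 + t 3 * co g 49 + t 4 * co g 0 + t 5 * co g 5 + t 6 * co g 65 + t 7 * co g 60 + t 8 * co g 40 + t 9 * co g 80) := (h2 6).trans (by rw [sum10]; rfl)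
    rw [e, co_zero, co_pow (e := 0) (by decide), co_pow (e := 5) (by decide), co_pow (e := 40) (by decide), co_pow (e := 43) (by decide), co_pow (e := 46) (by decide), co_pow (e := 49) (by decide), co_pow (e := 60) (by decide), co_pow (e := 65) (by decide)]
    ring
  · have e : Mh q 3 3 * q 3 3 = 0 + (t 0 * co g 0 + t 1 * co g 43 + t 2 * co g 46 + t 3 * co g 55 + t 4 * co g 80 + t 5 * co g 42 + t 6 * co g 3 + t 7 * co g 80 + t 8 * co g 0 + t 9 * co g 20) := (h2 7).trans (by rw [sum10]; rfl)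
    rw [e, co_zero, co_pow (e := 0) (by decide), co_pow (e := 3) (by decide), co_pow (e := 20) (by decide), co_pow (e := 42) (by decide), co_pow (e := 43) (by decide), co_pow (e := 46) (by decide), co_pow (e := 55) (by decide)]
    ring
  · have e : Mh q 3 4 * q 3 4 = 1 + (t 0 * co g 80 + t 1 * co g 20 + t 2 * co g 20 + t 3 * co g 20 + t 4 * co g 0 + t 5 * co g 20 + t 6 * co g 20 + t 7 * co g 80 + t 8 * co g 40 + t 9 * co g 60) := (h2 8).trans (by rw [sum10]; rfl)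
    rw [e, co_zero, co_pow (e := 0) (by decide), co_pow (e := 20) (by decide), co_pow (e := 40) (by decide), co_pow (e := 60) (by decide)]
    ring

end Cfsg.Agent.H861.P9
end

-- part: H780/P9/Iface
section
/-!
# S5925, box H: the interface of the WP lemmas (helper780)

`q` : the solution of `PNine`; `p = gau 1 (tau m) q` (torus gauge); `t` : the ten trits of helper861's `pspace`.
Scalar lists `K29 K33 K38 K40 K51`, lane lists `LC LS2 LS3`.

PLAN v3. WHO PROVES WHAT (names of the theorems, in your own file):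
* `wp_D1 (c : Ctx g q p m t) (x y : F) (s : Fin 11 → F) : WD1 g q p t x y s`
* `wp_S3 (c) (x y) (h : ∀ s, WD1 g q p t x y s) : WS3 g q p t x y`
* `wp_S2 (c) (h : WS3 g q p t 0 0) : WS2 g q p t`
* `wp_S2i (c) (h13 : p 1 3 = 1) (hq : ∃ i < 4, q 1 3 = g ^ i) (h : ∀ x y, WS3 g q p t x y) : WS2x g q p t plS2i`
* `wp_S2j (c) (h14 : p 1 4 = 1) (hq : ∃ i < 4, q 1 4 = g ^ i) (h : ∀ x y, WS3 g q p t x y) : WS2x g q p t plS2j`
* `wp_Alpha (c) (h13 : p 1 3 = 1) (h14 : p 1 4 ≠ 0) (h : WS2 g q p t) : WC g q p t plAlpha`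
* `wp_Alpha0` the same with `(h : WS2x g q p t plS2i) : WC g q p t plAlpha0`
* `wp_Beta1 (c) (h13 : p 1 3 = 1) (h14 : p 1 4 = 0) (h : WS2 g q p t) : WC g q p t plBeta1`
* `wp_Beta10` the same with `(h : WS2x g q p t plS2i) : WC g q p t plBeta10`
* `wp_Beta2 (c) (h13 : p 1 3 = 0) (h14 : p 1 4 = 1) (h : WS2 g q p t) : WC g q p t plBeta2`
* `wp_Beta20` the same with `(h : WS2x g q p t plS2j) : WC g q p t plBeta20`
* `wp_Beta3 (c) (hpq : p = q) (h13 : p 1 3 = 0) (h14 : p 1 4 = 0) (h : WS3 g q p t 0 0) : WC g q p t plBeta3`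
* `wp_Z0 (c) (hpq : p = q) (h01 : p 0 1 = 0) (h12 : p 1 2 = 0) (h13 : p 1 3 = 0) (h14 : p 1 4 = 0) (hn : NZ g q)
     (h : ∀ x y, WS3 g q p t x y) : WC g q p t plZ0`
-/

set_option autoImplicit false
set_option linter.style.longLine false

namespace Cfsg.Agent.H780.P9
open Matrix Cfsg.Agent.H879.E83

section
variable {F : Type*} [Field F] {g : F}

/-! ### rules for WP (use only these) -/
section rules
variable {G : Prop} {ks ls : List F}

theorem WP_kf {e : Ex} {p : Plan} {x : F} (hx : e.eval g ks [] = x) (h : WP g G p (ks ++ [x]) ls) :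
    WP g G (.kf e p) ks ls := by subst hx; exact h

theorem WP_kfl {cs : List Ex} {p : Plan} (hx : ∀ c ∈ cs, c.eval g ks [] = 0) (h : WP g G p ks ls) :
    WP g G (.kfl cs p) ks ls := ⟨hx, h⟩

theorem WP_ksp {e : Ex} {p q : Plan} (h0 : e.eval g ks [] = 0 → WP g G p ks ls) (h1 : e.eval g ks [] ≠ 0 → WP g G q ks ls) :
    WP g G (.ksp e p q) ks ls := ⟨h0, h1⟩

theorem WP_alt {es : List Ex} {p : Plan} {x : F} (e : Ex) (he : e ∈ es) (hx : e.eval g ks [] = x) (h : WP g G p (ks ++ [x]) ls) :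
    WP g G (.alt es p) ks ls := by subst hx; exact ⟨e, he, h⟩

theorem WP_or_left {p q : Plan} (h : WP g G p ks ls) : WP g G (.or p q) ks ls := Or.inl h

theorem WP_or_right {p q : Plan} (h : WP g G q ks ls) : WP g G (.or p q) ks ls := Or.inr h

theorem WP_ex {p : Plan} (y : F) (hy : y ^ 81 = y) (h : WP g G p ks (ls ++ [y, y ^ 79])) : WP g G (.ex p) ks ls := ⟨y, hy, h⟩

theorem WP_exn {p : Plan} (y : F) (hy : y ^ 80 = 1) (h : WP g G p ks (ls ++ [y, y ^ 79])) : WP g G (.exn p) ks ls := ⟨y, hy, h⟩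

theorem WP_df {e : Ex} {p : Plan} {x : F} (hx : e.eval g ks ls = x) (h : WP g G p ks (ls ++ [x])) :
    WP g G (.df e p) ks ls := by subst hx; exact h

/-- filter and select -/
theorem WP_fl {cs : List Ex} {js : List ℕ} {p : Plan} {ls' : List F} (hx : ∀ c ∈ cs, c.eval g ks ls = 0)
    (hj : (js.map fun j => ls.getD j 0) = ls') (h : WP g G p ks ls') : WP g G (.fl cs js p) ks ls := by
  subst hj; exact ⟨hx, h⟩

theorem WP_sel {js : List ℕ} {p : Plan} {ls' : List F} (hx : (js.map fun j => ls.getD j 0) = ls') (h : WP g G p ks ls') :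
    WP g G (.sel js p) ks ls := by subst hx; exact h

theorem WP_leaf {ds : List Ex} (h : (∀ d ∈ ds, d.eval g ks ls = 0) → G) : WP g G (.leaf ds) ks ls := h

end rules

/-! ### the data -/

/-- `J_a J_b P_ab` -/
def QQ (p : Mt F) (a b : Fin 5) : F := p a b * p (sgm a) (sgm b) ^ 9

def B02 (t : Fin 10 → F) : F := 1 + t 4
def B00 (g : F) (t : Fin 10 → F) : F := g ^ 18 * t 1 + g ^ 43 * t 2 + g ^ 54 * t 3 + t 4
def B03 (g : F) (t : Fin 10 → F) : F := 1 + g ^ 45 * t 5 + g ^ 25 * t 6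
def B04 (g : F) (t : Fin 10 → F) : F :=
  1 + g ^ 40 * t 0 + g ^ 43 * t 1 + g ^ 46 * t 2 + g ^ 49 * t 3 + t 4 + g ^ 5 * t 5 + g ^ 65 * t 6

/-- the solution -/
def solE : Fin 5 → Fin 5 → ℕ := ![![63, 0, 4, 35, 72], ![0, 1, 10, 44, 4], ![4, 10, 3, 42, 5], ![35, 44, 42, 65, 33], ![72, 4, 5, 33, 65]]

def Sol (g : F) (q : Mt F) : Prop := ∀ a b, q a b = g ^ solE a b

/-- the context -/
structure Ctx (g : F) (q p : Mt F) (m : F) (t : Fin 10 → F) : Prop where
  hg : g ^ 4 = 1 - g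
  h3 : (3 : F) = 0
  nine : PNine g q
  m80 : m ^ 80 = 1
  hp : p = gau 1 (tau m) q
  tr : ∀ i, t i = 0 ∨ t i = 1 ∨ t i = -1
  Q01 : QQ p 0 1 = 1 + t 0 + g ^ 1 * t 1 + g ^ 2 * t 2 + g ^ 3 * t 3
  Q13 : QQ p 1 3 = -(1 + t 4 + g ^ 25 * t 5 + g ^ 55 * t 6)
  Q11 : QQ p 1 1 = t 0 + g ^ 20 * t 1 + g ^ 20 * t 2 + g ^ 60 * t 3 + t 4
  Q02 : QQ p 0 2 = B02 t + g ^ 20 * t 7
  Q00 : QQ p 0 0 = B00 g t + g ^ 60 * t 7
  Q03 : QQ p 0 3 = -(B03 g t + g ^ 20 * t 7 + t 8)
  Q04 : QQ p 0 4 = -(B04 g t + g ^ 60 * t 7 + -t 8)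
  Q33 : QQ p 3 3 = t 0 + g ^ 43 * t 1 + g ^ 46 * t 2 + g ^ 55 * t 3 + g ^ 42 * t 5 + g ^ 3 * t 6 + t 8 + g ^ 20 * t 9
  Q34 : QQ p 3 4 = 1 + g ^ 20 * (t 1 + t 2 + t 3 + t 5 + t 6) + t 4 + -t 8 + g ^ 60 * t 9

/-- scalars 0 .. 28 -/
def K29 (g : F) (p : Mt F) (t : Fin 10 → F) : List F :=
  [t 0, t 1, t 2, t 3, t 4, t 5, t 6, QQ p 0 1, QQ p 1 3, QQ p 1 1, B02 t, B00 g t, B03 g t, B04 g t,
   p 1 1, p 0 1, p 1 2, p 1 3, p 1 4, p 1 1 ^ 9, p 0 1 ^ 9, p 1 2 ^ 9, p 1 3 ^ 9, p 1 4 ^ 9, (p 1 4 ^ 9) ^ 79,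
   p 0 1 * p 1 1 ^ 9, p 1 2 * p 1 1 ^ 9, p 0 1 * p 0 1 ^ 9, p 1 2 * p 1 2 ^ 9]

/-- scalars 0 .. 32 (`29` = t8, `30 31 32` = Q02, Q00, bar Q00) -/
def K33 (g : F) (p : Mt F) (t : Fin 10 → F) : List F := K29 g p t ++ [t 7, QQ p 0 2, QQ p 0 0, QQ p 0 0 ^ 9]

/-- scalars 0 .. 37 (`33` = t9, `34 35 36 37` = Q03, Q04, bar Q03, bar Q04) -/
def K38 (g : F) (p : Mt F) (t : Fin 10 → F) : List F :=
  K33 g p t ++ [t 8, QQ p 0 3, QQ p 0 4, QQ p 0 3 ^ 9, QQ p 0 4 ^ 9]

def K40 (g : F) (p : Mt F) (t : Fin 10 → F) (x y : F) : List F := K38 g p t ++ [x, y]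

def K51 (g : F) (p : Mt F) (t : Fin 10 → F) (x y : F) (s : Fin 11 → F) : List F :=
  K40 g p t x y ++ [s 0, s 1, s 2, s 3, s 4, s 5, s 6, s 7, s 8, s 9, s 10]

/-- lanes of the continuations -/
def LC (p : Mt F) : List F :=
  [p 0 2, p 0 0, p 2 2,
   p 0 0 * p 1 2 ^ 9 + p 0 1 * p 1 1 ^ 9 + p 0 2 * p 0 1 ^ 9,
   p 0 2 * p 1 2 ^ 9 + p 1 2 * p 1 1 ^ 9 + p 2 2 * p 0 1 ^ 9,
   p 0 1 * p 0 1 ^ 9 + (p 0 0 * p 0 2 ^ 9 + (p 0 0 * p 0 2 ^ 9) ^ 9),
   p 1 2 * p 1 2 ^ 9 + (p 0 2 * p 2 2 ^ 9 + (p 0 2 * p 2 2 ^ 9) ^ 9)]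

def LS2 (p : Mt F) : List F := [p 0 0, p 0 2, p 2 2, p 0 3, p 2 4, p 0 4, p 2 3]

def LS3 (q : Mt F) : List F := [q 0 0, q 0 2, q 2 2, q 0 3, q 2 3, q 1 3, q 0 4, q 2 4, q 1 4]

/-! ### the statements -/

def WD1 (g : F) (q p : Mt F) (t : Fin 10 → F) (x y : F) (s : Fin 11 → F) : Prop :=
  WP g (Sol g q) plD1 (K51 g p t x y s) (LS3 q)

def WS3 (g : F) (q p : Mt F) (t : Fin 10 → F) (x y : F) : Prop := WP g (Sol g q) plS3 (K40 g p t x y) (LS3 q)

def WS2 (g : F) (q p : Mt F) (t : Fin 10 → F) : Prop := WP g (Sol g q) plS2 (K40 g p t 0 0) (LS2 p)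

/-- the variants `plS2i`, `plS2j` (no dummy scalars) -/
def WS2x (g : F) (q p : Mt F) (t : Fin 10 → F) (pl : Plan) : Prop := WP g (Sol g q) pl (K38 g p t) (LS2 p)

/-- normal form of the branch `q01 = q12 = q13 = q14 = 0` -/
def NZ (g : F) (q : Mt F) : Prop :=
  (∃ i < 5, q 0 4 = g ^ i) ∨ (q 0 4 = 0 ∧ ∃ i < 5, q 2 3 = g ^ i) ∨
    (q 0 4 = 0 ∧ q 2 3 = 0 ∧ ∃ i < 5, q 0 3 = g ^ i) ∨
    (q 0 4 = 0 ∧ q 2 3 = 0 ∧ q 0 3 = 0 ∧ (q 2 4 = 0 ∨ ∃ i < 5, q 2 4 = g ^ i))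

def WC (g : F) (q p : Mt F) (t : Fin 10 → F) (pl : Plan) : Prop := WP g (Sol g q) pl (K33 g p t) (LC p)

/-! ### consequences of the context -/

variable {q p : Mt F} {m : F} {t : Fin 10 → F}

theorem Ctx.four (c : Ctx g q p m t) : PFour g p := by
  rw [c.hp]; exact c.nine.four.gauge (Gk_tau c.m80) (one_pow _)

theorem Ctx.sym (c : Ctx g q p m t) (a b : Fin 5) : p a b = p b a := by
  conv_lhs => rw [← c.four.sym, Matrix.transpose_apply]

theorem Ctx.symq (c : Ctx g q p m t) (a b : Fin 5) : q a b = q b a := by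
  conv_lhs => rw [← c.nine.sym, Matrix.transpose_apply]

theorem Ctx.p81 (c : Ctx g q p m t) (a b : Fin 5) : p a b ^ 81 = p a b := c.four.pow81 a b

theorem Ctx.q81 (c : Ctx g q p m t) (a b : Fin 5) : q a b ^ 81 = q a b := c.nine.pow81 a b

theorem Ctx.papp (c : Ctx g q p m t) (a b : Fin 5) : p a b = tau m a * tau m b * q a b := by
  rw [c.hp, gau, one_mul]

/-- the hermitian equations, expanded: `∑ J_b bar q_{σ a, σ b} q_{b c} = J_a δ_ac` -/
theorem herm_exp {p : Mt F} (h : Mh p * p = 1) (a c : Fin 5) :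
    p (sgm a) 2 ^ 9 * p 0 c + p (sgm a) 1 ^ 9 * p 1 c + p (sgm a) 0 ^ 9 * p 2 c - p (sgm a) 4 ^ 9 * p 3 c
      - p (sgm a) 3 ^ 9 * p 4 c = if a = c then Jv a else 0 := by
  have e := congrFun (congrFun h a) c
  rw [Matrix.mul_apply, Fin.sum_univ_five] at e
  have s0 : sgm (0 : Fin 5) = 2 := by decide
  have s1 : sgm (1 : Fin 5) = 1 := by decide
  have s2 : sgm (2 : Fin 5) = 0 := by decide
  have s3 : sgm (3 : Fin 5) = 4 := by decide
  have s4 : sgm (4 : Fin 5) = 3 := by decide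
  have j0 : Jv (0 : Fin 5) = (1 : F) := rfl
  have j1 : Jv (1 : Fin 5) = (1 : F) := rfl
  have j2 : Jv (2 : Fin 5) = (1 : F) := rfl
  have j3 : Jv (3 : Fin 5) = (-1 : F) := rfl
  have j4 : Jv (4 : Fin 5) = (-1 : F) := rfl
  have jj : Jv a * Jv a = (1 : F) := by
    have : ∀ a : Fin 5, Jv a * Jv a = (1 : F) := by
      intro a; fin_cases a <;> simp [Jv]
    exact this a
  simp only [Mh, s0, s1, s2, s3, s4, j0, j1, j2, j3, j4] at e
  by_cases hac : a = c
  · rw [if_pos hac]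
    rw [Matrix.one_apply, if_pos hac] at e
    linear_combination Jv a * e - (p (sgm a) 2 ^ 9 * p 0 c + p (sgm a) 1 ^ 9 * p 1 c + p (sgm a) 0 ^ 9 * p 2 c
      - p (sgm a) 4 ^ 9 * p 3 c - p (sgm a) 3 ^ 9 * p 4 c) * jj
  · rw [if_neg hac]
    rw [Matrix.one_apply, if_neg hac] at e
    linear_combination Jv a * e - (p (sgm a) 2 ^ 9 * p 0 c + p (sgm a) 1 ^ 9 * p 1 c + p (sgm a) 0 ^ 9 * p 2 c
      - p (sgm a) 4 ^ 9 * p 3 c - p (sgm a) 3 ^ 9 * p 4 c) * jj

/-- the hermitian equations for `σ a`: `∑ J_b bar q_{a, σ b} q_{b c}` -/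
theorem herm_exp' {p : Mt F} (h : Mh p * p = 1) (a c : Fin 5) :
    p a 2 ^ 9 * p 0 c + p a 1 ^ 9 * p 1 c + p a 0 ^ 9 * p 2 c - p a 4 ^ 9 * p 3 c
      - p a 3 ^ 9 * p 4 c = if sgm a = c then Jv (sgm a) else 0 := by
  have e := herm_exp h (sgm a) c
  rwa [sgm_sgm] at e

end
end Cfsg.Agent.H780.P9
end

private theorem dce_f4a83a18dd70 : _root_.True := by
  try have : _root_.True := by simp only [_root_.Cfsg.Agent.H879.E83.cr5.eq_1]
  try have : _root_.True := by simp only [_root_.Cfsg.Agent.H780.P9.cj.eq_1]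
  try have : _root_.True := by simp only [_root_.Cfsg.Agent.H861.P9.pw.eq_def]
  try have : _root_.True := by simp only [_root_.Cfsg.Agent.H780.P9.ZG.eq_1]
  try have : _root_.True := by simp only [_root_.Cfsg.Agent.H861.P9.cf.eq_1]
  try have : _root_.True := by simp only [_root_.Cfsg.Agent.H861.P9.tg.congr_simp]
  try have : _root_.True := by simp only [_root_.Cfsg.Agent.H780.P9.kap1.eq_1]
  try have : _root_.True := by simp only [_root_.Cfsg.Agent.H879.E83.Jv.eq_1]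
  try have : _root_.True := by simp only [_root_.Cfsg.Agent.H861.P9.pw.eq_2]
  try have : _root_.True := by simp only [_root_.Cfsg.Agent.H780.P9.ZZ.eq_1]
  try have : _root_.True := by simp only [_root_.Cfsg.Agent.H861.P9.pw.eq_1]
  try have : _root_.True := by simp only [_root_.Cfsg.Agent.H780.P9.AA.eq_1]
  try have : _root_.True := by simp only [_root_.Cfsg.Agent.H780.P9.BG.eq_1]
  try have : _root_.True := by simp only [_root_.Cfsg.Agent.H780.P9.RR.eq_1]
  try have : _root_.True := by simp only [_root_.Cfsg.Agent.H780.P9.AG.eq_1]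
  try have : _root_.True := by simp only [_root_.Cfsg.Agent.H780.P9.CM.eq_1]
  try have : _root_.True := by simp only [_root_.Cfsg.Agent.H879.E83.Mh.eq_1]
  try have : _root_.True := by simp only [_root_.Cfsg.Agent.H780.P9.gau.eq_1]
  try have : _root_.True := by simp only [_root_.Cfsg.Agent.H861.P9.step.eq_1]
  exact _root_.True.intro
end
end
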